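import Mathlib
import Cfsg.Prelude.Def_OddOrderLocal
import Cfsg.Agent.Lib.Helper34.SigmaFusionAux
import Cfsg.Agent.Lib.Helper34.NonSigma
import Cfsg.Agent.Lib.Helper54.BGTransitivity

/-!
# Non-abelian `p`-subgroups lie in a unique maximal subgroup (`S1422`, BG 12.14-type), conditional
version (helper30)

Hypotheses: the literal shapes of S1350 (`M_σ` Hall), S1420 (first clause: nilpotent
`σ(M)'`-subgroups of `M` are abelian) and S1423 (first clause: uniqueness for `C_G(X)`,
`X ≤ (M_σ)'` of order `p`).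
-/

set_option autoImplicit false
set_option linter.unusedSectionVars false

namespace Cfsg.Agent.Lib.Helper30.BGNonab

open Cfsg
open scoped commutatorElement

variable {G : Type*} [Group G] [Finite G]

/-- Schur–Zassenhaus: a complement `E` to `M_σ` in `M`, given that `M_σ` is a Hall subgroup of `M`. -/
theorem exists_isComplIn (M : Subgroup G) (hHall : IsPiHallOf (sigma M) (sigmaCore M) M) :
    ∃ E : Subgroup G, IsComplIn E (sigmaCore M) M := by
  set A' : Subgroup ↥M := piCore (sigma M) ↥M with hA'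
  have hAmap : A'.map M.subtype = sigmaCore M := rfl
  have hsub : (sigmaCore M).subgroupOf M = A' := by
    rw [← hAmap]
    exact Subgroup.comap_map_eq_self_of_injective M.subtype_injective A'
  have hcop : (Nat.card A').Coprime A'.index := by
    apply Nat.coprime_of_dvd
    intro r hr hr1 hr2
    have h1 : r ∣ Nat.card (sigmaCore M) := by
      rw [← hAmap, Subgroup.card_map_of_injective M.subtype_injective]; exact hr1
    have hrσ : r ∈ sigma M := hHall.2.1 r hr h1
    apply hHall.2.2 r hr hrσ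
    rw [Subgroup.relIndex, hsub]; exact hr2
  obtain ⟨H, hH⟩ := Subgroup.exists_left_complement'_of_coprime hcop
  refine ⟨H.map M.subtype, Subgroup.map_subtype_le _, hHall.1, ?_, ?_⟩
  · rw [eq_bot_iff]
    rintro x ⟨⟨h, hh, rfl⟩, ⟨a, ha, hax⟩⟩
    have h1 : a = h := Subtype.ext hax
    have h2 : h ∈ H ⊓ A' := ⟨hh, h1 ▸ ha⟩
    rw [hH.disjoint.eq_bot, Subgroup.mem_bot] at h2
    rw [Subgroup.mem_bot, h2]; rfl
  · intro m hm
    obtain ⟨⟨h, a⟩, hha, -⟩ := hH.existsUnique ⟨m, hm⟩
    refine ⟨(h : G), ⟨h, h.2, rfl⟩, (a : G), ⟨a, a.2, rfl⟩, ?_⟩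
    have := congrArg Subtype.val hha
    simpa using this.symm

/-- a `p`-subgroup of `M`, `p ∈ σ(M)`, lies in `M_σ` when `M_σ` is a Hall `σ(M)`-subgroup -/
theorem le_sigmaCore_of_isPGroup (M : Subgroup G) (hHall : IsPiHallOf (sigma M) (sigmaCore M) M)
    {p : ℕ} [hp : Fact p.Prime] (hpσ : p ∈ sigma M) {P : Subgroup G} (hP : IsPGroup p P)
    (hPM : P ≤ M) : P ≤ sigmaCore M := by
  set A' : Subgroup ↥M := piCore (sigma M) ↥M with hA'
  have hAmap : A'.map M.subtype = sigmaCore M := rfl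
  have hsub : (sigmaCore M).subgroupOf M = A' := by
    rw [← hAmap]
    exact Subgroup.comap_map_eq_self_of_injective M.subtype_injective A'
  have hidx : A'.index.Coprime p := by
    apply Nat.Coprime.symm
    rw [Nat.Prime.coprime_iff_not_dvd hp.out]
    intro h
    apply hHall.2.2 p hp.out hpσ
    rw [Subgroup.relIndex, hsub]; exact h
  obtain ⟨R, hR⟩ := (hP.comap_subtype (K := M)).exists_le_sylow
  have h1 := Cfsg.Agent.Lib.Helper34.sylow_le_of_normal_of_index_coprime R A' hidx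
  have h2 := Subgroup.map_mono (f := M.subtype) (hR.trans h1)
  have h3 : (P.comap M.subtype).map M.subtype = P := Subgroup.map_subgroupOf_eq_of_le hPM
  rw [h3, hAmap] at h2
  exact h2

/-- **S1422, conditional form.** -/
theorem s1422_of (hG : IsMinSimpleOddOrder G)
    (hHall : ∀ M : Subgroup G, IsCoatom M → IsPiHallOf (sigma M) (sigmaCore M) M)
    (h1420 : ∀ M : Subgroup G, IsCoatom M → ∀ E : Subgroup G, IsComplIn E (sigmaCore M) M →
      ∀ N : Subgroup G, N ≤ M → Group.IsNilpotent N →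
        (∀ p : ℕ, p.Prime → p ∣ Nat.card N → p ∉ sigma M) → IsMulCommutative N)
    (h1423 : ∀ M : Subgroup G, IsCoatom M → ∀ (p : ℕ) [Fact p.Prime], p ∈ sigma M →
      ∀ X : Subgroup G, X ≤ M → Nat.card X = p → X ≤ ⁅sigmaCore M, sigmaCore M⁆ →
        (Subgroup.centralizer (X : Set G) ≤ M ∧
          ∀ L : Subgroup G, IsCoatom L → Subgroup.centralizer (X : Set G) ≤ L → L = M))
    (p : ℕ) [hp : Fact p.Prime] (P : Subgroup G) (hP : IsPGroup p P)
    (hPna : ¬ IsMulCommutative P) : InUniqueMaximal P := by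
  have hs : IsSimpleGroup G := hG.2.1
  -- `P` is proper
  have hPtop : P ≠ ⊤ := by
    intro h
    apply hG.2.2.1
    have hGp : IsPGroup p G := by
      intro g
      obtain ⟨k, hk⟩ := hP ⟨g, h ▸ Subgroup.mem_top g⟩
      exact ⟨k, by simpa using congrArg Subtype.val hk⟩
    have : Group.IsNilpotent G := hGp.isNilpotent
    exact ⟨⟨IsSimpleGroup.comm_iff_isSolvable.mpr inferInstance⟩⟩
  -- an element of order `p` in `P'`
  have hD1 : (⁅P, P⁆ : Subgroup G) ≠ ⊥ := fun h => hPna (Subgroup.commutator_self_eq_bot_iff.mp h)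
  have hDP : (⁅P, P⁆ : Subgroup G) ≤ P := Subgroup.commutator_le_self P
  have hDp : IsPGroup p (⁅P, P⁆ : Subgroup G) := hP.to_le hDP
  have hpd : p ∣ Nat.card (⁅P, P⁆ : Subgroup G) :=
    Cfsg.Agent.Lib.Helper34.dvd_card_of_isPGroup_ne_bot hDp hD1
  obtain ⟨x, hx⟩ := exists_prime_orderOf_dvd_card' (G := ↥(⁅P, P⁆ : Subgroup G)) p hpd
  set X : Subgroup G := Subgroup.zpowers (x : G) with hX
  have hXcard : Nat.card X = p := by
    rw [hX, Nat.card_zpowers, Subgroup.orderOf_coe]; exact hx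
  have hXD : X ≤ ⁅P, P⁆ := by rw [hX, Subgroup.zpowers_le]; exact x.2
  -- the local analysis at a maximal subgroup containing `P`
  have key : ∀ L : Subgroup G, IsCoatom L → P ≤ L →
      (Subgroup.centralizer (X : Set G) ≤ L ∧
        ∀ L' : Subgroup G, IsCoatom L' → Subgroup.centralizer (X : Set G) ≤ L' → L' = L) := by
    intro L hL hPL
    have hpσ : p ∈ sigma L := by
      by_contra hnot
      obtain ⟨E, hE⟩ := exists_isComplIn L (hHall L hL)
      apply hPna
      refine h1420 L hL E hE P hPL hP.isNilpotent ?_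
      intro q hq hqd hqσ
      obtain ⟨k, hk⟩ := IsPGroup.iff_card.mp hP
      rw [hk] at hqd
      have := (Nat.prime_dvd_prime_iff_eq hq hp.out).mp (hq.dvd_of_dvd_pow hqd)
      exact hnot (this ▸ hqσ)
    have hPσ : P ≤ sigmaCore L := le_sigmaCore_of_isPGroup L (hHall L hL) hpσ hP hPL
    have hXσ : X ≤ ⁅sigmaCore L, sigmaCore L⁆ := hXD.trans (Subgroup.commutator_mono hPσ hPσ)
    exact h1423 L hL p hpσ X ((hXD.trans hDP).trans hPL) hXcard hXσ
  obtain ⟨M, hM, hPM⟩ := (eq_top_or_exists_le_coatom P).resolve_left hPtop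
  refine ⟨M, ⟨hM, hPM⟩, ?_⟩
  rintro L ⟨hL, hPL⟩
  exact (key M hM hPM).2 L hL (key L hL hPL).1

end Cfsg.Agent.Lib.Helper30.BGNonab
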