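import Mathlib
import Cfsg.Prelude.Def_Transfer
import Cfsg.Agent.S1386
import Cfsg.Agent.Lib.Helper22.Solvable
import Cfsg.Agent.Lib.Helper9.NPCLemmas
import Cfsg.Agent.Lib.Helper4.SylowTwo

/-!
Basic lemmas for the analysis of groups with a cyclic Sylow `p`-subgroup all of whose
`p'`-subgroups are abelian (statement S4016).
-/

set_option autoImplicit false

namespace Cfsg.Agent.Lib.Helper30.CycSyl

open Cfsg

variable {G : Type*} [Group G]

/-- A nontrivial `p`-subgroup contains an element of order `p`. -/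
theorem exists_orderOf_eq_of_ne_bot {K : Type*} [Group K] [Finite K] (p : ℕ) [Fact p.Prime]
    {A : Subgroup K} (hAp : IsPGroup p A) (hA1 : A ≠ ⊥) : ∃ a ∈ A, orderOf a = p := by
  obtain ⟨k, hk⟩ := hAp.exists_card_eq
  have hk0 : k ≠ 0 := by
    rintro rfl
    rw [pow_zero] at hk
    exact hA1 (Subgroup.card_eq_one.mp hk)
  have hdvd : p ∣ Nat.card A := by
    rw [hk]; exact dvd_pow_self p hk0
  obtain ⟨a, ha⟩ := exists_prime_orderOf_dvd_card' p hdvd
  refine ⟨a, a.2, ?_⟩
  rw [← ha]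
  exact (Subgroup.orderOf_coe a)

/-- Two nontrivial subgroups of a cyclic `p`-group share an element of order `p`. -/
theorem exists_mem_inf_of_cyclic {K : Type*} [Group K] [Finite K] (p : ℕ) [Fact p.Prime]
    (P : Subgroup K) (hP : IsCyclic P) (hPp : IsPGroup p P) {A B : Subgroup K}
    (hA : A ≤ P) (hB : B ≤ P) (hA1 : A ≠ ⊥) (hB1 : B ≠ ⊥) :
    ∃ z, z ∈ A ∧ z ∈ B ∧ orderOf z = p := by
  obtain ⟨a, haA, hao⟩ := exists_orderOf_eq_of_ne_bot p (hPp.to_le hA) hA1
  obtain ⟨b, hbB, hbo⟩ := exists_orderOf_eq_of_ne_bot p (hPp.to_le hB) hB1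
  refine ⟨b, ?_, hbB, hbo⟩
  have h1 : Nat.card (Subgroup.zpowers (⟨a, hA haA⟩ : P)) = p := by
    rw [Nat.card_zpowers, ← hao]
    exact Subgroup.orderOf_mk a (hA haA)
  have h2 : Nat.card (Subgroup.zpowers (⟨b, hB hbB⟩ : P)) = p := by
    rw [Nat.card_zpowers, ← hbo]
    exact Subgroup.orderOf_mk b (hB hbB)
  have h3 := Cfsg.Agent.S1386.subgroup_eq_of_card_eq_of_isCyclic
    (Subgroup.zpowers (⟨a, hA haA⟩ : P)) (Subgroup.zpowers (⟨b, hB hbB⟩ : P)) (h1.trans h2.symm)
  have h4 : (⟨b, hB hbB⟩ : P) ∈ Subgroup.zpowers (⟨a, hA haA⟩ : P) := by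
    rw [h3]; exact Subgroup.mem_zpowers _
  obtain ⟨n, hn⟩ := Subgroup.mem_zpowers_iff.mp h4
  have h5 : a ^ n = b := by
    have := congrArg Subtype.val hn
    simpa using this
  rw [← h5]
  exact A.zpow_mem haA n

/-- The kernel of reduction `(ZMod N)ˣ → (ZMod p)ˣ` is a `p`-group when `N` is a power of `p`. -/
theorem isPGroup_ker_unitsMap (p : ℕ) [Fact p.Prime] {N n : ℕ} (hN : N = p ^ n) (hn : 0 < n)
    (hdvd : p ∣ N) : IsPGroup p (ZMod.unitsMap hdvd).ker := by
  have hpp : p.Prime := Fact.out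
  have hN0 : NeZero N := ⟨by rw [hN]; exact pow_ne_zero _ hpp.ne_zero⟩
  have hsurj : Function.Surjective (ZMod.unitsMap hdvd) := ZMod.unitsMap_surjective hdvd
  have h1 : Nat.card (ZMod N)ˣ = p ^ (n - 1) * (p - 1) := by
    rw [Nat.card_eq_fintype_card, ZMod.card_units_eq_totient, hN, Nat.totient_prime_pow hpp hn]
  have h2 : Nat.card (ZMod p)ˣ = p - 1 := by
    rw [Nat.card_eq_fintype_card, ZMod.card_units]
  have h3 : Nat.card (ZMod.unitsMap hdvd).ker * (ZMod.unitsMap hdvd).ker.index =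
      Nat.card (ZMod N)ˣ := Subgroup.card_mul_index _
  rw [Subgroup.index_ker, MonoidHom.range_eq_top.mpr hsurj, Subgroup.card_top, h1, h2] at h3
  have hp1 : 0 < p - 1 := by have := hpp.two_le; omega
  have h4 : Nat.card (ZMod.unitsMap hdvd).ker = p ^ (n - 1) := Nat.eq_of_mul_eq_mul_right hp1 h3
  exact IsPGroup.of_card h4

/-- Splitting an element of finite order into commuting `p`- and `p'`-parts. -/
theorem exists_parts [Finite G] (p : ℕ) [hp : Fact p.Prime] (g : G) :
    ∃ u v : G, u * v = g ∧ u ∈ Subgroup.zpowers g ∧ v ∈ Subgroup.zpowers g ∧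
      (∃ k : ℕ, u ^ (p ^ k) = 1) ∧ (orderOf v).Coprime p := by
  have hn0 : orderOf g ≠ 0 := (orderOf_pos g).ne'
  obtain ⟨k, m, hm, hnm⟩ := Nat.exists_eq_pow_mul_and_not_dvd hn0 p hp.out.ne_one
  have hcop : Nat.Coprime m (p ^ k) :=
    (Nat.Coprime.pow_right k ((Nat.Prime.coprime_iff_not_dvd hp.out).mpr hm).symm)
  have hbez : (m : ℤ) * Nat.gcdA m (p ^ k) + ((p ^ k : ℕ) : ℤ) * Nat.gcdB m (p ^ k) = 1 := by
    have := Nat.gcd_eq_gcd_ab m (p ^ k)
    rw [hcop.gcd_eq_one] at this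
    simpa using this.symm
  refine ⟨(g ^ m) ^ (Nat.gcdA m (p ^ k)), (g ^ (p ^ k)) ^ (Nat.gcdB m (p ^ k)), ?_, ?_, ?_, ?_, ?_⟩
  · rw [← zpow_natCast g m, ← zpow_natCast g (p ^ k), ← zpow_mul, ← zpow_mul, ← zpow_add, hbez,
      zpow_one]
  · exact Subgroup.zpow_mem _ (Subgroup.pow_mem _ (Subgroup.mem_zpowers g) _) _
  · exact Subgroup.zpow_mem _ (Subgroup.pow_mem _ (Subgroup.mem_zpowers g) _) _
  · refine ⟨k, ?_⟩
    rw [← zpow_natCast, ← zpow_mul, mul_comm, zpow_mul, zpow_natCast, ← pow_mul, mul_comm,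
      ← hnm, pow_orderOf_eq_one, one_zpow]
  · have h1 : orderOf ((g ^ (p ^ k)) ^ (Nat.gcdB m (p ^ k))) ∣ orderOf (g ^ (p ^ k)) :=
      orderOf_dvd_of_mem_zpowers (Subgroup.zpow_mem _ (Subgroup.mem_zpowers _) _)
    have h2 : orderOf (g ^ (p ^ k)) ∣ m := by
      apply orderOf_dvd_of_pow_eq_one
      rw [← pow_mul, ← hnm, pow_orderOf_eq_one]
    exact Nat.Coprime.coprime_dvd_left (h1.trans h2)
      ((Nat.Prime.coprime_iff_not_dvd hp.out).mpr hm).symm

/-- The telescoping (norm) identity for `z = [h, x]` fixed by `h`, inside an abelian subgroup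
normalized by `h`. -/
theorem norm_trick (P : Subgroup G) (hc : ∀ a ∈ P, ∀ b ∈ P, a * b = b * a) (h : G)
    (hn : h ∈ Subgroup.normalizer (P : Set G)) (x : G) (hx : x ∈ P)
    (hz : h * (h * x * h⁻¹ * x⁻¹) * h⁻¹ = h * x * h⁻¹ * x⁻¹) (k : ℕ) :
    (h * x * h⁻¹ * x⁻¹) ^ k = h ^ k * x * (h ^ k)⁻¹ * x⁻¹ := by
  have hconj : ∀ (j : ℕ) (a : G), a ∈ P → h ^ j * a * (h ^ j)⁻¹ ∈ P := by
    intro j a ha
    have : h ^ j ∈ Subgroup.normalizer (P : Set G) := Subgroup.pow_mem _ hn j
    exact (Subgroup.mem_normalizer_iff.mp this a).mp ha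
  set z := h * x * h⁻¹ * x⁻¹ with hzdef
  have hcomm : Commute h z := by
    show h * z = z * h
    calc h * z = (h * z * h⁻¹) * h := by group
      _ = z * h := by rw [hz]
  induction k with
  | zero => simp
  | succ k ih =>
    have hck : Commute (h ^ k) z := hcomm.pow_left k
    have hz2 : z = (h ^ (k + 1) * x * (h ^ (k + 1))⁻¹) * (h ^ k * x * (h ^ k)⁻¹)⁻¹ := by
      have : z = h ^ k * z * (h ^ k)⁻¹ := by
        rw [hck.eq]; group
      rw [this, hzdef, pow_succ]; group
    set a := h ^ k * x * (h ^ k)⁻¹ with ha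
    set b := h ^ (k + 1) * x * (h ^ (k + 1))⁻¹ with hb
    have haP : a ∈ P := hconj k x hx
    have hbP : b ∈ P := hconj (k + 1) x hx
    have hxi : x⁻¹ ∈ P := P.inv_mem hx
    rw [pow_succ, ih, hz2]
    have e1 : a * x⁻¹ * (b * a⁻¹) = a * (x⁻¹ * b) * a⁻¹ := by group
    rw [e1, hc a haP (x⁻¹ * b) (P.mul_mem hxi hbP), hc x⁻¹ hxi b hbP]
    group

/-- A `p'`-element normalizing, but not centralizing, a cyclic `p`-group acts on it without
nontrivial fixed points. -/
theorem fpf_of_cyclic [Finite G] {p : ℕ} [hp : Fact p.Prime] (P : Subgroup G) (hcyc : IsCyclic P)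
    (hP : IsPGroup p P) (h : G) (hn : h ∈ Subgroup.normalizer (P : Set G))
    (hcop : (orderOf h).Coprime p) (hnc : h ∉ Subgroup.centralizer (P : Set G)) :
    ∀ x ∈ P, h * x * h⁻¹ = x → x = 1 := by
  intro x₁ hx₁ hfix
  by_contra hx₁1
  have hc : ∀ a ∈ P, ∀ b ∈ P, a * b = b * a := by
    intro a ha b hb
    have hcm : IsMulCommutative P := hcyc.isMulCommutative
    have := hcm.is_comm.comm ⟨a, ha⟩ ⟨b, hb⟩
    simpa using congrArg Subtype.val this
  -- an element not centralized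
  have hex : ∃ x ∈ P, x * h ≠ h * x := by
    by_contra hcon
    push Not at hcon
    exact hnc (Subgroup.mem_centralizer_iff.mpr hcon)
  obtain ⟨x, hx, hxh⟩ := hex
  set y := h * x * h⁻¹ * x⁻¹ with hy
  have hyP : y ∈ P := by
    have : h * x * h⁻¹ ∈ P := (Subgroup.mem_normalizer_iff.mp hn x).mp hx
    exact P.mul_mem this (P.inv_mem hx)
  have hy1 : y ≠ 1 := by
    intro h1
    apply hxh
    have : h * x * h⁻¹ = x := by
      calc h * x * h⁻¹ = (h * x * h⁻¹ * x⁻¹) * x := by group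
        _ = x := by rw [← hy, h1, one_mul]
    calc x * h = (h * x * h⁻¹) * h := by rw [this]
      _ = h * x := by group
  have hA : Subgroup.zpowers x₁ ≤ P := (Subgroup.zpowers_le).mpr hx₁
  have hB : Subgroup.zpowers y ≤ P := (Subgroup.zpowers_le).mpr hyP
  have hA1 : Subgroup.zpowers x₁ ≠ ⊥ := by
    rw [Ne, Subgroup.zpowers_eq_bot]; exact hx₁1
  have hB1 : Subgroup.zpowers y ≠ ⊥ := by
    rw [Ne, Subgroup.zpowers_eq_bot]; exact hy1
  obtain ⟨z, hzA, hzB, hzo⟩ := exists_mem_inf_of_cyclic p P hcyc hP hA hB hA1 hB1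
  obtain ⟨j, hj⟩ := Subgroup.mem_zpowers_iff.mp hzA
  obtain ⟨k, hk⟩ := Subgroup.mem_zpowers_iff.mp hzB
  -- h fixes z
  have hfz : h * z * h⁻¹ = z := by
    have hcm : Commute h x₁ := by
      show h * x₁ = x₁ * h
      calc h * x₁ = (h * x₁ * h⁻¹) * h := by group
        _ = x₁ * h := by rw [hfix]
    have : Commute h z := by rw [← hj]; exact hcm.zpow_right j
    rw [this.eq]; group
  -- z = [h, x^k]
  have hzk : z = h * (x ^ k) * h⁻¹ * (x ^ k)⁻¹ := by
    rw [← hk, hy]
    have hcm : Commute (h * x * h⁻¹) x⁻¹ := by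
      have : h * x * h⁻¹ ∈ P := (Subgroup.mem_normalizer_iff.mp hn x).mp hx
      exact hc _ this _ (P.inv_mem hx)
    rw [hcm.mul_zpow]
    have e1 : (h * x * h⁻¹) ^ k = h * x ^ k * h⁻¹ := by
      simp [conj_zpow]
    rw [e1, inv_zpow]
  have hxk : x ^ k ∈ P := P.zpow_mem hx k
  have hnt := norm_trick P hc h hn (x ^ k) hxk (by rw [← hzk]; exact hfz) (orderOf h)
  rw [← hzk, pow_orderOf_eq_one] at hnt
  have hz1 : z ^ orderOf h = 1 := by rw [hnt]; group
  have hdvd : p ∣ orderOf h := by rw [← hzo]; exact orderOf_dvd_of_pow_eq_one hz1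
  have := Nat.Coprime.eq_one_of_dvd hcop.symm hdvd
  exact hp.out.ne_one this

/-- The action of the normalizer of a cyclic Sylow `p`-subgroup on `Ω₁`: a homomorphism to
`(ZMod p)ˣ` whose kernel is the centralizer. -/
theorem exists_theta [Finite G] {p : ℕ} [hp : Fact p.Prime] (P : Sylow p G) (hcyc : IsCyclic P)
    (hP1 : (P : Subgroup G) ≠ ⊥) :
    ∃ θ : ↥(Subgroup.normalizer ((P : Subgroup G) : Set G)) →* (ZMod p)ˣ,
      θ.ker = (Subgroup.centralizer ((P : Subgroup G) : Set G)).subgroupOf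
        (Subgroup.normalizer ((P : Subgroup G) : Set G)) := by
  have hpp : p.Prime := hp.out
  set N := Subgroup.normalizer ((P : Subgroup G) : Set G) with hN
  set C := Subgroup.centralizer ((P : Subgroup G) : Set G) with hC
  have hPp : IsPGroup p (P : Subgroup G) := P.isPGroup'
  obtain ⟨n, hn⟩ := hPp.exists_card_eq
  have hn0 : 0 < n := by
    rcases Nat.eq_zero_or_pos n with h | h
    · exfalso
      rw [h, pow_zero] at hn
      exact hP1 (Subgroup.card_eq_one.mp hn)
    · exact h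
  have hdvd : p ∣ Nat.card (P : Subgroup G) := by rw [hn]; exact dvd_pow_self p hn0.ne'
  have hPC : (P : Subgroup G) ≤ C := by
    intro x hx
    rw [hC, Subgroup.mem_centralizer_iff]
    intro y hy
    have hcm : IsMulCommutative (P : Subgroup G) := hcyc.isMulCommutative
    have := hcm.is_comm.comm ⟨y, hy⟩ ⟨x, hx⟩
    simpa using congrArg Subtype.val this
  have hCN : C ≤ N := Subgroup.centralizer_le_normalizer _
  let ψ : N →* (ZMod (Nat.card (P : Subgroup G)))ˣ :=
    (IsCyclic.mulAutMulEquiv (P : Subgroup G)).toMonoidHom.comp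
      (P : Subgroup G).normalizerMonoidHom
  let θ : N →* (ZMod p)ˣ := (ZMod.unitsMap hdvd).comp ψ
  have hψker : ∀ g : N, ψ g = 1 ↔ g ∈ C.subgroupOf N := by
    intro g
    rw [← Subgroup.normalizerMonoidHom_ker, MonoidHom.mem_ker]
    constructor
    · intro h
      apply (IsCyclic.mulAutMulEquiv (P : Subgroup G)).injective
      rw [map_one]; exact h
    · intro h
      show (IsCyclic.mulAutMulEquiv (P : Subgroup G)) ((P : Subgroup G).normalizerMonoidHom g) = 1
      rw [h, map_one]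
  have hCnormal : (C.subgroupOf N).Normal := by
    rw [hC, hN]; infer_instance
  have hidx : ¬ p ∣ (C.subgroupOf N).index := by
    intro hd
    have h1 : (C.subgroupOf N).index = C.relIndex N := rfl
    have h2 : (P : Subgroup G).relIndex C * C.relIndex N = (P : Subgroup G).relIndex N :=
      Subgroup.relIndex_mul_relIndex _ _ _ hPC hCN
    have h3 : (P : Subgroup G).relIndex N ∣ (P : Subgroup G).index :=
      Subgroup.relIndex_dvd_index_of_le (hPC.trans hCN)
    have h4 : p ∣ (P : Subgroup G).index := by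
      refine dvd_trans ?_ h3
      rw [← h2, ← h1]
      exact dvd_mul_of_dvd_right hd _
    exact P.not_dvd_index h4
  refine ⟨θ, ?_⟩
  ext g
  rw [MonoidHom.mem_ker]
  constructor
  · intro hg
    have hu : ψ g ∈ (ZMod.unitsMap hdvd).ker := hg
    have hpg := isPGroup_ker_unitsMap p hn hn0 hdvd
    obtain ⟨m, hm⟩ := hpg ⟨ψ g, hu⟩
    have hm' : ψ (g ^ p ^ m) = 1 := by
      rw [map_pow]
      simpa using congrArg Subtype.val hm
    have h1 : g ^ p ^ m ∈ C.subgroupOf N := (hψker _).mp hm'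
    have h2 : g ^ (C.subgroupOf N).index ∈ C.subgroupOf N := Subgroup.pow_index_mem _ g
    have hcop' : Nat.Coprime (p ^ m) (C.subgroupOf N).index :=
      Nat.Coprime.pow_left m ((Nat.Prime.coprime_iff_not_dvd hpp).mpr hidx)
    have h3 : g ^ (Nat.gcd (p ^ m) (C.subgroupOf N).index : ℤ) ∈ C.subgroupOf N := by
      rw [Nat.gcd_eq_gcd_ab, zpow_add, zpow_mul, zpow_mul]
      apply Subgroup.mul_mem
      · apply Subgroup.zpow_mem; rw [zpow_natCast]; exact h1
      · apply Subgroup.zpow_mem; rw [zpow_natCast]; exact h2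
    rw [hcop'.gcd_eq_one] at h3
    simpa using h3
  · intro hg
    show (ZMod.unitsMap hdvd) (ψ g) = 1
    rw [(hψker g).mpr hg, map_one]

/-- An element whose order is coprime to the index of a normal subgroup lies in it. -/
theorem mem_of_coprime_index {H : Type*} [Group H] [Finite H] (N : Subgroup H) [N.Normal] {x : H}
    (h : (orderOf x).Coprime N.index) : x ∈ N := by
  rw [← QuotientGroup.eq_one_iff (N := N)]
  have h1 : ((x : H) : H ⧸ N) ^ orderOf x = 1 := by
    rw [← QuotientGroup.mk_pow, pow_orderOf_eq_one]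
    rfl
  have h2 : ((x : H) : H ⧸ N) ^ N.index = 1 := by
    rw [Subgroup.index_eq_card]
    exact pow_card_eq_one'
  have h3 : orderOf ((x : H) : H ⧸ N) ∣ Nat.gcd (orderOf x) N.index :=
    Nat.dvd_gcd (orderOf_dvd_of_pow_eq_one h1) (orderOf_dvd_of_pow_eq_one h2)
  rw [h.gcd_eq_one, Nat.dvd_one, orderOf_eq_one_iff] at h3
  exact h3

/-- A normal `p`-complement of a subgroup `M`, seen inside the ambient group. -/
theorem npc_internal [Finite G] {p : ℕ} [hp : Fact p.Prime] (M : Subgroup G)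
    (h : HasNormalPComplement p M) :
    ∃ T : Subgroup G, T ≤ M ∧ M ≤ Subgroup.normalizer (T : Set G) ∧ ¬ p ∣ Nat.card T ∧
      ∀ y ∈ M, (orderOf y).Coprime p → y ∈ T := by
  obtain ⟨K, hKn, hKc, k, hk⟩ := Cfsg.Agent.Lib.Helper9.exists_normal_coprime_of_hasNormalPComplement h
  refine ⟨K.map M.subtype, Subgroup.map_subtype_le K, ?_, ?_, ?_⟩
  · have h1 := Subgroup.le_normalizer_map (H := K) M.subtype
    rw [Subgroup.normalizer_eq_top_iff.mpr hKn] at h1
    refine le_trans ?_ h1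
    intro m hm
    exact ⟨⟨m, hm⟩, Subgroup.mem_top _, rfl⟩
  · rw [Subgroup.card_map_of_injective M.subtype_injective]
    intro hd
    have := Nat.Coprime.eq_one_of_dvd hKc.symm hd
    exact hp.out.ne_one this
  · intro y hy hyc
    have hyo : orderOf (⟨y, hy⟩ : M) = orderOf y := Subgroup.orderOf_mk y hy
    have hmem : (⟨y, hy⟩ : M) ∈ K := by
      apply mem_of_coprime_index K
      rw [hyo, hk]
      exact Nat.Coprime.pow_right k hyc
    exact ⟨⟨y, hy⟩, hmem, rfl⟩

/-- A normal Sylow `p`-subgroup of a subgroup `M`, seen inside the ambient group. -/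
theorem normal_sylow_internal [Finite G] {p : ℕ} [hp : Fact p.Prime] (M : Subgroup G)
    (S : Sylow p M) (hS : (S : Subgroup M).Normal) :
    ∃ P₁ : Subgroup G, P₁ ≤ M ∧ M ≤ Subgroup.normalizer (P₁ : Set G) ∧ IsPGroup p P₁ ∧
      ∀ x ∈ M, (∃ k : ℕ, x ^ (p ^ k) = 1) → x ∈ P₁ := by
  refine ⟨(S : Subgroup M).map M.subtype, Subgroup.map_subtype_le _, ?_, ?_, ?_⟩
  · have h1 := Subgroup.le_normalizer_map (H := (S : Subgroup M)) M.subtype
    rw [Subgroup.normalizer_eq_top_iff.mpr hS] at h1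
    refine le_trans ?_ h1
    intro m hm
    exact ⟨⟨m, hm⟩, Subgroup.mem_top _, rfl⟩
  · exact S.isPGroup'.map M.subtype
  · rintro x hx ⟨k, hk⟩
    have hxo : orderOf (⟨x, hx⟩ : M) ∣ p ^ k := by
      apply orderOf_dvd_of_pow_eq_one
      apply Subtype.ext
      simpa using hk
    obtain ⟨j, -, hj⟩ := (Nat.dvd_prime_pow hp.out).mp hxo
    have hpg : IsPGroup p (Subgroup.zpowers (⟨x, hx⟩ : M)) :=
      IsPGroup.of_card (n := j) (by rw [Nat.card_zpowers, hj])
    obtain ⟨S', hS'⟩ := hpg.exists_le_sylow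
    obtain ⟨g, hg⟩ := MulAction.exists_smul_eq M S S'
    have hSS' : S' = S := by
      rw [← hg]
      exact Sylow.smul_eq_of_normal
    have : (⟨x, hx⟩ : M) ∈ (S : Subgroup M) := by
      rw [← hSS']; exact hS' (Subgroup.mem_zpowers _)
    exact ⟨⟨x, hx⟩, this, rfl⟩

/-- Burnside's transfer theorem, in the form: a nontrivial Sylow `q`-subgroup central in its
normalizer gives a proper normal subgroup containing all `q'`-elements. -/
theorem burnside_normal_sub [Finite G] {q : ℕ} [hq : Fact q.Prime] (Q : Sylow q G)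
    (hQ1 : (Q : Subgroup G) ≠ ⊥)
    (h : Subgroup.normalizer ((Q : Subgroup G) : Set G) ≤
      Subgroup.centralizer ((Q : Subgroup G) : Set G)) :
    ∃ M : Subgroup G, M.Normal ∧ M ≠ ⊤ ∧ ∀ x : G, (orderOf x).Coprime q → x ∈ M := by
  have hc := MonoidHom.ker_transferSylow_isComplement' Q h
  have hidx : (MonoidHom.transferSylow Q h).ker.index = Nat.card (Q : Subgroup G) :=
    hc.symm.index_eq_card
  obtain ⟨k, hk⟩ := Q.isPGroup'.exists_card_eq
  have hk0 : k ≠ 0 := by
    rintro rfl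
    rw [pow_zero] at hk
    exact hQ1 (Subgroup.card_eq_one.mp hk)
  refine ⟨(MonoidHom.transferSylow Q h).ker, inferInstance, ?_, ?_⟩
  · intro htop
    rw [htop, Subgroup.index_top, hk] at hidx
    have : q ∣ 1 := by rw [hidx]; exact dvd_pow_self q hk0
    exact hq.out.one_lt.ne' (Nat.dvd_one.mp this)
  · intro x hx
    apply mem_of_coprime_index
    rw [hidx, hk]
    exact Nat.Coprime.pow_right k hx

open scoped IsMulCommutative in
/-- A nontrivial central element of an abelian Sylow `q`-subgroup survives the transfer, giving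
a proper normal subgroup containing all `q'`-elements. -/
theorem transfer_central_sub [Finite G] {q : ℕ} [hq : Fact q.Prime] (Q : Sylow q G)
    (hQc : IsMulCommutative (Q : Subgroup G)) (z : G) (hz : z ∈ Subgroup.center G)
    (hzQ : z ∈ (Q : Subgroup G)) (hz1 : z ≠ 1) :
    ∃ M : Subgroup G, M.Normal ∧ M ≠ ⊤ ∧ ∀ x : G, (orderOf x).Coprime q → x ∈ M := by
  let V : G →* (Q : Subgroup G) := MonoidHom.transfer (MonoidHom.id (Q : Subgroup G))
  have key : ∀ (k : ℕ) (g₀ : G), g₀⁻¹ * z ^ k * g₀ ∈ (Q : Subgroup G) →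
      g₀⁻¹ * z ^ k * g₀ = z ^ k := by
    intro k g₀ _
    have hzk : z ^ k ∈ Subgroup.center G := Subgroup.pow_mem _ hz k
    have := Subgroup.mem_center_iff.mp hzk g₀
    calc g₀⁻¹ * z ^ k * g₀ = g₀⁻¹ * (z ^ k * g₀) := by group
      _ = g₀⁻¹ * (g₀ * z ^ k) := by rw [this]
      _ = z ^ k := by group
  have hVz : V z = ⟨z ^ (Q : Subgroup G).index, MonoidHom.transfer_eq_pow_aux z key⟩ :=
    MonoidHom.transfer_eq_pow (MonoidHom.id (Q : Subgroup G)) z key
  obtain ⟨k, hk⟩ := Q.isPGroup'.exists_card_eq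
  have hzne : z ^ (Q : Subgroup G).index ≠ 1 := by
    intro h1
    have h2 : orderOf z ∣ (Q : Subgroup G).index := orderOf_dvd_of_pow_eq_one h1
    have h3 : orderOf z ∣ q ^ k := by
      rw [← hk, ← Subgroup.orderOf_mk z hzQ]
      exact orderOf_dvd_natCard _
    have hcop : Nat.Coprime (q ^ k) (Q : Subgroup G).index :=
      Nat.Coprime.pow_left k ((Nat.Prime.coprime_iff_not_dvd hq.out).mpr Q.not_dvd_index)
    have h4 : orderOf z ∣ 1 := by
      rw [← hcop.gcd_eq_one]; exact Nat.dvd_gcd h3 h2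
    exact hz1 (orderOf_eq_one_iff.mp (Nat.dvd_one.mp h4))
  refine ⟨V.ker, inferInstance, ?_, ?_⟩
  · intro htop
    have : z ∈ V.ker := by rw [htop]; exact Subgroup.mem_top _
    rw [MonoidHom.mem_ker, hVz] at this
    exact hzne (congrArg Subtype.val this)
  · intro x hx
    apply mem_of_coprime_index
    have h1 : V.ker.index ∣ q ^ k := by
      rw [Subgroup.index_ker, ← hk]
      exact Subgroup.card_subgroup_dvd_card _
    exact Nat.Coprime.coprime_dvd_right h1 (Nat.Coprime.pow_right k hx)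

/-- Orders are invariant under conjugation. -/
theorem orderOf_conj' (g y : G) : orderOf (g * y * g⁻¹) = orderOf y := by
  have := (MulAut.conj g).orderOf_eq y
  simpa [MulAut.conj_apply] using this

/-- In a finite group, `g H g⁻¹ ≤ H` forces `g ∈ N(H)`. -/
theorem mem_normalizer_of_conj_mem [Finite G] (H : Subgroup G) (g : G)
    (h : ∀ x ∈ H, g * x * g⁻¹ ∈ H) : g ∈ Subgroup.normalizer (H : Set G) := by
  let f : H → H := fun x => ⟨g * x * g⁻¹, h x x.2⟩
  have hinj : Function.Injective f := by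
    intro a b hab
    have h1 : g * (a : G) * g⁻¹ = g * (b : G) * g⁻¹ := congrArg Subtype.val hab
    apply Subtype.ext
    calc (a : G) = g⁻¹ * (g * a * g⁻¹) * g := by group
      _ = g⁻¹ * (g * b * g⁻¹) * g := by rw [h1]
      _ = b := by group
  have hsurj : Function.Surjective f := Finite.injective_iff_surjective.mp hinj
  rw [Subgroup.mem_normalizer_iff]
  intro x
  constructor
  · exact h x
  · intro hx
    obtain ⟨a, ha⟩ := hsurj ⟨g * x * g⁻¹, hx⟩
    have h1 : g * (a : G) * g⁻¹ = g * x * g⁻¹ := congrArg Subtype.val ha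
    have : (a : G) = x := by
      calc (a : G) = g⁻¹ * (g * a * g⁻¹) * g := by group
        _ = g⁻¹ * (g * x * g⁻¹) * g := by rw [h1]
        _ = x := by group
    rw [← this]; exact a.2

/-- Centralizers of conjugate elements have the same order. -/
theorem card_centralizer_conj (g a : G) :
    Nat.card (Subgroup.centralizer ({g * a * g⁻¹} : Set G)) =
      Nat.card (Subgroup.centralizer ({a} : Set G)) := by
  symm
  refine Nat.card_congr ⟨fun c => ⟨g * c * g⁻¹, ?_⟩, fun c => ⟨g⁻¹ * c * g, ?_⟩, ?_, ?_⟩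
  · rw [Subgroup.mem_centralizer_singleton_iff]
    have := Subgroup.mem_centralizer_singleton_iff.mp c.2
    calc g * ↑c * g⁻¹ * (g * a * g⁻¹) = g * (↑c * a) * g⁻¹ := by group
      _ = g * (a * ↑c) * g⁻¹ := by rw [this]
      _ = g * a * g⁻¹ * (g * ↑c * g⁻¹) := by group
  · rw [Subgroup.mem_centralizer_singleton_iff]
    have := Subgroup.mem_centralizer_singleton_iff.mp c.2
    calc g⁻¹ * ↑c * g * a = g⁻¹ * (↑c * (g * a * g⁻¹)) * g := by group
      _ = g⁻¹ * ((g * a * g⁻¹) * ↑c) * g := by rw [this]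
      _ = a * (g⁻¹ * ↑c * g) := by group
  · intro c; apply Subtype.ext; simp only; group
  · intro c; apply Subtype.ext; simp only; group

/-- Fixed-point-free action of an element of order `p` on a subgroup gives `|A| ≡ 1 mod p`. -/
theorem card_modEq_one_of_fpf [Finite G] {p : ℕ} [hp : Fact p.Prime] (A : Subgroup G) (x : G)
    (hx : orderOf x = p) (hxA : x ∈ Subgroup.normalizer (A : Set G))
    (hfix : ∀ a ∈ A, x * a * x⁻¹ = a → a = 1) : Nat.card A ≡ 1 [MOD p] := by
  let X : Subgroup (Subgroup.normalizer (A : Set G)) := Subgroup.zpowers ⟨x, hxA⟩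
  have hX : IsPGroup p X := by
    apply IsPGroup.of_card (n := 1)
    rw [Nat.card_zpowers, Subgroup.orderOf_mk, hx, pow_one]
  have h1 := hX.card_modEq_card_fixedPoints A
  have h2 : Nat.card (MulAction.fixedPoints X A) = 1 := by
    rw [Nat.card_eq_one_iff_unique]
    refine ⟨⟨?_⟩, ⟨⟨1, ?_⟩⟩⟩
    · rintro ⟨a, ha⟩ ⟨b, hb⟩
      have ha1 : (a : G) = 1 := by
        apply hfix a a.2
        have := ha ⟨⟨x, hxA⟩, Subgroup.mem_zpowers _⟩
        exact congrArg Subtype.val this
      have hb1 : (b : G) = 1 := by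
        apply hfix b b.2
        have := hb ⟨⟨x, hxA⟩, Subgroup.mem_zpowers _⟩
        exact congrArg Subtype.val this
      apply Subtype.ext
      apply Subtype.ext
      rw [ha1, hb1]
    · intro g
      exact smul_one g
  rw [h2] at h1
  exact h1

/-- In a cyclic target, the image of an element of prime order `q` generates the image of any
other element killed by `q`. -/
theorem exists_pow_mul_map_eq_one {N' Z : Type*} [Group N'] [CommGroup Z] [Finite Z] [IsCyclic Z]
    (θ : N' →* Z) (q : ℕ) (hq : q.Prime) (a b : N') (ha : a ^ q = 1) (hb : b ^ q = 1)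
    (haθ : θ a ≠ 1) : ∃ k : ℕ, θ (b * a ^ k) = 1 := by
  by_cases hbθ : θ b = 1
  · exact ⟨0, by simpa using hbθ⟩
  have hoa : orderOf (θ a) = q := by
    apply orderOf_eq_prime (hp := ⟨hq⟩)
    · rw [← map_pow, ha, map_one]
    · exact haθ
  have hob : orderOf (θ b) = q := by
    apply orderOf_eq_prime (hp := ⟨hq⟩)
    · rw [← map_pow, hb, map_one]
    · exact hbθ
  have heq : Subgroup.zpowers (θ a) = Subgroup.zpowers (θ b) := by
    apply Cfsg.Agent.S1386.subgroup_eq_of_card_eq_of_isCyclic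
    rw [Nat.card_zpowers, Nat.card_zpowers, hoa, hob]
  have hmem : (θ b)⁻¹ ∈ Subgroup.zpowers (θ a) := by
    rw [heq]; exact Subgroup.inv_mem _ (Subgroup.mem_zpowers _)
  rw [← mem_powers_iff_mem_zpowers] at hmem
  obtain ⟨k, hk⟩ := hmem
  refine ⟨k, ?_⟩
  rw [map_mul, map_pow]
  have hk' : θ a ^ k = (θ b)⁻¹ := hk
  rw [hk', mul_inv_cancel]

/-- Product of pairwise coprime "Hall divisors", each `≡ 1 mod p`, covering all primes of `M`. -/
theorem modEq_one_of_hall_cover (𝒜 : Finset ℕ) (M p : ℕ) (hM : M ≠ 0)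
    (h1 : ∀ n ∈ 𝒜, n ≡ 1 [MOD p]) (h2 : ∀ n ∈ 𝒜, n ∣ M)
    (h3 : ∀ n ∈ 𝒜, ∀ r : ℕ, r.Prime → r ∣ n → n.factorization r = M.factorization r)
    (h4 : ∀ n ∈ 𝒜, ∀ n' ∈ 𝒜, n ≠ n' → Nat.Coprime n n')
    (h5 : ∀ r : ℕ, r.Prime → r ∣ M → ∃ n ∈ 𝒜, r ∣ n) : M ≡ 1 [MOD p] := by
  have hne : ∀ n ∈ 𝒜, n ≠ 0 := fun n hn h0 => hM (by
    have := h2 n hn; rw [h0] at this; exact Nat.eq_zero_of_zero_dvd this)
  have hprod : ∏ n ∈ 𝒜, n = M := by
    apply Nat.eq_of_factorization_eq (Finset.prod_ne_zero_iff.mpr hne) hM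
    intro r
    rw [Nat.factorization_prod hne, Finsupp.finsetSum_apply]
    by_cases hr : r.Prime
    · by_cases hrM : r ∣ M
      · obtain ⟨n₀, hn₀, hrn₀⟩ := h5 r hr hrM
        rw [Finset.sum_eq_single n₀]
        · exact h3 n₀ hn₀ r hr hrn₀
        · intro n hn hnn
          apply Nat.factorization_eq_zero_of_not_dvd
          intro hrn
          have := h4 n hn n₀ hn₀ hnn
          exact (Nat.Prime.not_coprime_iff_dvd.mpr ⟨r, hr, hrn, hrn₀⟩) this
        · intro h; exact absurd hn₀ h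
      · rw [Nat.factorization_eq_zero_of_not_dvd hrM]
        apply Finset.sum_eq_zero
        intro n hn
        apply Nat.factorization_eq_zero_of_not_dvd
        intro hrn
        exact hrM (hrn.trans (h2 n hn))
    · rw [Nat.factorization_eq_zero_of_not_prime M hr]
      apply Finset.sum_eq_zero
      intro n _
      exact Nat.factorization_eq_zero_of_not_prime n hr
  rw [← hprod]
  have : (∏ n ∈ 𝒜, n) ≡ ∏ _n ∈ 𝒜, 1 [MOD p] := by
    apply (ZMod.natCast_eq_natCast_iff _ _ _).mp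
    push_cast
    apply Finset.prod_congr rfl
    intro n hn
    have := (ZMod.natCast_eq_natCast_iff _ _ _).mpr (h1 n hn)
    simpa using this
  simpa using this

end Cfsg.Agent.Lib.Helper30.CycSyl
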