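import Mathlib
import Cfsg.Prelude.Def_Characters

/-!
# Peterfalvi (12.2)(a), module (T1) of board #2768

An irreducible character that is nontrivial on a normal subgroup `H` vanishes on every element
acting without fixed points on `H`.
-/

set_option autoImplicit false

namespace Cfsg.Agent.Lib.Helper30.PFTwelve

open Cfsg

/-- The subrepresentation of `H`-fixed vectors, for a normal subgroup `H`. -/
def fixedSub {L : Type*} [Group L] (H : Subgroup L) [hH : H.Normal] {V : Type*} [AddCommGroup V]
    [Module ℂ V] (ρ : Representation ℂ L V) : Subrepresentation ρ where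
  toSubmodule :=
    { carrier := {v | ∀ h ∈ H, ρ h v = v}
      add_mem' := by
        intro a b ha hb h hh
        rw [map_add, ha h hh, hb h hh]
      zero_mem' := by
        intro h _
        exact map_zero _
      smul_mem' := by
        intro c v hv h hh
        rw [map_smul, hv h hh] }
  apply_mem_toSubmodule := by
    intro x v hv h hh
    have h1 : h * x = x * (x⁻¹ * h * x) := by group
    have h2 : x⁻¹ * h * x ∈ H := by
      have := hH.conj_mem h hh x⁻¹
      simpa using this
    have h3 : ρ h (ρ x v) = ρ (h * x) v := by rw [map_mul]; rfl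
    rw [h3, h1, map_mul]
    change ρ x (ρ (x⁻¹ * h * x) v) = ρ x v
    rw [hv _ h2]

theorem mem_fixedSub {L : Type*} [Group L] (H : Subgroup L) [H.Normal] {V : Type*}
    [AddCommGroup V] [Module ℂ V] (ρ : Representation ℂ L V) (v : V) :
    v ∈ fixedSub H ρ ↔ ∀ h ∈ H, ρ h v = v := Iff.rfl

/-- Module (T1) of #2768. -/
theorem irr_vanish_of_fpf {L : Type*} [Group L] [Fintype L] (H : Subgroup L) [H.Normal]
    (χ : L → ℂ) (hχ : IsIrrCharacter L χ) (hker : ∃ h ∈ H, χ h ≠ χ 1) (g : L)
    (hg : ∀ h ∈ H, g * h = h * g → h = 1) : χ g = 0 := by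
  classical
  obtain ⟨n, ρ, hirr, rfl⟩ := hχ
  have hF : fixedSub H ρ = ⊥ ∨ fixedSub H ρ = ⊤ := eq_bot_or_eq_top _
  have hFtop : fixedSub H ρ ≠ ⊤ := by
    intro htop
    obtain ⟨h0, hh0, hne⟩ := hker
    apply hne
    have h1 : ρ h0 = 1 := by
      apply LinearMap.ext
      intro v
      have hv : v ∈ fixedSub H ρ := by
        rw [htop]
        trivial
      exact hv h0 hh0
    simp only [Representation.character, h1, map_one]
  have hFbot : fixedSub H ρ = ⊥ := hF.resolve_right hFtop
  have hs : (∑ h : H, ρ (h : L)) = 0 := by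
    apply LinearMap.ext
    intro v
    have hv : (∑ h : H, ρ (h : L)) v ∈ fixedSub H ρ := by
      intro k hk
      rw [LinearMap.sum_apply, map_sum]
      have : ∀ h : H, ρ k (ρ (h : L) v) = ρ ((⟨k, hk⟩ * h : H) : L) v := by
        intro h
        rw [Subgroup.coe_mul, map_mul]
        rfl
      simp only [this]
      exact Fintype.sum_equiv (Equiv.mulLeft (⟨k, hk⟩ : H)) _ _ (fun h => rfl)
    rw [hFbot] at hv
    exact hv
  have h1 : ∑ h : H, ρ.character (g * (h : L)) = 0 := by
    simp only [Representation.character, map_mul]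
    rw [← map_sum, ← Finset.mul_sum, hs, mul_zero, map_zero]
  have h2 : ∀ h : H, ρ.character (g * (h : L)) = ρ.character g := by
    let φ : H → H := fun k => ⟨g⁻¹ * (k : L)⁻¹ * g * k, by
      have hk : (k : L)⁻¹ ∈ H := H.inv_mem k.2
      have hc : g⁻¹ * (k : L)⁻¹ * g ∈ H := by
        have := (inferInstance : H.Normal).conj_mem _ hk g⁻¹
        simpa using this
      exact H.mul_mem hc k.2⟩
    have hinj : Function.Injective φ := by
      intro k k' hkk
      have h3 : g⁻¹ * (k : L)⁻¹ * g * k = g⁻¹ * (k' : L)⁻¹ * g * k' := congrArg Subtype.val hkk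
      have h4 : g * ((k : L) * (k' : L)⁻¹) = ((k : L) * (k' : L)⁻¹) * g := by
        have h5 : (k : L)⁻¹ * g * k = (k' : L)⁻¹ * g * k' := by
          have := congrArg (fun t => g * t) h3
          simpa [mul_assoc] using this
        calc g * ((k : L) * (k' : L)⁻¹)
            = (k : L) * ((k : L)⁻¹ * g * k) * (k' : L)⁻¹ := by group
          _ = (k : L) * ((k' : L)⁻¹ * g * k') * (k' : L)⁻¹ := by rw [h5]
          _ = ((k : L) * (k' : L)⁻¹) * g := by group
      have h6 := hg _ (H.mul_mem k.2 (H.inv_mem k'.2)) h4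
      exact Subtype.ext (mul_inv_eq_one.mp h6)
    have hsurj : Function.Surjective φ := Finite.surjective_of_injective hinj
    intro h
    obtain ⟨k, hk⟩ := hsurj h
    have h7 : g * (h : L) = (k : L)⁻¹ * g * ((k : L)⁻¹)⁻¹ := by
      rw [← hk]
      change g * (g⁻¹ * (k : L)⁻¹ * g * k) = _
      group
    rw [h7, Representation.char_conj]
  rw [Finset.sum_congr rfl (fun h _ => h2 h), Finset.sum_const, Finset.card_univ] at h1
  have hcard : (Fintype.card H : ℂ) ≠ 0 := by
    exact_mod_cast Fintype.card_ne_zero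
  rw [nsmul_eq_mul] at h1
  exact (mul_eq_zero.mp h1).resolve_left hcard

end Cfsg.Agent.Lib.Helper30.PFTwelve
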