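import Mathlib
import Cfsg.Prelude.Def_OddOrderLocal
import Cfsg.Agent.S0055

/-!
# Split extensions `M = A ⋊ E` with `A ≤ M'` (helper30)

Generic lemmas used for Bender–Glauberman Lemma 13.1-type statements (`S1426`):
if `M = E A` with `A` normal, `A ∩ E = 1`, `M` solvable and `A ≤ M'`, then `[A, E] = A`;
if moreover `|A|`, `|E|` are coprime then `C_A(E) ≤ A'`.
-/

set_option autoImplicit false

namespace Cfsg.Agent.Lib.Helper30.BGSplit

open scoped commutatorElement

section Abstract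

variable {Q : Type*} [Group Q]

/-- If `Q = Y X` with `X`, `Y` commuting elementwise and meeting trivially, and `X ≤ Q'`,
then `X ≤ X'`. -/
theorem le_commutator_self_of_commuting_compl (X Y : Subgroup Q)
    (hcomm : ∀ x ∈ X, ∀ y ∈ Y, x * y = y * x) (hXY : X ⊓ Y = ⊥)
    (hprod : ∀ q : Q, ∃ y ∈ Y, ∃ x ∈ X, q = y * x)
    (hX : X ≤ commutator Q) : X ≤ ⁅X, X⁆ := by
  let φ : Y × X →* Q := MonoidHom.noncommCoprod Y.subtype X.subtype
    (fun y x => (hcomm x x.2 y y.2).symm)
  have hφ : Function.Surjective φ := by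
    intro q
    obtain ⟨y, hy, x, hx, rfl⟩ := hprod q
    exact ⟨(⟨y, hy⟩, ⟨x, hx⟩), rfl⟩
  have hcomm' : commutator Q = (commutator (Y × X)).map φ := by
    rw [commutator_def, commutator_def, Subgroup.map_commutator, ← MonoidHom.range_eq_map,
      MonoidHom.range_eq_top.mpr hφ]
  have hprodc : commutator (Y × X) = (commutator Y).prod (commutator X) := by
    rw [commutator_def, commutator_def, commutator_def, ← Subgroup.top_prod_top,
      Subgroup.commutator_prod_prod]
  intro x hx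
  have h1 := hX hx
  rw [hcomm', hprodc] at h1
  obtain ⟨z, hz, hzx⟩ := h1
  obtain ⟨hz1, hz2⟩ := Subgroup.mem_prod.mp hz
  have hφz : (z.1 : Q) * (z.2 : Q) = x := hzx
  have hz1' : (z.1 : Q) ∈ X ⊓ Y := by
    refine ⟨?_, z.1.2⟩
    rw [eq_mul_inv_of_mul_eq hφz]
    exact X.mul_mem hx (X.inv_mem z.2.2)
  rw [hXY, Subgroup.mem_bot] at hz1'
  rw [hz1', one_mul] at hφz
  rw [← hφz, ← Subgroup.map_subtype_commutator]
  exact ⟨z.2, hz2, rfl⟩

end Abstract

section Split

variable {M : Type*} [Group M]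

/-- `[A, E]` is normal in `M = E A` when `A` is normal. -/
theorem commutator_normal_of_prod (A E : Subgroup M) [A.Normal]
    (hprod : ∀ m : M, ∃ e ∈ E, ∃ a ∈ A, m = e * a) : (⁅A, E⁆ : Subgroup M).Normal := by
  rw [← Subgroup.normalizer_eq_top_iff, eq_top_iff]
  intro m _
  obtain ⟨e, he, a, ha, rfl⟩ := hprod m
  exact Subgroup.mul_mem _ (Subgroup.normalizer_commutator_ge_right A E he)
    (Subgroup.normalizer_commutator_ge_left A E ha)

/-- **`[A, E] = A`** for `M = E A` solvable, `A` normal, `A ∩ E = 1`, `A ≤ M'`. -/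
theorem commutator_eq_of_le_commutator [Group.IsSolvable M] (A E : Subgroup M) [hA : A.Normal]
    (hAE : A ⊓ E = ⊥) (hprod : ∀ m : M, ∃ e ∈ E, ∃ a ∈ A, m = e * a)
    (hA' : A ≤ commutator M) : ⁅A, E⁆ = A := by
  have hNA : ⁅A, E⁆ ≤ A := Subgroup.commutator_le_left A E
  refine le_antisymm hNA ?_
  have hN : (⁅A, E⁆ : Subgroup M).Normal := commutator_normal_of_prod A E hprod
  set N : Subgroup M := ⁅A, E⁆ with hNdef
  let π : M →* M ⧸ N := QuotientGroup.mk' N
  have hπs : Function.Surjective π := QuotientGroup.mk'_surjective N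
  have key : A.map π ≤ ⁅A.map π, A.map π⁆ := by
    apply le_commutator_self_of_commuting_compl (A.map π) (E.map π)
    · rintro _ ⟨a, ha, rfl⟩ _ ⟨e, he, rfl⟩
      have h1 : ⁅a, e⁆ ∈ N := Subgroup.commutator_mem_commutator ha he
      have h2 : π ⁅a, e⁆ = 1 := (QuotientGroup.eq_one_iff _).mpr h1
      rw [map_commutatorElement, commutatorElement_eq_one_iff_mul_comm] at h2
      exact h2
    · rw [eq_bot_iff]
      rintro z ⟨⟨a, ha, rfl⟩, ⟨e, he, hea⟩⟩
      have h1 : a⁻¹ * e ∈ N := by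
        have : π e = π a := hea
        exact QuotientGroup.eq.mp this.symm
      have h2 : e ∈ A := by
        have := A.mul_mem ha (hNA h1)
        simpa using this
      have h3 : e ∈ A ⊓ E := ⟨h2, he⟩
      rw [hAE, Subgroup.mem_bot] at h3
      rw [Subgroup.mem_bot, ← hea, h3, map_one]
    · intro q
      obtain ⟨m, rfl⟩ := hπs q
      obtain ⟨e, he, a, ha, rfl⟩ := hprod m
      exact ⟨π e, ⟨e, he, rfl⟩, π a, ⟨a, ha, rfl⟩, map_mul π e a⟩
    · calc A.map π ≤ (commutator M).map π := Subgroup.map_mono hA'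
        _ ≤ commutator (M ⧸ N) := by
          rw [commutator_def, commutator_def, Subgroup.map_commutator]
          exact Subgroup.commutator_mono le_top le_top
  have hbot : A.map π = ⊥ := by
    by_contra hne
    exact (lt_irrefl _) (lt_of_le_of_lt key (Group.IsSolvable.commutator_lt_of_ne_bot hne))
  intro a ha
  have h1 : π a ∈ A.map π := ⟨a, ha, rfl⟩
  rw [hbot, Subgroup.mem_bot] at h1
  exact (QuotientGroup.eq_one_iff _).mp h1

/-- **`C_A(E) ≤ A'`** for `M = E A` finite solvable, `A` normal, `A ∩ E = 1`, `A ≤ M'`,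
`(|E|, |A|) = 1`. -/
theorem inf_centralizer_le_commutator [Finite M] [Group.IsSolvable M] (A E : Subgroup M)
    [hA : A.Normal] (hAE : A ⊓ E = ⊥) (hprod : ∀ m : M, ∃ e ∈ E, ∃ a ∈ A, m = e * a)
    (hA' : A ≤ commutator M) (hcop : (Nat.card E).Coprime (Nat.card A)) :
    A ⊓ Subgroup.centralizer (E : Set M) ≤ ⁅A, A⁆ := by
  have hcomm := commutator_eq_of_le_commutator A E hAE hprod hA'
  have hD : (⁅A, A⁆ : Subgroup M).Normal := Subgroup.commutator_normal A A
  set D : Subgroup M := ⁅A, A⁆ with hDdef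
  let π : M →* M ⧸ D := QuotientGroup.mk' D
  have hπs : Function.Surjective π := QuotientGroup.mk'_surjective D
  set V : Subgroup (M ⧸ D) := A.map π with hV
  set B : Subgroup (M ⧸ D) := E.map π with hB
  have hVn : V.Normal := Subgroup.Normal.map hA π hπs
  have hVc : IsMulCommutative V := by
    rw [← Subgroup.commutator_self_eq_bot_iff, hV, ← Subgroup.map_commutator, eq_bot_iff]
    rintro _ ⟨d, hd, rfl⟩
    exact Subgroup.mem_bot.mpr ((QuotientGroup.eq_one_iff _).mpr hd)
  have hBV : B ≤ Subgroup.normalizer (V : Set (M ⧸ D)) := by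
    rw [Subgroup.normalizer_eq_top_iff.mpr hVn]; exact le_top
  have hcop' : (Nat.card B).Coprime (Nat.card V) :=
    Nat.Coprime.coprime_dvd_left (Subgroup.card_map_dvd E π)
      (Nat.Coprime.coprime_dvd_right (Subgroup.card_map_dvd A π) hcop)
  obtain ⟨h1, -⟩ := Cfsg.Agent.S0055.result B V hBV hcop'
  have h2 : ⁅V, B⁆ = V := by
    rw [hV, hB, ← Subgroup.map_commutator, hcomm]
  rw [h2, inf_eq_left.mpr inf_le_left] at h1
  rintro c ⟨hcA, hcE⟩
  have h3 : π c ∈ V ⊓ Subgroup.centralizer (B : Set (M ⧸ D)) := by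
    refine ⟨⟨c, hcA, rfl⟩, ?_⟩
    refine Subgroup.mem_centralizer_iff.mpr ?_
    rintro _ ⟨e, he, rfl⟩
    have := Subgroup.mem_centralizer_iff.mp hcE e he
    rw [← map_mul, ← map_mul, this]
  rw [h1, Subgroup.mem_bot] at h3
  exact (QuotientGroup.eq_one_iff _).mp h3

end Split

end Cfsg.Agent.Lib.Helper30.BGSplit
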