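import Mathlib
import Cfsg.Prelude.Def_OddOrderLocal
import Cfsg.Agent.Lib.Helper30.BGSplit
import Cfsg.Agent.Lib.Helper96.SigmaHall
import Cfsg.Agent.Lib.Helper49.RankOneCyclic
import Cfsg.Agent.Lib.Helper48.Coprime
import Cfsg.Agent.Lib.Helper34.NonSigma

/-!
# Bender–Glauberman Lemma 13.1-type statement (`S1426`), conditional version (helper30)

`M` maximal in a minimal simple group of odd order, `E` a complement to `M_σ` in `M`:
`C_{M_σ}(E) ≤ (M_σ)'`, `[M_σ, E] = M_σ`, and `M_σ ∩ M^g` (`g ∉ M`) is a cyclic `β(M)'`-group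
meeting `(M_σ)'` trivially.  Hypotheses: the literal shapes of S1404 (fusion), S1350 (Hall),
S1416 (first clause), S1423 (first clause) and `P ≤ M'` for Sylow `p`-subgroups `P` of `M`,
`p ∈ σ(M)`.
-/

set_option autoImplicit false

namespace Cfsg.Agent.Lib.Helper30.BGSigmaE

open Cfsg
open scoped commutatorElement Pointwise
open Cfsg.Agent.Lib.Helper96.SigmaHall (FusionControl)

variable {G : Type*} [Group G]

/-- `x ∈ M^g → g⁻¹ x g ∈ M`. -/
theorem map_conj_inv_le_of_le_map_conj {M X : Subgroup G} {g : G}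
    (hXg : X ≤ M.map (MulAut.conj g).toMonoidHom) :
    X.map (MulAut.conj g⁻¹).toMonoidHom ≤ M := by
  rintro _ ⟨x, hx, rfl⟩
  obtain ⟨m, hm, hmx⟩ := hXg hx
  have h1 : g * m * g⁻¹ = x := by simpa using hmx
  have h2 : (MulAut.conj g⁻¹).toMonoidHom x = m := by
    simp only [MulEquiv.toMonoidHom_eq_coe, MonoidHom.coe_coe, MulAut.conj_apply, inv_inv]
    rw [← h1]; group
  rw [h2]; exact hm

/-- **Fusion lemma**: if `p ∈ σ(M)`, `X ≤ M` is a nontrivial `p`-subgroup with `C_G(X) ≤ M`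
and `X ≤ M^g`, then `g ∈ M`. -/
theorem mem_of_le_map_conj {M : Subgroup G} (hF : FusionControl M) {p : ℕ} [Fact p.Prime]
    (hp : p ∈ sigma M) {X : Subgroup G} (hXp : IsPGroup p X) (hX1 : X ≠ ⊥) (hXM : X ≤ M)
    (hC : Subgroup.centralizer (X : Set G) ≤ M) {g : G}
    (hXg : X ≤ M.map (MulAut.conj g).toMonoidHom) : g ∈ M := by
  obtain ⟨m, hm, c, hc, hg⟩ := hF p hp X hXp hX1 hXM g⁻¹ (map_conj_inv_le_of_le_map_conj hXg)
  have h1 : g⁻¹ ∈ M := by rw [hg]; exact M.mul_mem hm (hC hc)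
  simpa using M.inv_mem h1

variable [Finite G]

/-- `M_σ ≤ M'` from `P ≤ M'` for the Sylow `p`-subgroups of `M`, `p ∈ σ(M)`. -/
theorem sigmaCore_le_commutator (M : Subgroup G)
    (hsyl : ∀ (p : ℕ) [Fact p.Prime], p ∈ sigma M → ∀ S : Sylow p M,
      (S : Subgroup M).map M.subtype ≤ ⁅M, M⁆) : sigmaCore M ≤ ⁅M, M⁆ := by
  apply Cfsg.Agent.Lib.Helper48.le_of_forall_pSubgroup_le
  intro q _ Q hQ hQq
  by_cases hQ1 : Q = ⊥
  · rw [hQ1]; exact bot_le
  have hqd : q ∣ Nat.card (sigmaCore M) :=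
    (Cfsg.Agent.Lib.Helper34.dvd_card_of_isPGroup_ne_bot hQq hQ1).trans (Subgroup.card_dvd_of_le hQ)
  have hqσ : q ∈ sigma M :=
    Cfsg.Agent.Lib.Helper54.piCoreOf_isPi (sigma M) M q Fact.out hqd
  have hQM : Q ≤ M := hQ.trans (Cfsg.Agent.Lib.Helper54.piCoreOf_le _ _)
  obtain ⟨S, hS⟩ := (hQq.comap_subtype (K := M)).exists_le_sylow
  have h1 := Subgroup.map_mono (f := M.subtype) hS
  have h2 : (Q.comap M.subtype).map M.subtype = Q := Subgroup.map_subgroupOf_eq_of_le hQM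
  rw [h2] at h1
  exact h1.trans (hsyl q hqσ S)

/-- `|M : M_σ| = |E|` for a complement `E`. -/
theorem relIndex_eq_card_of_isComplIn {A E M : Subgroup G} (hE : IsComplIn E A M) :
    A.relIndex M = Nat.card E := by
  have hdisj : Disjoint (E.subgroupOf M) (A.subgroupOf M) := by
    rw [disjoint_iff, eq_bot_iff]
    rintro x ⟨hxE, hxA⟩
    have h1 : (x : G) ∈ E ⊓ A := ⟨Subgroup.mem_subgroupOf.mp hxE, Subgroup.mem_subgroupOf.mp hxA⟩
    rw [hE.2.2.1, Subgroup.mem_bot] at h1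
    exact Subgroup.mem_bot.mpr (Subtype.ext h1)
  have hmul : ((E.subgroupOf M : Subgroup M) : Set M) * ((A.subgroupOf M : Subgroup M) : Set M)
      = Set.univ := by
    rw [Set.eq_univ_iff_forall]
    intro m
    obtain ⟨a, ha, b, hb, hm⟩ := hE.2.2.2 m m.2
    refine ⟨⟨a, hE.1 ha⟩, Subgroup.mem_subgroupOf.mpr ha, ⟨b, hE.2.1 hb⟩,
      Subgroup.mem_subgroupOf.mpr hb, ?_⟩
    exact Subtype.ext hm.symm
  have hc := Subgroup.isComplement'_of_disjoint_and_mul_eq_univ hdisj hmul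
  have h1 := hc.card_mul_card
  have h2 := Subgroup.card_mul_index (A.subgroupOf M)
  have h3 : Nat.card (E.subgroupOf M) = Nat.card E :=
    Nat.card_congr (Subgroup.subgroupOfEquivOfLe hE.1).toEquiv
  have hpos : 0 < Nat.card (A.subgroupOf M) := Nat.card_pos
  have h4 : Nat.card (A.subgroupOf M) * (A.subgroupOf M).index
      = Nat.card (A.subgroupOf M) * Nat.card (E.subgroupOf M) := by
    rw [h2, ← h1, mul_comm]
  have h5 := Nat.eq_of_mul_eq_mul_left hpos h4
  rw [Subgroup.relIndex, h5, h3]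

/-- parts (a), (b) of `S1426` -/
theorem split_parts (hG : IsMinSimpleOddOrder G) (M : Subgroup G) (hM : IsCoatom M)
    (hHall : IsPiHallOf (sigma M) (sigmaCore M) M) (hσ' : sigmaCore M ≤ ⁅M, M⁆)
    (E : Subgroup G) (hE : IsComplIn E (sigmaCore M) M) :
    sigmaCore M ⊓ Subgroup.centralizer (E : Set G) ≤ ⁅sigmaCore M, sigmaCore M⁆ ∧
      ⁅sigmaCore M, E⁆ = sigmaCore M := by
  have hsolv : Group.IsSolvable ↥M := hG.2.2.2 M hM.1
  set A' : Subgroup ↥M := piCore (sigma M) ↥M with hA'def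
  set E' : Subgroup ↥M := E.subgroupOf M with hE'def
  have hAmap : A'.map M.subtype = sigmaCore M := rfl
  have hEmap : E'.map M.subtype = E := Subgroup.map_subgroupOf_eq_of_le hE.1
  have hAE : A' ⊓ E' = ⊥ := by
    rw [eq_bot_iff]
    rintro x ⟨hxA, hxE⟩
    have h1 : (x : G) ∈ E ⊓ sigmaCore M :=
      ⟨Subgroup.mem_subgroupOf.mp hxE, ⟨x, hxA, rfl⟩⟩
    rw [hE.2.2.1, Subgroup.mem_bot] at h1
    exact Subgroup.mem_bot.mpr (Subtype.ext h1)
  have hprod : ∀ m : ↥M, ∃ e ∈ E', ∃ a ∈ A', m = e * a := by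
    intro m
    obtain ⟨a, ha, b, hb, hm⟩ := hE.2.2.2 m m.2
    obtain ⟨b', hb', hbb⟩ := hb
    refine ⟨⟨a, hE.1 ha⟩, Subgroup.mem_subgroupOf.mpr ha, b', hb', ?_⟩
    apply Subtype.ext
    rw [hm, ← hbb]; rfl
  have hAc : A' ≤ commutator ↥M := by
    intro x hx
    have h1 : (x : G) ∈ ⁅M, M⁆ := hσ' ⟨x, hx, rfl⟩
    rw [← Subgroup.map_subtype_commutator] at h1
    obtain ⟨y, hy, hyx⟩ := h1
    have : y = x := Subtype.ext hyx
    rwa [← this]
  have hcop : (Nat.card E').Coprime (Nat.card A') := by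
    have h3 : Nat.card E' = Nat.card E :=
      Nat.card_congr (Subgroup.subgroupOfEquivOfLe hE.1).toEquiv
    have h4 : Nat.card A' = Nat.card (sigmaCore M) := by
      rw [← hAmap, Subgroup.card_map_of_injective M.subtype_injective]
    rw [h3, h4]
    apply Nat.Coprime.symm
    apply Nat.coprime_of_dvd
    intro r hr hr1 hr2
    have hrσ : r ∈ sigma M := hHall.2.1 r hr hr1
    apply hHall.2.2 r hr hrσ
    rw [relIndex_eq_card_of_isComplIn hE]
    exact hr2
  have h2 := Cfsg.Agent.Lib.Helper30.BGSplit.commutator_eq_of_le_commutator A' E' hAE hprod hAc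
  have h1 := Cfsg.Agent.Lib.Helper30.BGSplit.inf_centralizer_le_commutator A' E' hAE hprod hAc hcop
  constructor
  · rintro x ⟨hxA, hxC⟩
    obtain ⟨x', hx', rfl⟩ := hxA
    have hx'C : x' ∈ Subgroup.centralizer (E' : Set ↥M) := by
      refine Subgroup.mem_centralizer_iff.mpr ?_
      intro e he
      apply Subtype.ext
      exact Subgroup.mem_centralizer_iff.mp hxC (e : G) (Subgroup.mem_subgroupOf.mp he)
    have h3 := h1 ⟨hx', hx'C⟩
    rw [← hAmap, ← Subgroup.map_commutator]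
    exact ⟨x', h3, rfl⟩
  · rw [← hAmap, ← hEmap, ← Subgroup.map_commutator, h2]

/-- an element of prime order `p` of `M_σ ∩ M^g` with `p ∈ β(M)` or lying in `(M_σ)'` forces
`g ∈ M`. -/
theorem mem_of_prime_order {M : Subgroup G} (hF : FusionControl M)
    (h1423 : ∀ (p : ℕ) [Fact p.Prime], p ∈ sigma M → ∀ X : Subgroup G, X ≤ M → Nat.card X = p →
      (p ∈ beta M ∨ X ≤ ⁅sigmaCore M, sigmaCore M⁆) → Subgroup.centralizer (X : Set G) ≤ M)
    {g x : G} (hxσ : x ∈ sigmaCore M) (hxg : x ∈ M.map (MulAut.conj g).toMonoidHom)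
    {p : ℕ} [hp : Fact p.Prime] (hox : orderOf x = p)
    (h : p ∈ beta M ∨ x ∈ ⁅sigmaCore M, sigmaCore M⁆) : g ∈ M := by
  set X : Subgroup G := Subgroup.zpowers x with hX
  have hcard : Nat.card X = p := by rw [hX, Nat.card_zpowers, hox]
  have hXσ : X ≤ sigmaCore M := by rw [hX, Subgroup.zpowers_le]; exact hxσ
  have hσM : sigmaCore M ≤ M := Cfsg.Agent.Lib.Helper54.piCoreOf_le _ _
  have hpd : p ∣ Nat.card (sigmaCore M) := hcard ▸ Subgroup.card_dvd_of_le hXσ
  have hpσ : p ∈ sigma M := Cfsg.Agent.Lib.Helper54.piCoreOf_isPi (sigma M) M p hp.out hpd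
  have hXp : IsPGroup p X := IsPGroup.of_card (n := 1) (by rw [hcard, pow_one])
  have hX1 : X ≠ ⊥ := by
    intro h0
    rw [h0, Subgroup.card_bot] at hcard
    exact hp.out.one_lt.ne hcard
  have hC := h1423 p hpσ X (hXσ.trans hσM) hcard
    (h.imp id (fun h' => by rw [hX, Subgroup.zpowers_le]; exact h'))
  exact mem_of_le_map_conj hF hpσ hXp hX1 (hXσ.trans hσM) hC
    (by rw [hX, Subgroup.zpowers_le]; exact hxg)

/-- part (c) of `S1426` -/
theorem inter_conj_parts (hG : IsMinSimpleOddOrder G) (M : Subgroup G)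
    (hF : FusionControl M)
    (h1416 : ∀ (p : ℕ) [Fact p.Prime] (A : Subgroup G), A ≤ M → IsElementaryAbelian p A →
      Nat.card A = p ^ 2 → Subgroup.centralizer (A : Set G) ≤ M)
    (h1423 : ∀ (p : ℕ) [Fact p.Prime], p ∈ sigma M → ∀ X : Subgroup G, X ≤ M → Nat.card X = p →
      (p ∈ beta M ∨ X ≤ ⁅sigmaCore M, sigmaCore M⁆) → Subgroup.centralizer (X : Set G) ≤ M)
    (g : G) (hg : g ∉ M) :
    IsCyclic ↥(sigmaCore M ⊓ M.map (MulAut.conj g).toMonoidHom) ∧
      (∀ p : ℕ, p.Prime → p ∣ Nat.card ↥(sigmaCore M ⊓ M.map (MulAut.conj g).toMonoidHom) →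
        p ∉ beta M) ∧
      sigmaCore M ⊓ M.map (MulAut.conj g).toMonoidHom ⊓ ⁅sigmaCore M, sigmaCore M⁆ = ⊥ := by
  set Y : Subgroup G := sigmaCore M ⊓ M.map (MulAut.conj g).toMonoidHom with hY
  set D : Subgroup G := ⁅sigmaCore M, sigmaCore M⁆ with hD
  have hσM : sigmaCore M ≤ M := Cfsg.Agent.Lib.Helper54.piCoreOf_le _ _
  -- (c3)
  have hYD : Y ⊓ D = ⊥ := by
    rw [eq_bot_iff]
    rintro z ⟨hzY, hzD⟩
    rw [Subgroup.mem_bot]
    by_contra hz1
    have ho1 : orderOf z ≠ 1 := fun h => hz1 (orderOf_eq_one_iff.mp h)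
    obtain ⟨p, hp, hpd⟩ := Nat.exists_prime_and_dvd ho1
    have : Fact p.Prime := ⟨hp⟩
    have ho0 : orderOf z ≠ 0 := (orderOf_pos z).ne'
    have hox : orderOf (z ^ (orderOf z / p)) = p := orderOf_pow_orderOf_div ho0 hpd
    exact hg (mem_of_prime_order hF h1423 (Subgroup.pow_mem _ hzY.1 _)
      (Subgroup.pow_mem _ hzY.2 _) hox (Or.inr (Subgroup.pow_mem _ hzD _)))
  -- (c2)
  have hβ : ∀ p : ℕ, p.Prime → p ∣ Nat.card ↥Y → p ∉ beta M := by
    intro p hp hpd hpβ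
    have : Fact p.Prime := ⟨hp⟩
    obtain ⟨x, hx⟩ := exists_prime_orderOf_dvd_card' (G := ↥Y) p hpd
    have hox : orderOf (x : G) = p := by rw [Subgroup.orderOf_coe]; exact hx
    exact hg (mem_of_prime_order hF h1423 x.2.1 x.2.2 hox (Or.inl hpβ))
  refine ⟨?_, hβ, hYD⟩
  -- (c1) cyclic
  have hcomm : IsMulCommutative ↥Y := by
    refine ⟨⟨fun a b => ?_⟩⟩
    have h1 : ⁅(a : G), (b : G)⁆ ∈ Y ⊓ D :=
      ⟨by
        rw [commutatorElement_def]
        exact Y.mul_mem (Y.mul_mem (Y.mul_mem a.2 b.2) (Y.inv_mem a.2)) (Y.inv_mem b.2),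
        Subgroup.commutator_mem_commutator a.2.1 b.2.1⟩
    rw [hYD, Subgroup.mem_bot, commutatorElement_eq_one_iff_mul_comm] at h1
    exact Subtype.ext h1
  have hnil : Group.IsNilpotent ↥Y :=
    ⟨⟨1, Subgroup.upperCentralSeries_one_eq_top_iff.mpr hcomm⟩⟩
  have hoddG : Odd (Nat.card G) := hG.1
  have hrk : ∀ p : ℕ, p.Prime → PRankLE p 1 ↥Y := by
    intro p hp B' hB'c hB'e
    have : Fact p.Prime := ⟨hp⟩
    by_contra hlt
    rw [pow_one, not_le] at hlt
    set B : Subgroup G := B'.map Y.subtype with hB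
    have hBcard : Nat.card B = Nat.card B' :=
      Subgroup.card_map_of_injective Y.subtype_injective
    have hBY : B ≤ Y := Subgroup.map_subtype_le _
    have hBe : ∀ b ∈ B, b ^ p = 1 := by
      rintro _ ⟨b, hb, rfl⟩
      have := hB'e b hb
      simpa using congrArg Subtype.val this
    have hBp : IsPGroup p B := by
      intro b
      refine ⟨1, ?_⟩
      apply Subtype.ext
      rw [pow_one]
      simpa using hBe b b.2
    obtain ⟨A, hAB, hAcard⟩ := Cfsg.Agent.Lib.Helper34.exists_le_card_eq_sq hBp (hBcard ▸ hlt)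
    have hAY : A ≤ Y := hAB.trans hBY
    have hAe : IsElementaryAbelian p A := by
      refine ⟨⟨⟨fun a b => ?_⟩⟩, fun a ha => hBe a (hAB ha)⟩
      obtain ⟨a', ha', haa⟩ := hAB a.2
      obtain ⟨b', hb', hbb⟩ := hAB b.2
      have h1 : a' * b' = b' * a' := by
        have := hB'c.is_comm.comm ⟨a', ha'⟩ ⟨b', hb'⟩
        exact congrArg Subtype.val this
      apply Subtype.ext
      show (a : G) * (b : G) = (b : G) * (a : G)
      rw [← haa, ← hbb]
      exact congrArg Subtype.val h1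
    have hAM : A ≤ M := (hAY.trans inf_le_left).trans hσM
    have hC := h1416 p A hAM hAe hAcard
    have hpd : p ∣ Nat.card (sigmaCore M) := by
      have : p ∣ Nat.card A := by rw [hAcard]; exact dvd_pow_self p two_ne_zero
      exact this.trans (Subgroup.card_dvd_of_le (hAY.trans inf_le_left))
    have hpσ : p ∈ sigma M := Cfsg.Agent.Lib.Helper54.piCoreOf_isPi (sigma M) M p hp hpd
    have hAp : IsPGroup p A := IsPGroup.of_card (n := 2) hAcard
    have hA1 : A ≠ ⊥ := by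
      intro h0
      rw [h0, Subgroup.card_bot] at hAcard
      have := hp.one_lt
      nlinarith
    exact hg (mem_of_le_map_conj hF hpσ hAp hA1 hAM hC (hAY.trans inf_le_right))
  have hZ : IsZGroup ↥Y := by
    refine ⟨fun p hp P => ?_⟩
    have : Fact p.Prime := ⟨hp⟩
    by_cases hp2 : p = 2
    · -- a 2-subgroup of a group of odd order is trivial
      have hcardP : Nat.card (P : Subgroup ↥Y) = 1 := by
        obtain ⟨k, hk⟩ := IsPGroup.iff_card.mp P.2
        have hdvd : Nat.card (P : Subgroup ↥Y) ∣ Nat.card G :=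
          (Subgroup.card_subgroup_dvd_card _).trans (Subgroup.card_subgroup_dvd_card Y)
        rw [hk, hp2] at hdvd
        rcases Nat.eq_zero_or_pos k with h0 | hpos
        · rw [hk, h0, pow_zero]
        · exfalso
          have h2 : 2 ∣ Nat.card G := (dvd_pow_self 2 hpos.ne').trans hdvd
          exact (Nat.not_even_iff_odd.mpr hoddG) (even_iff_two_dvd.mpr h2)
      have : Subsingleton (P : Subgroup ↥Y) := (Nat.card_eq_one_iff_unique.mp hcardP).1
      exact isCyclic_of_subsingleton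
    · exact Cfsg.Agent.Lib.Helper49.isCyclic_of_pRankLE_one hp2 P.2
        (Cfsg.Agent.Lib.Helper49.pRankLE_one_subgroup (hrk p hp) (P : Subgroup ↥Y))
  infer_instance

/-- **S1426, conditional form.** -/
theorem s1426_of (hG : IsMinSimpleOddOrder G) (M : Subgroup G) (hM : IsCoatom M)
    (hF : FusionControl M)
    (hHall : IsPiHallOf (sigma M) (sigmaCore M) M)
    (hsyl : ∀ (p : ℕ) [Fact p.Prime], p ∈ sigma M → ∀ S : Sylow p M,
      (S : Subgroup M).map M.subtype ≤ ⁅M, M⁆)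
    (h1416 : ∀ (p : ℕ) [Fact p.Prime] (A : Subgroup G), A ≤ M → IsElementaryAbelian p A →
      Nat.card A = p ^ 2 → Subgroup.centralizer (A : Set G) ≤ M)
    (h1423 : ∀ (p : ℕ) [Fact p.Prime], p ∈ sigma M → ∀ X : Subgroup G, X ≤ M → Nat.card X = p →
      (p ∈ beta M ∨ X ≤ ⁅sigmaCore M, sigmaCore M⁆) → Subgroup.centralizer (X : Set G) ≤ M)
    (E : Subgroup G) (hE : IsComplIn E (sigmaCore M) M) :
    sigmaCore M ⊓ Subgroup.centralizer (E : Set G) ≤ ⁅sigmaCore M, sigmaCore M⁆ ∧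
      ⁅sigmaCore M, E⁆ = sigmaCore M ∧
      ∀ g : G, g ∉ M → IsCyclic ↥(sigmaCore M ⊓ M.map (MulAut.conj g).toMonoidHom) ∧
        (∀ p : ℕ, p.Prime → p ∣ Nat.card ↥(sigmaCore M ⊓ M.map (MulAut.conj g).toMonoidHom) →
          p ∉ beta M) ∧
        sigmaCore M ⊓ M.map (MulAut.conj g).toMonoidHom ⊓ ⁅sigmaCore M, sigmaCore M⁆ = ⊥ := by
  obtain ⟨h1, h2⟩ := split_parts hG M hM hHall (sigmaCore_le_commutator M hsyl) E hE
  exact ⟨h1, h2, fun g hg => inter_conj_parts hG M hF h1416 h1423 g hg⟩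

end Cfsg.Agent.Lib.Helper30.BGSigmaE
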