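import Mathlib
import Cfsg.Agent.Lib.Helper48.Coprime
import Cfsg.Agent.Lib.Helper54.Coprime
import Cfsg.Agent.Lib.Helper82.NilAbelCyclic

/-!
# Pure group theory for the asymmetry lemma (special case of Bender–Glauberman 13.8)

* `le_of_forall_exists_sylow_le`: a subgroup containing one Sylow `q`-subgroup of `B` for every prime `q`
  contains `B`.
* `false_of_burnside_frattini`, `false_of_burnside_frattini_sub`: a finite group `C` cannot have a
  nontrivial Sylow `s`-subgroup `W` with `N_C(W) ≤ C_C(W)` and a Sylow `t`-subgroup `T` (`t ≠ s`) whose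
  normalizer in `C` is an `s'`-group  (Burnside's transfer theorem and the Frattini argument).
* `commutator_eq_of_inf_centralizer_eq_bot`: `[S, P] = S` for a fixed-point-free coprime action.
* `commutator_le_centralizer_of_isCyclic`: `[S, P]` centralizes every cyclic subgroup normalized by `S`
  and `P`.
-/

set_option autoImplicit false

namespace Cfsg.Agent.Lib.Helper30.BGAsym

open scoped Pointwise

variable {G : Type*} [Group G]

/-- A subgroup `C` containing a Sylow `q`-subgroup of `B` for each prime `q` contains `B`. -/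
theorem le_of_forall_exists_sylow_le [Finite G] {B C : Subgroup G}
    (h : ∀ (q : ℕ) [Fact q.Prime], ∃ Q : Sylow q B, (Q : Subgroup B).map B.subtype ≤ C) :
    B ≤ C := by
  have hdvd : Nat.card B ∣ Nat.card (B ⊓ C : Subgroup G) := by
    rw [← Nat.factorization_prime_le_iff_dvd Nat.card_pos.ne' Nat.card_pos.ne']
    intro q hq
    have : Fact q.Prime := ⟨hq⟩
    obtain ⟨Q, hQ⟩ := h q
    have hQBC : (Q : Subgroup B).map B.subtype ≤ B ⊓ C := le_inf (Subgroup.map_subtype_le _) hQ
    have hcard : Nat.card ((Q : Subgroup B).map B.subtype) = q ^ (Nat.card B).factorization q :=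
      Cfsg.Agent.Lib.Helper54.card_map_sylow B Q
    have h1 := Subgroup.card_dvd_of_le hQBC
    rw [hcard] at h1
    exact (hq.pow_dvd_iff_le_factorization Nat.card_pos.ne').mp h1
  have hle : Nat.card B ≤ Nat.card (B ⊓ C : Subgroup G) := Nat.le_of_dvd Nat.card_pos hdvd
  have heq : B ⊓ C = B := Subgroup.eq_of_le_of_card_ge inf_le_left hle
  exact heq ▸ inf_le_right

/-- Frattini argument: if the Sylow subgroup `T` lies in the normal subgroup `K`, then `|C : K|` divides
`|N_C(T)|`. -/
theorem index_dvd_card_normalizer_of_sylow_le {C : Type*} [Group C] [Finite C] {t : ℕ}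
    [Fact t.Prime] (K : Subgroup C) [K.Normal] (T : Sylow t C) (hT : (T : Subgroup C) ≤ K) :
    K.index ∣ Nat.card (Subgroup.normalizer ((T : Subgroup C) : Set C)) := by
  have h1 : Subgroup.normalizer ((T : Subgroup C) : Set C) ⊔ K = ⊤ :=
    Sylow.normalizer_sup_eq_top' T hT
  have h2 : K.relIndex (Subgroup.normalizer ((T : Subgroup C) : Set C) ⊔ K) =
      K.relIndex (Subgroup.normalizer ((T : Subgroup C) : Set C)) :=
    Subgroup.relIndex_sup_right _ _
  rw [h1, Subgroup.relIndex_top_right] at h2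
  rw [h2]
  exact Subgroup.relIndex_dvd_card _ _

/-- **Burnside + Frattini.**  A finite group cannot have a nontrivial Sylow `s`-subgroup `W` with
`N(W) ≤ C(W)` together with a Sylow `t`-subgroup (`t ≠ s`) whose normalizer is an `s'`-group. -/
theorem false_of_burnside_frattini {C : Type*} [Group C] [Finite C] {s t : ℕ} [Fact s.Prime]
    [Fact t.Prime] (hst : s ≠ t) (W : Sylow s C) (hW1 : (W : Subgroup C) ≠ ⊥)
    (hN : Subgroup.normalizer ((W : Subgroup C) : Set C) ≤
      Subgroup.centralizer ((W : Subgroup C) : Set C))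
    (T : Sylow t C)
    (hT : ¬ s ∣ Nat.card (Subgroup.normalizer ((T : Subgroup C) : Set C))) : False := by
  have hs : s.Prime := Fact.out
  have hcompl : (MonoidHom.transferSylow W hN).ker.IsComplement' W :=
    MonoidHom.ker_transferSylow_isComplement' W hN
  have hidx : (MonoidHom.transferSylow W hN).ker.index = Nat.card W := hcompl.symm.index_eq_card
  have hTK : (T : Subgroup C) ≤ (MonoidHom.transferSylow W hN).ker := by
    rw [← Subgroup.map_eq_bot_iff]
    have h1 : IsPGroup t ((T : Subgroup C).map (MonoidHom.transferSylow W hN)) := T.2.map _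
    have h2 : IsPGroup s (⊤ : Subgroup W) := W.2.to_subgroup ⊤
    have h3 := IsPGroup.disjoint_of_ne t s (Ne.symm hst) _ _ h1 h2
    exact disjoint_top.mp h3
  have h4 := index_dvd_card_normalizer_of_sylow_le (MonoidHom.transferSylow W hN).ker T hTK
  rw [hidx] at h4
  apply hT
  refine dvd_trans ?_ h4
  obtain ⟨n, hn⟩ := W.2.exists_card_eq
  have hn0 : n ≠ 0 := by
    rintro rfl
    rw [pow_zero] at hn
    exact hW1 ((Subgroup.card_eq_one).mp hn)
  rw [hn]
  exact dvd_pow_self s hn0

/-- A maximal `p`-subgroup of `C` (as subgroups of `G`) gives a Sylow `p`-subgroup of `↥C`. -/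
theorem exists_sylow_of_max [Finite G] {p : ℕ} [Fact p.Prime] (C W : Subgroup G) (hWC : W ≤ C)
    (hW : IsPGroup p W)
    (hmax : ∀ Y : Subgroup G, IsPGroup p Y → W ≤ Y → Y ≤ C → Y = W) :
    ∃ Q : Sylow p C, (Q : Subgroup C) = W.subgroupOf C := by
  have hW' : IsPGroup p (W.subgroupOf C) := hW.comap_subtype
  obtain ⟨Q, hQ⟩ := hW'.exists_le_sylow
  refine ⟨Q, ?_⟩
  have h1 : (Q : Subgroup C).map C.subtype = W := by
    apply hmax _ (Q.2.map _)
    · intro w hw
      exact ⟨⟨w, hWC hw⟩, hQ (Subgroup.mem_subgroupOf.mpr hw), rfl⟩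
    · exact Subgroup.map_subtype_le _
  rw [← h1]
  exact (Subgroup.comap_map_eq_self_of_injective (Subgroup.subtype_injective C) _).symm

/-- Subgroup form of `false_of_burnside_frattini`. -/
theorem false_of_burnside_frattini_sub [Finite G] {s t : ℕ} [Fact s.Prime] [Fact t.Prime]
    (hst : s ≠ t) (C W T : Subgroup G) (hWC : W ≤ C) (hTC : T ≤ C)
    (hWs : IsPGroup s W) (hW1 : W ≠ ⊥)
    (hWmax : ∀ Y : Subgroup G, IsPGroup s Y → W ≤ Y → Y ≤ C → Y = W)
    (hWN : C ⊓ Subgroup.normalizer (W : Set G) ≤ Subgroup.centralizer (W : Set G))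
    (hTt : IsPGroup t T)
    (hTmax : ∀ Y : Subgroup G, IsPGroup t Y → T ≤ Y → Y ≤ C → Y = T)
    (hTN : ¬ s ∣ Nat.card (C ⊓ Subgroup.normalizer (T : Set G) : Subgroup G)) : False := by
  obtain ⟨QW, hQW⟩ := exists_sylow_of_max C W hWC hWs hWmax
  obtain ⟨QT, hQT⟩ := exists_sylow_of_max C T hTC hTt hTmax
  apply false_of_burnside_frattini hst QW _ _ QT
  · rw [hQT, ← Subgroup.subgroupOf_normalizer_eq hTC]
    have e : Nat.card ((Subgroup.normalizer (T : Set G)).subgroupOf C) =
        Nat.card (C ⊓ Subgroup.normalizer (T : Set G) : Subgroup G) := by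
      rw [← Subgroup.inf_subgroupOf_left]
      exact Nat.card_congr (Subgroup.subgroupOfEquivOfLe inf_le_left).toEquiv
    rw [e]
    exact hTN
  · rw [hQW]
    intro h
    apply hW1
    rw [Subgroup.subgroupOf_eq_bot] at h
    rw [← inf_eq_left.mpr hWC]
    exact disjoint_iff.mp h
  · rw [hQW, ← Subgroup.subgroupOf_normalizer_eq hWC]
    intro x hx
    rw [Subgroup.mem_subgroupOf] at hx
    have hx' := hWN ⟨x.2, hx⟩
    rw [Subgroup.mem_centralizer_iff] at hx' ⊢
    intro w hw
    have hw' : (w : G) ∈ W := Subgroup.mem_subgroupOf.mp hw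
    exact Subtype.ext (hx' w hw')

/-- `[S, P] = S` when the `p`-group `P` acts on the `p'`-group `S` without fixed points. -/
theorem commutator_eq_of_inf_centralizer_eq_bot [Finite G] {p : ℕ} [Fact p.Prime] {S P : Subgroup G}
    (hP : IsPGroup p P) (hS : ¬ p ∣ Nat.card S) (hPS : P ≤ Subgroup.normalizer (S : Set G))
    (hfix : S ⊓ Subgroup.centralizer (P : Set G) = ⊥) : ⁅S, P⁆ = S := by
  apply le_antisymm (Cfsg.Agent.Lib.Helper48.commutator_le_of_le_normalizer hPS)
  intro x hx
  obtain ⟨c, hc, w, hw, rfl⟩ :=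
    Cfsg.Agent.Lib.Helper48.exists_centralizer_mul_commutator hP hS hPS hx
  rw [hfix, Subgroup.mem_bot] at hc
  rw [hc, one_mul]
  exact hw

/-- The derived subgroup of the normalizer of a cyclic subgroup centralizes it. -/
theorem commutator_le_centralizer_of_isCyclic {T S P : Subgroup G} (hT : IsCyclic T)
    (hS : S ≤ Subgroup.normalizer (T : Set G)) (hP : P ≤ Subgroup.normalizer (T : Set G)) :
    ⁅S, P⁆ ≤ Subgroup.centralizer (T : Set G) := by
  let _ := (hT.mulAutMulEquiv T).toMonoidHom.commGroupOfInjective (hT.mulAutMulEquiv T).injective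
  have h := Abelianization.commutator_subset_ker T.normalizerMonoidHom
  rw [Subgroup.normalizerMonoidHom_ker, ← Subgroup.map_subtype_le_map_subtype,
    Subgroup.map_subtype_commutator] at h
  refine (Subgroup.commutator_mono hS hP).trans (h.trans ?_)
  rintro _ ⟨x, hx, rfl⟩
  exact Subgroup.mem_subgroupOf.mp hx

end Cfsg.Agent.Lib.Helper30.BGAsym
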