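import Mathlib
import Cfsg.Prelude.Def_OddOrderLocal
import Cfsg.Agent.Lib.Helper24.ExtraSp

/-!
# Non-abelian subgroups of order `p ^ 3` and exponent `p` (helper30)

For `P₁ ≤ G` non-abelian of order `p ^ 3` and exponent `p`, with `Z = Z(P₁)`:
`|Z| = p`, commutators lie in `Z`, `A_c = ⟨c⟩ Z` is elementary abelian of order `p ^ 2` for
`c ∈ P₁ ∖ Z`, and every subgroup of order `p` of `A_c` other than `Z` is `P₁`-conjugate to `⟨c⟩`.
-/

set_option autoImplicit false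
set_option linter.unusedSectionVars false

namespace Cfsg.Agent.Lib.Helper30.BGExtra

open Cfsg
open scoped commutatorElement

variable {G : Type*} [Group G]

/-- a subgroup of prime order is generated by any of its non-identity elements -/
theorem eq_zpowers_of_card_prime [Finite G] {p : ℕ} [hp : Fact p.Prime] {B : Subgroup G}
    (hB : Nat.card B = p) {d : G} (hd : d ∈ B) (hd1 : d ≠ 1) : B = Subgroup.zpowers d := by
  have hle : Subgroup.zpowers d ≤ B := by rw [Subgroup.zpowers_le]; exact hd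
  symm
  apply Subgroup.eq_of_le_of_card_ge hle
  rw [hB, Nat.card_zpowers]
  have h1 : orderOf d ∣ p := by
    have := Subgroup.card_dvd_of_le hle
    rwa [Nat.card_zpowers, hB] at this
  rcases (Nat.dvd_prime hp.out).mp h1 with h | h
  · exact absurd (orderOf_eq_one_iff.mp h) hd1
  · exact h.ge

/-- The centre of `P₁`, as a subgroup of `G`. -/
def zOf (P₁ : Subgroup G) : Subgroup G := P₁ ⊓ Subgroup.centralizer (P₁ : Set G)

theorem zOf_le (P₁ : Subgroup G) : zOf P₁ ≤ P₁ := inf_le_left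

theorem mem_zOf_comm {P₁ : Subgroup G} {z x : G} (hz : z ∈ zOf P₁) (hx : x ∈ P₁) :
    x * z = z * x := Subgroup.mem_centralizer_iff.mp hz.2 x hx

theorem zOf_eq_map (P₁ : Subgroup G) : zOf P₁ = (Subgroup.center ↥P₁).map P₁.subtype := by
  ext x
  constructor
  · rintro ⟨hx1, hx2⟩
    refine ⟨⟨x, hx1⟩, ?_, rfl⟩
    refine Subgroup.mem_center_iff.mpr ?_
    intro g
    apply Subtype.ext
    exact Subgroup.mem_centralizer_iff.mp hx2 g g.2
  · rintro ⟨y, hy, rfl⟩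
    refine ⟨y.2, ?_⟩
    refine Subgroup.mem_centralizer_iff.mpr ?_
    intro g hg
    have := Subgroup.mem_center_iff.mp hy ⟨g, hg⟩
    exact congrArg Subtype.val this

section Extra

variable [Finite G] {p : ℕ} [hp : Fact p.Prime] (P₁ : Subgroup G)
  (hna : ¬ IsMulCommutative P₁) (hcard : Nat.card P₁ = p ^ 3) (hexp : Monoid.exponent P₁ = p)

include hexp in
theorem pow_eq_one {x : G} (hx : x ∈ P₁) : x ^ p = 1 := by
  have := Monoid.pow_exponent_eq_one (⟨x, hx⟩ : ↥P₁)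
  rw [hexp] at this
  simpa using congrArg Subtype.val this

include hna hcard in
theorem card_zOf : Nat.card (zOf P₁) = p := by
  have hnc : ¬ ∀ a b : ↥P₁, a * b = b * a := fun h => hna ⟨⟨h⟩⟩
  rw [zOf_eq_map, Subgroup.card_map_of_injective P₁.subtype_injective]
  exact (Cfsg.Agent.Lib.Helper24.center_of_card_cube hcard hnc).1

include hna hcard in
theorem commutator_mem_zOf {x y : G} (hx : x ∈ P₁) (hy : y ∈ P₁) : ⁅x, y⁆ ∈ zOf P₁ := by
  have hnc : ¬ ∀ a b : ↥P₁, a * b = b * a := fun h => hna ⟨⟨h⟩⟩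
  have := (Cfsg.Agent.Lib.Helper24.center_of_card_cube hcard hnc).2 ⟨x, hx⟩ ⟨y, hy⟩
  rw [zOf_eq_map]
  exact ⟨_, this, rfl⟩

/-- `A_c = ⟨c⟩ Z`. -/
def aOf (P₁ : Subgroup G) (c : G) : Subgroup G := Subgroup.zpowers c ⊔ zOf P₁

theorem aOf_le {c : G} (hc : c ∈ P₁) : aOf P₁ c ≤ P₁ :=
  sup_le (by rw [Subgroup.zpowers_le]; exact hc) (zOf_le P₁)

theorem zOf_le_aOf (c : G) : zOf P₁ ≤ aOf P₁ c := le_sup_right

theorem mem_aOf_self (c : G) : c ∈ aOf P₁ c :=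
  le_sup_left (a := Subgroup.zpowers c) (Subgroup.mem_zpowers c)

/-- elements of `A_c` have the form `c ^ k * z` -/
theorem exists_of_mem_aOf {c : G} (hc : c ∈ P₁) {x : G} (hx : x ∈ aOf P₁ c) :
    ∃ k : ℤ, ∃ z ∈ zOf P₁, x = c ^ k * z := by
  have hN : zOf P₁ ≤ Subgroup.normalizer ((Subgroup.zpowers c : Subgroup G) : Set G) := by
    intro z hz
    refine Subgroup.mem_normalizer_iff.mpr ?_
    intro y
    have hfix : ∀ y ∈ Subgroup.zpowers c, z * y * z⁻¹ = y := by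
      intro y hy
      have hyP : y ∈ P₁ := (Subgroup.zpowers_le.mpr hc) hy
      rw [← mem_zOf_comm hz hyP, mul_inv_cancel_right]
    constructor
    · intro hy; rw [hfix y hy]; exact hy
    · intro hy
      have h1 : z⁻¹ * (z * y * z⁻¹) * z = z * y * z⁻¹ := by
        have hyP : z * y * z⁻¹ ∈ P₁ := (Subgroup.zpowers_le.mpr hc) hy
        have hzi : z⁻¹ ∈ zOf P₁ := (zOf P₁).inv_mem hz
        rw [← mem_zOf_comm hzi hyP, mul_assoc, inv_mul_cancel, mul_one]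
      have h2 : z⁻¹ * (z * y * z⁻¹) * z = y := by group
      rw [h2] at h1
      rw [h1]; exact hy
  unfold aOf at hx
  rw [← SetLike.mem_coe, Subgroup.coe_mul_of_right_le_normalizer_left _ _ hN] at hx
  obtain ⟨y, hy, z, hz, rfl⟩ := hx
  obtain ⟨k, rfl⟩ := Subgroup.mem_zpowers_iff.mp hy
  exact ⟨k, z, hz, rfl⟩

include hexp in
theorem aOf_isElementaryAbelian {c : G} (hc : c ∈ P₁) : IsElementaryAbelian p (aOf P₁ c) := by
  have hcz : ∀ (k : ℤ) (z : G), z ∈ zOf P₁ → Commute (c ^ k) z := by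
    intro k z hz
    exact mem_zOf_comm hz (P₁.zpow_mem hc k)
  refine ⟨⟨⟨fun x y => ?_⟩⟩, fun x hx => ?_⟩
  · obtain ⟨k, z, hz, hxe⟩ := exists_of_mem_aOf P₁ hc x.2
    obtain ⟨l, w, hw, hye⟩ := exists_of_mem_aOf P₁ hc y.2
    apply Subtype.ext
    show (x : G) * (y : G) = (y : G) * (x : G)
    rw [hxe, hye]
    have h1 : Commute (c ^ k) (c ^ l) := (Commute.refl c).zpow_zpow k l
    have h2 : Commute z w := mem_zOf_comm hw (zOf_le P₁ hz)
    have h3 := hcz k w hw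
    have h4 := hcz l z hz
    calc c ^ k * z * (c ^ l * w) = c ^ k * (z * c ^ l) * w := by group
      _ = c ^ k * (c ^ l * z) * w := by rw [h4.eq]
      _ = (c ^ k * c ^ l) * (z * w) := by group
      _ = (c ^ l * c ^ k) * (w * z) := by rw [h1.eq, h2.eq]
      _ = c ^ l * (c ^ k * w) * z := by group
      _ = c ^ l * (w * c ^ k) * z := by rw [h3.eq]
      _ = c ^ l * w * (c ^ k * z) := by group
  · obtain ⟨k, z, hz, rfl⟩ := exists_of_mem_aOf P₁ hc hx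
    rw [(hcz k z hz).mul_pow, pow_eq_one P₁ hexp (P₁.zpow_mem hc k),
      pow_eq_one P₁ hexp (zOf_le P₁ hz), one_mul]

include hna hcard hexp in
theorem card_aOf {c : G} (hc : c ∈ P₁) (hcZ : c ∉ zOf P₁) : Nat.card (aOf P₁ c) = p ^ 2 := by
  have hle := aOf_le P₁ hc
  have hdvd : Nat.card (aOf P₁ c) ∣ p ^ 3 := hcard ▸ Subgroup.card_dvd_of_le hle
  obtain ⟨m, hm3, hm⟩ := (Nat.dvd_prime_pow hp.out).mp hdvd
  have hp1 := hp.out.one_lt
  -- `m < 3` as `A_c` is abelian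
  have hlt3 : m ≠ 3 := by
    intro h
    apply hna
    have : aOf P₁ c = P₁ := by
      apply Subgroup.eq_of_le_of_card_ge hle
      rw [hm, h, hcard]
    rw [← this]
    exact (aOf_isElementaryAbelian P₁ hexp hc).1
  -- `m > 1` as `Z < A_c`
  have hgt1 : 1 < m := by
    have hlt : zOf P₁ < aOf P₁ c :=
      lt_of_le_of_ne (zOf_le_aOf P₁ c) (fun h => hcZ (h ▸ mem_aOf_self P₁ c))
    have h1 : Nat.card (zOf P₁) < Nat.card (aOf P₁ c) := by
      by_contra hcon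
      exact hlt.ne (Subgroup.eq_of_le_of_card_ge hlt.le (not_lt.mp hcon))
    rw [card_zOf P₁ hna hcard, hm] at h1
    by_contra hcon
    have : m ≤ 1 := not_lt.mp hcon
    have h2 : p ^ m ≤ p ^ 1 := Nat.pow_le_pow_right hp.out.pos this
    rw [pow_one] at h2
    omega
  have : m = 2 := by omega
  rw [hm, this]

include hna hcard hexp in
/-- every subgroup of order `p` of `A_c` other than `Z` is `P₁`-conjugate to `⟨c⟩` -/
theorem exists_conj_of_le_aOf {c : G} (hc : c ∈ P₁) (hcZ : c ∉ zOf P₁) {B : Subgroup G}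
    (hBA : B ≤ aOf P₁ c) (hB : Nat.card B = p) (hBZ : B ≠ zOf P₁) :
    ∃ s ∈ P₁, B = Subgroup.zpowers (s * c * s⁻¹) := by
  have hcp : c ^ p = 1 := pow_eq_one P₁ hexp hc
  have hZcard := card_zOf P₁ hna hcard
  -- a generator of `B`
  have hB1 : B ≠ ⊥ := by
    intro h
    rw [h, Subgroup.card_bot] at hB
    exact hp.out.one_lt.ne hB
  obtain ⟨d', hd'⟩ := (Subgroup.ne_bot_iff_exists_ne_one).mp hB1
  obtain ⟨d, hdB, hd1⟩ : ∃ d : G, d ∈ B ∧ d ≠ 1 :=
    ⟨(d' : G), d'.2, fun h => hd' (Subtype.ext h)⟩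
  obtain ⟨k, z, hz, hdk⟩ := exists_of_mem_aOf P₁ hc (hBA hdB)
  -- `p ∤ k`
  have hpk : ¬ (p : ℤ) ∣ k := by
    rintro ⟨t, rfl⟩
    have h1 : c ^ ((p : ℤ) * t) = 1 := by
      rw [zpow_mul, zpow_natCast, hcp, one_zpow]
    rw [h1, one_mul] at hdk
    apply hBZ
    rw [eq_zpowers_of_card_prime hB hdB hd1, hdk]
    exact (eq_zpowers_of_card_prime hZcard hz (hdk ▸ hd1)).symm
  -- invert `k` modulo `p`
  have hcop : IsCoprime k (p : ℤ) := by
    rw [isCoprime_comm]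
    exact (Int.prime_iff_natAbs_prime.mpr (by simpa using hp.out)).coprime_iff_not_dvd.mpr hpk
  obtain ⟨i, j, hij⟩ := hcop
  -- `d ^ i = c * z ^ i`
  have hczk : Commute (c ^ k) z := mem_zOf_comm hz (P₁.zpow_mem hc k)
  have hdi : d ^ i = c * z ^ i := by
    rw [hdk, hczk.mul_zpow, ← zpow_mul]
    have h1 : k * i = 1 - j * (p : ℤ) := by linarith
    rw [h1, zpow_sub, zpow_one, zpow_mul, zpow_natCast]
    have : (c ^ j) ^ p = 1 := by rw [← zpow_natCast, ← zpow_mul, mul_comm, zpow_mul, zpow_natCast, hcp, one_zpow]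
    rw [this, inv_one, mul_one]
  have hziZ : z ^ i ∈ zOf P₁ := (zOf P₁).zpow_mem hz i
  have hdi1 : d ^ i ≠ 1 := by
    intro h
    rw [hdi] at h
    apply hcZ
    have : c = (z ^ i)⁻¹ := eq_inv_of_mul_eq_one_left h
    rw [this]; exact (zOf P₁).inv_mem hziZ
  have hBgen : B = Subgroup.zpowers (c * z ^ i) := by
    rw [← hdi]
    exact eq_zpowers_of_card_prime hB (B.zpow_mem hdB i) hdi1
  -- find `s` with `s c s⁻¹ = c z^i`
  have hnotcent : ∃ s₀ ∈ P₁, s₀ * c ≠ c * s₀ := by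
    by_contra hcon
    push Not at hcon
    apply hcZ
    refine ⟨hc, ?_⟩
    refine Subgroup.mem_centralizer_iff.mpr ?_
    intro g hg
    exact hcon g hg
  obtain ⟨s₀, hs₀, hs₀c⟩ := hnotcent
  set z₀ : G := ⁅s₀, c⁆ with hz₀
  have hz₀Z : z₀ ∈ zOf P₁ := commutator_mem_zOf P₁ hna hcard hs₀ hc
  have hz₀1 : z₀ ≠ 1 := by
    intro h
    rw [hz₀, commutatorElement_eq_one_iff_mul_comm] at h
    exact hs₀c h
  have hZgen : zOf P₁ = Subgroup.zpowers z₀ := eq_zpowers_of_card_prime hZcard hz₀Z hz₀1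
  have hmem : z ^ i ∈ Subgroup.zpowers z₀ := hZgen ▸ hziZ
  have hfin : IsOfFinOrder z₀ := isOfFinOrder_of_finite z₀
  rw [← mem_powers_iff_mem_zpowers] at hmem
  obtain ⟨n, hn⟩ := hmem
  have hn' : z₀ ^ n = z ^ i := hn
  -- `s₀ ^ n * c * s₀ ^ (-n) = z₀ ^ n * c`
  have hconj : ∀ n : ℕ, s₀ ^ n * c * (s₀ ^ n)⁻¹ = z₀ ^ n * c := by
    intro n
    induction n with
    | zero => simp
    | succ n ih =>
      have hzn : z₀ ^ n ∈ zOf P₁ := (zOf P₁).pow_mem hz₀Z n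
      have h1 : s₀ * z₀ ^ n = z₀ ^ n * s₀ := mem_zOf_comm hzn hs₀
      have h2 : s₀ * c * s₀⁻¹ = z₀ * c := by rw [hz₀, commutatorElement_def]; group
      calc s₀ ^ (n + 1) * c * (s₀ ^ (n + 1))⁻¹
          = s₀ * (s₀ ^ n * c * (s₀ ^ n)⁻¹) * s₀⁻¹ := by rw [pow_succ']; group
        _ = s₀ * (z₀ ^ n * c) * s₀⁻¹ := by rw [ih]
        _ = (s₀ * z₀ ^ n) * c * s₀⁻¹ := by group
        _ = (z₀ ^ n * s₀) * c * s₀⁻¹ := by rw [h1]
        _ = z₀ ^ n * (s₀ * c * s₀⁻¹) := by group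
        _ = z₀ ^ n * (z₀ * c) := by rw [h2]
        _ = z₀ ^ (n + 1) * c := by rw [pow_succ]; group
  refine ⟨s₀ ^ n, P₁.pow_mem hs₀ n, ?_⟩
  rw [hBgen, hconj n, hn']
  congr 1
  exact (mem_zOf_comm hziZ hc)

include hna hcard hexp in
/-- two "independent" noncentral elements -/
theorem exists_pair : ∃ b₁ ∈ P₁, ∃ b₂ ∈ P₁, b₁ ∉ zOf P₁ ∧ ∀ i : ℕ, b₁ ^ i * b₂ ∉ zOf P₁ := by
  have hp1 := hp.out.one_lt
  have hZcard := card_zOf P₁ hna hcard
  have hZlt : zOf P₁ < P₁ := by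
    refine lt_of_le_of_ne (zOf_le P₁) (fun h => ?_)
    rw [h, hcard] at hZcard
    have : p ^ 3 > p ^ 1 := Nat.pow_lt_pow_right hp1 (by norm_num)
    rw [pow_one] at this
    omega
  obtain ⟨b₁, hb₁, hb₁Z⟩ := SetLike.exists_of_lt hZlt
  have hAlt : aOf P₁ b₁ < P₁ := by
    refine lt_of_le_of_ne (aOf_le P₁ hb₁) (fun h => ?_)
    have h1 := card_aOf P₁ hna hcard hexp hb₁ hb₁Z
    rw [h, hcard] at h1
    have : p ^ 3 > p ^ 2 := Nat.pow_lt_pow_right hp1 (by norm_num)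
    omega
  obtain ⟨b₂, hb₂, hb₂A⟩ := SetLike.exists_of_lt hAlt
  refine ⟨b₁, hb₁, b₂, hb₂, hb₁Z, fun i hi => hb₂A ?_⟩
  have h1 : b₂ = (b₁ ^ i)⁻¹ * (b₁ ^ i * b₂) := by group
  rw [h1]
  exact (aOf P₁ b₁).mul_mem ((aOf P₁ b₁).inv_mem ((aOf P₁ b₁).pow_mem (mem_aOf_self P₁ b₁) i))
    (zOf_le_aOf P₁ b₁ hi)

end Extra

end Cfsg.Agent.Lib.Helper30.BGExtra
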