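import Mathlib
import Cfsg.Agent.Lib.Helper48.Generation

/-!
# Coprime generation modulo a central subgroup (helper30)

If `a`, `b` have order dividing `p`, commute modulo a subgroup `X` which they centralize and which
centralizes the `p'`-group `K` (normalized by `a`, `b`, `X ∩ K = 1`), then `K` is generated by the
centralizers `C_K(a)`, `C_K(a^i b)`.  This is `Helper48.coprime_generation` applied in
`C_G(X) / X`.
-/

set_option autoImplicit false

namespace Cfsg.Agent.Lib.Helper30.BGGenMod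

open scoped commutatorElement

variable {G : Type*} [Group G]

theorem gen_mod_center {p : ℕ} [Fact p.Prime] [Finite G] (X K Y : Subgroup G) {a b : G}
    (ha : a ^ p = 1) (hb : b ^ p = 1) (hab : a * b * a⁻¹ * b⁻¹ ∈ X)
    (haX : a ∈ Subgroup.centralizer (X : Set G)) (hbX : b ∈ Subgroup.centralizer (X : Set G))
    (hKX : K ≤ Subgroup.centralizer (X : Set G))
    (hXK : X ⊓ K = ⊥) (hK : ¬ p ∣ Nat.card K)
    (haK : a ∈ Subgroup.normalizer (K : Set G)) (hbK : b ∈ Subgroup.normalizer (K : Set G))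
    (hYa : K ⊓ Subgroup.centralizer ({a} : Set G) ≤ Y)
    (hYb : ∀ i : ℕ, K ⊓ Subgroup.centralizer ({a ^ i * b} : Set G) ≤ Y) : K ≤ Y := by
  set H : Subgroup G := Subgroup.centralizer (X : Set G) with hH
  set X' : Subgroup ↥H := X.subgroupOf H with hX'
  have hX'n : X'.Normal := by
    refine ⟨fun n hn g => ?_⟩
    rw [hX', Subgroup.mem_subgroupOf] at hn ⊢
    have h1 : (g : G) * (n : G) = (n : G) * (g : G) :=
      (Subgroup.mem_centralizer_iff.mp g.2 (n : G) hn).symm
    have h2 : ((g * n * g⁻¹ : ↥H) : G) = (n : G) := by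
      push_cast
      rw [h1, mul_assoc, mul_inv_cancel, mul_one]
    rw [h2]; exact hn
  let π : ↥H →* ↥H ⧸ X' := QuotientGroup.mk' X'
  set a' : ↥H := ⟨a, haX⟩ with ha'
  set b' : ↥H := ⟨b, hbX⟩ with hb'
  set K' : Subgroup ↥H := K.subgroupOf H with hK'
  set Kb : Subgroup (↥H ⧸ X') := K'.map π with hKb
  set Yb : Subgroup (↥H ⧸ X') := ((Y ⊓ K).subgroupOf H).map π with hYb'
  -- generic sub-lemma for the centralizer conditions
  have sub : ∀ c' : ↥H, (c' : G) ∈ Subgroup.normalizer (K : Set G) →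
      K ⊓ Subgroup.centralizer ({(c' : G)} : Set G) ≤ Y →
      Kb ⊓ Subgroup.centralizer ({π c'} : Set (↥H ⧸ X')) ≤ Yb := by
    rintro c' hcK hcY q ⟨⟨k', hk', rfl⟩, hq⟩
    have hkK : (k' : G) ∈ K := Subgroup.mem_subgroupOf.mp hk'
    have hq' : π c' * π k' = π k' * π c' := Subgroup.mem_centralizer_singleton_iff.mp hq |>.symm
    have h1 : π (k' * c' * k'⁻¹ * c'⁻¹) = 1 := by
      rw [map_mul, map_mul, map_mul, map_inv, map_inv, ← hq']
      group
    have h2 : k' * c' * k'⁻¹ * c'⁻¹ ∈ X' := (QuotientGroup.eq_one_iff _).mp h1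
    have h3 : (k' : G) * (c' : G) * (k' : G)⁻¹ * (c' : G)⁻¹ ∈ X := by
      have := Subgroup.mem_subgroupOf.mp h2
      simpa using this
    have h4 : (k' : G) * (c' : G) * (k' : G)⁻¹ * (c' : G)⁻¹ ∈ K := by
      have h5 : (c' : G) * (k' : G)⁻¹ * (c' : G)⁻¹ ∈ K :=
        (Subgroup.mem_normalizer_iff.mp hcK _).mp (K.inv_mem hkK)
      have := K.mul_mem hkK h5
      simpa [mul_assoc] using this
    have h6 : (k' : G) * (c' : G) * (k' : G)⁻¹ * (c' : G)⁻¹ = 1 := by
      have : (k' : G) * (c' : G) * (k' : G)⁻¹ * (c' : G)⁻¹ ∈ X ⊓ K := ⟨h3, h4⟩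
      rwa [hXK, Subgroup.mem_bot] at this
    have h7 : (c' : G) * (k' : G) = (k' : G) * (c' : G) := by
      have := congrArg (fun t => t * (c' : G) * (k' : G)) h6
      simp only [one_mul] at this
      rw [← this]; group
    have h8 : (k' : G) ∈ Y := hcY ⟨hkK, Subgroup.mem_centralizer_singleton_iff.mpr h7.symm⟩
    exact ⟨k', Subgroup.mem_subgroupOf.mpr ⟨h8, hkK⟩, rfl⟩
  have hnorm : ∀ c' : ↥H, (c' : G) ∈ Subgroup.normalizer (K : Set G) →
      π c' ∈ Subgroup.normalizer (Kb : Set (↥H ⧸ X')) := by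
    intro c' hc
    apply Subgroup.le_normalizer_map π
    refine ⟨c', ?_, rfl⟩
    refine Subgroup.mem_normalizer_iff.mpr ?_
    intro k
    rw [hK', Subgroup.mem_subgroupOf, Subgroup.mem_subgroupOf]
    have := Subgroup.mem_normalizer_iff.mp hc (k : G)
    simpa using this
  have hpa : (π a') ^ p = 1 := by
    rw [← map_pow]
    have : a' ^ p = 1 := Subtype.ext (by simpa using ha)
    rw [this, map_one]
  have hpb : (π b') ^ p = 1 := by
    rw [← map_pow]
    have : b' ^ p = 1 := Subtype.ext (by simpa using hb)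
    rw [this, map_one]
  have hcomm : π a' * π b' = π b' * π a' := by
    have h1 : a' * b' * a'⁻¹ * b'⁻¹ ∈ X' := by
      rw [hX', Subgroup.mem_subgroupOf]
      simpa using hab
    have h2 : π (a' * b' * a'⁻¹ * b'⁻¹) = 1 := (QuotientGroup.eq_one_iff _).mpr h1
    rw [map_mul, map_mul, map_mul, map_inv, map_inv] at h2
    have := congrArg (fun t => t * π b' * π a') h2
    simp only [one_mul] at this
    rw [← this]; group
  have hcardK : ¬ p ∣ Nat.card Kb := by
    intro h
    apply hK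
    have h1 : Nat.card Kb ∣ Nat.card K' := Subgroup.card_map_dvd K' π
    have h2 : Nat.card K' = Nat.card K :=
      Nat.card_congr (Subgroup.subgroupOfEquivOfLe hKX).toEquiv
    exact h.trans (h2 ▸ h1)
  have main : Kb ≤ Yb := by
    apply Cfsg.Agent.Lib.Helper48.coprime_generation hpa hpb hcomm Kb Yb hcardK
      (hnorm a' haK) (hnorm b' hbK) (sub a' haK hYa)
    intro i
    have h1 : (π a') ^ i * π b' = π (a' ^ i * b') := by rw [map_mul, map_pow]
    rw [h1]
    have h2 : ((a' ^ i * b' : ↥H) : G) = a ^ i * b := by simp [ha', hb']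
    apply sub (a' ^ i * b')
    · rw [h2]
      exact Subgroup.mul_mem _ (Subgroup.pow_mem _ haK i) hbK
    · rw [h2]; exact hYb i
  intro k hk
  set k' : ↥H := ⟨k, hKX hk⟩ with hk'
  have h1 : π k' ∈ Kb := ⟨k', Subgroup.mem_subgroupOf.mpr hk, rfl⟩
  obtain ⟨y', hy', hyk⟩ := main h1
  have hyY : (y' : G) ∈ Y ⊓ K := Subgroup.mem_subgroupOf.mp hy'
  have h2 : y'⁻¹ * k' ∈ X' := QuotientGroup.eq.mp hyk
  have h3 : (y' : G)⁻¹ * k ∈ X ⊓ K := by
    refine ⟨?_, K.mul_mem (K.inv_mem hyY.2) hk⟩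
    have := Subgroup.mem_subgroupOf.mp h2
    simpa using this
  rw [hXK, Subgroup.mem_bot] at h3
  have h4 : k = (y' : G) := by
    have := congrArg (fun t => (y' : G) * t) h3
    simpa using this
  rw [h4]; exact hyY.1

end Cfsg.Agent.Lib.Helper30.BGGenMod
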