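import Mathlib
import Cfsg.Prelude.Def_OddOrderLocal
import Cfsg.Agent.Lib.Helper30.BGNonab
import Cfsg.Agent.Lib.Helper30.BGExtra
import Cfsg.Agent.Lib.Helper30.BGGenMod
import Cfsg.Agent.Lib.Helper30.BGSigmaE
import Cfsg.Agent.Lib.Helper54.BGElevenB
import Cfsg.Agent.Lib.Helper46.BGTenA

/-!
# Non-abelian `p`-subgroups lie in a unique maximal subgroup (`S1422`, BG 12.14-type), second
conditional version (helper30)

This version does not use S1423.  Hypotheses: the Uniqueness Theorem (S1403), and the literal shapes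
of S1412 (rank two Sylow structure), S1416 (second clause), S1420 (first and third clauses).
-/

set_option autoImplicit false
set_option linter.unusedSectionVars false

namespace Cfsg.Agent.Lib.Helper30.BGNonab2

open Cfsg
open scoped commutatorElement Pointwise
open Cfsg.Agent.Lib.Helper34 (UniquenessThm)
open Cfsg.Agent.Lib.Helper30.BGExtra

variable {G : Type*} [Group G] [Finite G]

theorem isMulCommutative_of_le {A B : Subgroup G} (h : A ≤ B) (hB : IsMulCommutative B) :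
    IsMulCommutative A :=
  ⟨⟨fun a b => Subtype.ext (by
    have := hB.is_comm.comm ⟨a, h a.2⟩ ⟨b, h b.2⟩
    show (a : G) * (b : G) = (b : G) * (a : G)
    exact congrArg Subtype.val this)⟩⟩

theorem pRankLE_one_two {p : ℕ} (hp : p.Prime) {X : Type*} [Group X] (h : PRankLE p 1 X) :
    PRankLE p 2 X :=
  fun A hAc hAe => (h A hAc hAe).trans (Nat.pow_le_pow_right hp.pos (by norm_num))

/-- `M_α = 1` forces `M_σ` to be nilpotent. -/
theorem isNilpotent_sigmaCore_of_alphaCore_eq_bot (hG : IsMinSimpleOddOrder G)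
    (hU : UniquenessThm G) (L : Subgroup G) (hL : IsCoatom L) (h0 : alphaCore L = ⊥) :
    Group.IsNilpotent ↥(sigmaCore L) := by
  have hU3 := Cfsg.Agent.Lib.Helper54.uniqThree_of_uniquenessThm hU
  have h1405 := Cfsg.Agent.Lib.Helper50.s1405_of hG hU3 L hL
  have hnil := h1405.2.2.2.2
  have hpc : piCore (alpha L) ↥L = ⊥ := by
    have h1 : (piCore (alpha L) ↥L).map L.subtype = ⊥ := h0
    exact (Subgroup.map_eq_bot_iff_of_injective _ L.subtype_injective).mp h1
  have hinj : Function.Injective (QuotientGroup.mk' (piCore (alpha L) ↥L)) := by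
    rw [← MonoidHom.ker_eq_bot_iff, QuotientGroup.ker_mk', hpc]
  have hnilc : Group.IsNilpotent ↥(commutator ↥L) :=
    Group.nilpotent_of_mulEquiv (Subgroup.equivMapOfInjective (commutator ↥L) _ hinj).symm
  have hle : sigmaCore L ≤ ⁅L, L⁆ :=
    Cfsg.Agent.Lib.Helper30.BGSigmaE.sigmaCore_le_commutator L (fun q _ hq S =>
      Cfsg.Agent.Lib.Helper50.sylow_le_commutator_of_mem_sigma hG hU3 L hL q hq S)
  have hle' : piCore (sigma L) ↥L ≤ commutator ↥L := by
    intro x hx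
    have h1 : (x : G) ∈ ⁅L, L⁆ := hle ⟨x, hx, rfl⟩
    rw [← Subgroup.map_subtype_commutator] at h1
    obtain ⟨y, hy, hyx⟩ := h1
    have h2 : y = x := Subtype.ext hyx
    exact h2 ▸ hy
  have hnilp : Group.IsNilpotent ↥(piCore (sigma L) ↥L) := by
    refine Subgroup.isNilpotent_of_ker_le_center (Subgroup.inclusion hle') ?_
    rw [(MonoidHom.ker_eq_bot_iff _).mpr (Subgroup.inclusion_injective hle')]
    exact bot_le
  exact Group.nilpotent_of_mulEquiv
    (Subgroup.equivMapOfInjective (piCore (sigma L) ↥L) L.subtype L.subtype_injective)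

/-- transfer of `N_G(⟨s c s⁻¹⟩) ≤ M` to `N_G(⟨c⟩) ≤ M` for `s ∈ M` -/
theorem normalizer_zpowers_le_of_conj {M : Subgroup G} {s c : G} (hs : s ∈ M)
    (h : Subgroup.normalizer ((Subgroup.zpowers (s * c * s⁻¹) : Subgroup G) : Set G) ≤ M) :
    Subgroup.normalizer ((Subgroup.zpowers c : Subgroup G) : Set G) ≤ M := by
  have hconj : Subgroup.zpowers (s * c * s⁻¹) = MulAut.conj s • Subgroup.zpowers c := by
    have h1 : MulAut.conj s • Subgroup.zpowers c =
        (Subgroup.zpowers c).map (MulAut.conj s).toMonoidHom := rfl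
    rw [h1, MonoidHom.map_zpowers]
    rfl
  intro g hg
  have h1 : s * g * s⁻¹ ∈ Subgroup.normalizer ((Subgroup.zpowers (s * c * s⁻¹) : Subgroup G) : Set G) := by
    rw [hconj, Cfsg.Agent.Lib.Helper54.normalizer_conj_smul]
    exact Cfsg.Agent.Lib.Helper54.conj_mem_conj_smul hg
  have h2 := h h1
  have h3 : g = s⁻¹ * (s * g * s⁻¹) * s := by group
  rw [h3]
  exact M.mul_mem (M.mul_mem (M.inv_mem hs) h2) hs

/-- centralizers of elements lie in the normalizers of the cyclic subgroups they generate -/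
theorem centralizer_singleton_le_normalizer_zpowers (c : G) :
    Subgroup.centralizer ({c} : Set G) ≤
      Subgroup.normalizer ((Subgroup.zpowers c : Subgroup G) : Set G) := by
  refine le_trans ?_ (Subgroup.centralizer_le_normalizer _)
  intro g hg
  have hgc : c * g = g * c := Subgroup.mem_centralizer_iff.mp hg c rfl
  refine Subgroup.mem_centralizer_iff.mpr ?_
  intro h hh
  obtain ⟨k, rfl⟩ := Subgroup.mem_zpowers_iff.mp hh
  exact ((show Commute c g from hgc).zpow_left k).eq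

/-- A Sylow `p`-subgroup of `G` in `L` of `p`-rank at most two bounds the `p`-rank of `L`. -/
theorem pRankLE_two_of_sylow_le {p : ℕ} [Fact p.Prime] (S : Sylow p G) {L : Subgroup G}
    (hSL : (S : Subgroup G) ≤ L) (hr : PRankLE p 2 ↥(S : Subgroup G)) : PRankLE p 2 ↥L := by
  obtain ⟨R, hR⟩ := (S.isPGroup'.comap_subtype (K := L)).exists_le_sylow
  have h1 : (S : Subgroup G) ≤ (R : Subgroup L).map L.subtype := by
    have h2 := Subgroup.map_mono (f := L.subtype) hR
    have h3 : ((S : Subgroup G).comap L.subtype).map L.subtype = S :=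
      Subgroup.map_subgroupOf_eq_of_le hSL
    rwa [h3] at h2
  have h4 : (R : Subgroup L).map L.subtype = S := S.is_maximal' (R.isPGroup'.map _) h1
  apply Cfsg.Agent.Lib.Helper34.pRankLE_of_sylow R
  rw [h4]
  exact hr

/-- The Sylow `p`-subgroups of `M ∩ L` containing a non-abelian `p`-group are Sylow in `G`. -/
theorem exists_sylow_inf {p : ℕ} [Fact p.Prime] (M L : Subgroup G)
    (hNM : ∀ Q : Subgroup G, IsPGroup p Q → Q ≤ M → ¬ IsCyclic Q →
      Subgroup.normalizer (Q : Set G) ≤ M)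
    (hNL : ∀ Q : Subgroup G, IsPGroup p Q → Q ≤ L → ¬ IsCyclic Q →
      Subgroup.normalizer (Q : Set G) ≤ L)
    (P : Subgroup G) (hP : IsPGroup p P) (hPna : ¬ IsMulCommutative P) (hPM : P ≤ M)
    (hPL : P ≤ L) :
    ∃ S : Sylow p G, P ≤ (S : Subgroup G) ∧ (S : Subgroup G) ≤ M ∧ (S : Subgroup G) ≤ L ∧
      Subgroup.normalizer (((S : Subgroup G)) : Set G) ≤ M ∧
      Subgroup.normalizer (((S : Subgroup G)) : Set G) ≤ L := by
  set Q : Subgroup G := M ⊓ L with hQ
  have hPQ : P ≤ Q := le_inf hPM hPL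
  obtain ⟨S₀, hS₀⟩ := (hP.comap_subtype (K := Q)).exists_le_sylow
  set S : Subgroup G := (S₀ : Subgroup Q).map Q.subtype with hS
  have hSQ : S ≤ Q := Subgroup.map_subtype_le _
  have hSp : IsPGroup p S := S₀.isPGroup'.map _
  have hPS : P ≤ S := by
    have h2 := Subgroup.map_mono (f := Q.subtype) hS₀
    have h3 : (P.comap Q.subtype).map Q.subtype = P := Subgroup.map_subgroupOf_eq_of_le hPQ
    rwa [h3] at h2
  have hSnc : ¬ IsCyclic S := by
    intro hc
    apply hPna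
    have : IsMulCommutative S := IsCyclic.isMulCommutative
    exact isMulCommutative_of_le hPS this
  have hN1 := hNM S hSp (hSQ.trans inf_le_left) hSnc
  have hN2 := hNL S hSp (hSQ.trans inf_le_right) hSnc
  have hN : Subgroup.normalizer (S : Set G) ≤ Q := le_inf hN1 hN2
  have hidx : ¬ p ∣ S.index :=
    Cfsg.Agent.Lib.Helper96.SigmaHall.not_dvd_index_of_normalizer_le Q S₀ hN
  refine ⟨hSp.toSylow hidx, ?_, ?_, ?_, ?_, ?_⟩
  · rw [IsPGroup.toSylow_coe]; exact hPS
  · rw [IsPGroup.toSylow_coe]; exact hSQ.trans inf_le_left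
  · rw [IsPGroup.toSylow_coe]; exact hSQ.trans inf_le_right
  · rw [IsPGroup.toSylow_coe]; exact hN1
  · rw [IsPGroup.toSylow_coe]; exact hN2

section Core

variable {p : ℕ} [hp : Fact p.Prime] (P₁ : Subgroup G)
  (hna : ¬ IsMulCommutative P₁) (hcard : Nat.card P₁ = p ^ 3) (hexp : Monoid.exponent P₁ = p)

include hna hcard hexp in
/-- the symmetric core of the argument -/
theorem core (hG : IsMinSimpleOddOrder G) (hU : UniquenessThm G) (M L : Subgroup G)
    (hM : IsCoatom M) (hL : IsCoatom L) (hnc : ∀ g : G, MulAut.conj g • L ≠ M)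
    (hpM : p ∈ sigma M) (hrL : PRankLE p 2 ↥L) (hP₁M : P₁ ≤ M) (hP₁L : P₁ ≤ L)
    (hΦ : ∀ c ∈ P₁, c ∉ zOf P₁ →
      Subgroup.normalizer ((Subgroup.zpowers c : Subgroup G) : Set G) ≤ M)
    (hnilL : ¬ Group.IsNilpotent ↥(sigmaCore L)) : False := by
  have hU3 := Cfsg.Agent.Lib.Helper54.uniqThree_of_uniquenessThm hU
  set K : Subgroup G := alphaCore L with hK
  have hKL : K ≤ L := Subgroup.map_subtype_le _
  have hLK : L ≤ Subgroup.normalizer (K : Set G) :=
    Cfsg.Agent.Lib.Helper54.le_normalizer_map_subtype L (piCore (alpha L) ↥L)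
  have hdisj : K ⊓ sigmaCore M = ⊥ :=
    (Cfsg.Agent.Lib.Helper54.sigma_disjoint hG hU L M hL hM hnc).1.2
  have hpK : ¬ p ∣ Nat.card K := fun h =>
    (Cfsg.Agent.Lib.Helper54.alphaCore_isPi L p hp.out h).2 hrL
  have hP₁p : IsPGroup p P₁ := IsPGroup.of_card hcard
  have hHall := (Cfsg.Agent.Lib.Helper54.sigmaCore_hall_of hG hU M hM).1
  have hP₁σ : P₁ ≤ sigmaCore M :=
    Cfsg.Agent.Lib.Helper30.BGNonab.le_sigmaCore_of_isPGroup M hHall hpM hP₁p hP₁M
  have hMσ := Cfsg.Agent.Lib.Helper54.le_normalizer_sigmaCore M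
  -- `K ∩ M` centralizes `P₁`
  have hcent : ∀ k ∈ K, k ∈ M → ∀ a ∈ P₁, a * k = k * a := by
    intro k hkK hkM a ha
    have h1 : k * a * k⁻¹ * a⁻¹ ∈ sigmaCore M := by
      have h0 : k * a * k⁻¹ ∈ sigmaCore M :=
        (Subgroup.mem_normalizer_iff.mp (hMσ hkM) a).mp (hP₁σ ha)
      exact (sigmaCore M).mul_mem h0 ((sigmaCore M).inv_mem (hP₁σ ha))
    have h2 : k * a * k⁻¹ * a⁻¹ ∈ K := by
      have h0 : a * k⁻¹ * a⁻¹ ∈ K :=
        (Subgroup.mem_normalizer_iff.mp (hLK (hP₁L ha)) k⁻¹).mp (K.inv_mem hkK)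
      have h00 := K.mul_mem hkK h0
      have e : k * (a * k⁻¹ * a⁻¹) = k * a * k⁻¹ * a⁻¹ := by group
      rwa [e] at h00
    have h3 : k * a * k⁻¹ * a⁻¹ = 1 := by
      have h0 : k * a * k⁻¹ * a⁻¹ ∈ K ⊓ sigmaCore M := ⟨h2, h1⟩
      rwa [hdisj, Subgroup.mem_bot] at h0
    have h4 : k * a * k⁻¹ * a⁻¹ * a * k = a * k := by rw [h3, one_mul]
    rw [← h4]; group
  obtain ⟨b₁, hb₁, b₂, hb₂, hb₁Z, hb₁₂⟩ := exists_pair P₁ hna hcard hexp
  -- centralizers of noncentral elements of `P₁` lie in `M`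
  have hCM : ∀ c ∈ P₁, c ∉ zOf P₁ → Subgroup.centralizer ({c} : Set G) ≤ M := fun c hc hcZ =>
    (centralizer_singleton_le_normalizer_zpowers c).trans (hΦ c hc hcZ)
  have hZcard := card_zOf P₁ hna hcard
  -- `Z` centralizes `K`
  have hKZ : K ≤ Subgroup.centralizer (zOf P₁ : Set G) := by
    have hA := aOf_isElementaryAbelian P₁ hexp hb₁
    have hAcard := card_aOf P₁ hna hcard hexp hb₁ hb₁Z
    refine Cfsg.Agent.Lib.Helper48.elemAb_generation (p := p) (aOf P₁ b₁)
      (fun x hx y hy => congrArg Subtype.val (hA.1.is_comm.comm ⟨x, hx⟩ ⟨y, hy⟩))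
      hA.2 (by rw [hAcard]) K _ hpK (((aOf_le P₁ hb₁).trans hP₁L).trans hLK) ?_
    intro u hu hu1
    by_cases huZ : u ∈ zOf P₁
    · have hZu : zOf P₁ = Subgroup.zpowers u := eq_zpowers_of_card_prime hZcard huZ hu1
      rintro k ⟨hkK, hku⟩
      have hkc : u * k = k * u := Subgroup.mem_centralizer_iff.mp hku u rfl
      refine Subgroup.mem_centralizer_iff.mpr ?_
      intro z hz
      rw [SetLike.mem_coe, hZu] at hz
      obtain ⟨j, rfl⟩ := Subgroup.mem_zpowers_iff.mp hz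
      exact ((show Commute u k from hkc).zpow_left j).eq
    · have huP : u ∈ P₁ := aOf_le P₁ hb₁ hu
      rintro k ⟨hkK, hku⟩
      have hkM : k ∈ M := hCM u huP huZ hku
      refine Subgroup.mem_centralizer_iff.mpr ?_
      intro z hz
      exact hcent k hkK hkM z (zOf_le P₁ hz)
  -- `K ≤ M`
  have hKM : K ≤ M := by
    refine Cfsg.Agent.Lib.Helper30.BGGenMod.gen_mod_center (p := p) (zOf P₁) K M
      (a := b₁) (b := b₂) (pow_eq_one P₁ hexp hb₁) (pow_eq_one P₁ hexp hb₂) ?_ ?_ ?_ hKZ ?_ hpK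
      (hLK (hP₁L hb₁)) (hLK (hP₁L hb₂)) ?_ ?_
    · have := commutator_mem_zOf P₁ hna hcard hb₁ hb₂
      rwa [commutatorElement_def] at this
    · refine Subgroup.mem_centralizer_iff.mpr ?_
      intro z hz
      exact (mem_zOf_comm hz hb₁).symm
    · refine Subgroup.mem_centralizer_iff.mpr ?_
      intro z hz
      exact (mem_zOf_comm hz hb₂).symm
    · rw [eq_bot_iff, ← hdisj]
      exact le_inf inf_le_right (inf_le_left.trans ((zOf_le P₁).trans hP₁σ))
    · exact inf_le_right.trans (hCM b₁ hb₁ hb₁Z)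
    · intro i
      exact inf_le_right.trans (hCM _ (P₁.mul_mem (P₁.pow_mem hb₁ i) hb₂) (hb₁₂ i))
  by_cases hK0 : K = ⊥
  · exact hnilL (isNilpotent_sigmaCore_of_alphaCore_eq_bot hG hU L hL hK0)
  · have hKtop : K ≠ ⊤ := fun h => hL.1 (top_le_iff.mp (h ▸ hKL))
    have hcard1 : Nat.card K ≠ 1 := fun h => hK0 (Subgroup.card_eq_one.mp h)
    obtain ⟨q, hq, hqK⟩ := Nat.exists_prime_and_dvd hcard1
    have hqα : q ∈ alpha L := Cfsg.Agent.Lib.Helper54.alphaCore_isPi L q hq hqK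
    have hqF : Fact q.Prime := ⟨hq⟩
    have hHallα := (Cfsg.Agent.Lib.Helper50.s1405_of hG hU3 L hL).1
    obtain ⟨Q₀⟩ : Nonempty (Sylow q K) := inferInstance
    have hQr := Cfsg.Agent.Lib.Helper46.BGTen.not_pRankLE_sylow_of_hall hKL
      (hHallα.2.2 q hq hqα) Q₀ hqα.2
    have hKr : ¬ PRankLE q 2 ↥K := fun h =>
      hQr (Cfsg.Agent.Lib.Helper46.BGTen.pRankLE_of_le' (Subgroup.map_subtype_le _) h)
    have h2 : ¬ RankLE 2 ↥K := fun h => hKr (h q hq)
    have h1 : ¬ RankLE 1 ↥K := fun h => hKr (pRankLE_one_two hq (h q hq))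
    obtain ⟨M', -, hu⟩ := hU K hKtop h1 (Or.inl h2)
    have hML : M = L := (hu M ⟨hM, hKM⟩).trans (hu L ⟨hL, hKL⟩).symm
    exact hnc 1 (by rw [map_one, one_smul]; exact hML.symm)

end Core

/-- **S1422, second conditional form** (no use of S1423). -/
theorem s1422_of' (hG : IsMinSimpleOddOrder G) (hU : UniquenessThm G)
    (h1412 : ∀ (p : ℕ) [Fact p.Prime] (S : Sylow p G), PRankLE p 2 (S : Subgroup G) →
      IsMulCommutative (S : Subgroup G) ∨ ∃ P₁ P₂ : Subgroup G, P₁ ⊔ P₂ = (S : Subgroup G) ∧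
        (∀ a ∈ P₁, ∀ b ∈ P₂, a * b = b * a) ∧ ¬ IsMulCommutative P₁ ∧ Nat.card P₁ = p ^ 3 ∧
        Monoid.exponent P₁ = p ∧ IsCyclic P₂ ∧
        Subgroup.closure {x : G | x ∈ P₂ ∧ x ^ p = 1} =
          P₁ ⊓ Subgroup.centralizer (P₁ : Set G))
    (h1416 : ∀ M : Subgroup G, IsCoatom M → ∀ (p : ℕ) [Fact p.Prime] (A : Subgroup G),
      A ≤ M → IsElementaryAbelian p A → Nat.card A = p ^ 2 →
      (∀ A₀ : Subgroup G, A₀ ≤ A → Nat.card A₀ = p →
          ¬ (Subgroup.normalizer (A₀ : Set G) ≤ M ∧ ∀ L : Subgroup G, IsCoatom L →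
            Subgroup.normalizer (A₀ : Set G) ≤ L → L = M)) →
        Group.IsNilpotent ↥(sigmaCore M))
    (h1420a : ∀ M : Subgroup G, IsCoatom M → ∀ E : Subgroup G, IsComplIn E (sigmaCore M) M →
      ∀ N : Subgroup G, N ≤ M → Group.IsNilpotent N →
        (∀ p : ℕ, p.Prime → p ∣ Nat.card N → p ∉ sigma M) → IsMulCommutative N)
    (h1420c : ∀ M : Subgroup G, IsCoatom M → ∀ E : Subgroup G, IsComplIn E (sigmaCore M) M →
      ∀ (p : ℕ) (P : Subgroup G), p ∈ sigma M → IsPGroup p P → P ≤ M → ¬ IsCyclic P →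
        Subgroup.normalizer (P : Set G) ≤ M)
    (p : ℕ) [hp : Fact p.Prime] (P : Subgroup G) (hP : IsPGroup p P)
    (hPna : ¬ IsMulCommutative P) : InUniqueMaximal P := by
  have hs : IsSimpleGroup G := hG.2.1
  -- `P` is proper
  have hPtop : P ≠ ⊤ := by
    intro h
    apply hG.2.2.1
    have hGp : IsPGroup p G := by
      intro g
      obtain ⟨k, hk⟩ := hP ⟨g, h ▸ Subgroup.mem_top g⟩
      exact ⟨k, by simpa using congrArg Subtype.val hk⟩
    have : Group.IsNilpotent G := hGp.isNilpotent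
    exact ⟨⟨IsSimpleGroup.comm_iff_isSolvable.mpr inferInstance⟩⟩
  have hHall : ∀ M : Subgroup G, IsCoatom M → IsPiHallOf (sigma M) (sigmaCore M) M :=
    fun M hM => (Cfsg.Agent.Lib.Helper54.sigmaCore_hall_of hG hU M hM).1
  -- `p ∈ σ(L)` for every maximal subgroup `L ≥ P`
  have hσ : ∀ L : Subgroup G, IsCoatom L → P ≤ L → p ∈ sigma L := by
    intro L hL hPL
    by_contra hnot
    obtain ⟨E, hE⟩ := Cfsg.Agent.Lib.Helper30.BGNonab.exists_isComplIn L (hHall L hL)
    apply hPna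
    refine h1420a L hL E hE P hPL hP.isNilpotent ?_
    intro q hq hqd hqσ
    obtain ⟨k, hk⟩ := IsPGroup.iff_card.mp hP
    rw [hk] at hqd
    have := (Nat.prime_dvd_prime_iff_eq hq hp.out).mp (hq.dvd_of_dvd_pow hqd)
    exact hnot (this ▸ hqσ)
  have hN : ∀ L : Subgroup G, IsCoatom L → p ∈ sigma L → ∀ Q : Subgroup G, IsPGroup p Q → Q ≤ L →
      ¬ IsCyclic Q → Subgroup.normalizer (Q : Set G) ≤ L := by
    intro L hL hpL Q hQ hQL hQc
    obtain ⟨E, hE⟩ := Cfsg.Agent.Lib.Helper30.BGNonab.exists_isComplIn L (hHall L hL)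
    exact h1420c L hL E hE p Q hpL hQ hQL hQc
  -- two maximal subgroups containing `P` coincide
  have key : ∀ M L : Subgroup G, IsCoatom M → IsCoatom L → P ≤ M → P ≤ L → M = L := by
    intro M L hM hL hPM hPL
    by_contra hML
    have hpM := hσ M hM hPM
    have hpL := hσ L hL hPL
    obtain ⟨S, hPS, hSM, hSL, hNSM, hNSL⟩ :=
      exists_sylow_inf M L (hN M hM hpM) (hN L hL hpL) P hP hPna hPM hPL
    have hSna : ¬ IsMulCommutative (S : Subgroup G) := fun h =>
      hPna (isMulCommutative_of_le hPS h)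
    have hStop : (S : Subgroup G) ≠ ⊤ := fun h => hM.1 (top_le_iff.mp (h ▸ hSM))
    have hSp : IsPGroup p (S : Subgroup G) := S.isPGroup'
    have hS1 : (S : Subgroup G) ≠ ⊥ := by
      intro h
      apply hSna
      rw [h]
      exact ⟨⟨fun a b => Subsingleton.elim _ _⟩⟩
    by_cases hr : PRankLE p 2 ↥(S : Subgroup G)
    swap
    · have h2 : ¬ RankLE 2 ↥(S : Subgroup G) := fun h => hr (h p hp.out)
      have h1 : ¬ RankLE 1 ↥(S : Subgroup G) := fun h => hr (pRankLE_one_two hp.out (h p hp.out))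
      obtain ⟨M', -, hu⟩ := hU (S : Subgroup G) hStop h1 (Or.inl h2)
      exact hML ((hu M ⟨hM, hSM⟩).trans (hu L ⟨hL, hSL⟩).symm)
    rcases h1412 p S hr with hab | ⟨P₁, P₂, hsup, -, hna, hcard, hexp, -, -⟩
    · exact hSna hab
    have hP₁S : P₁ ≤ (S : Subgroup G) := hsup ▸ le_sup_left
    have hP₁M : P₁ ≤ M := hP₁S.trans hSM
    have hP₁L : P₁ ≤ L := hP₁S.trans hSL
    have hncML : ∀ g : G, MulAut.conj g • M ≠ L :=
      Cfsg.Agent.Lib.Helper54.not_conj_of_normalizer_le hG hU M L hM p (S : Subgroup G) hSp hS1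
        hSM hNSL (Or.inl ⟨hpM, hML⟩)
    have hncLM : ∀ g : G, MulAut.conj g • L ≠ M :=
      Cfsg.Agent.Lib.Helper54.not_conj_of_normalizer_le hG hU L M hL p (S : Subgroup G) hSp hS1
        hSL hNSM (Or.inl ⟨hpL, Ne.symm hML⟩)
    have hnilM : ¬ Group.IsNilpotent ↥(sigmaCore M) := fun h =>
      ((Cfsg.Agent.Lib.Helper54.sigma_disjoint hG hU M L hM hL hncML).2 h).1 p hpM hpL
    have hnilL : ¬ Group.IsNilpotent ↥(sigmaCore L) := fun h =>
      ((Cfsg.Agent.Lib.Helper54.sigma_disjoint hG hU L M hL hM hncLM).2 h).1 p hpL hpM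
    have hrM : PRankLE p 2 ↥M := pRankLE_two_of_sylow_le S hSM hr
    have hrL : PRankLE p 2 ↥L := pRankLE_two_of_sylow_le S hSL hr
    -- the choices given by S1416
    have hch : ∀ N : Subgroup G, IsCoatom N → P₁ ≤ N → ¬ Group.IsNilpotent ↥(sigmaCore N) →
        ∀ c ∈ P₁, c ∉ zOf P₁ → ∃ B : Subgroup G, B ≤ aOf P₁ c ∧ Nat.card B = p ∧
          Subgroup.normalizer (B : Set G) ≤ N ∧ ∀ L' : Subgroup G, IsCoatom L' →
            Subgroup.normalizer (B : Set G) ≤ L' → L' = N := by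
      intro N hN' hP₁N hnil c hc hcZ
      by_contra hcon
      apply hnil
      exact h1416 N hN' p (aOf P₁ c) ((aOf_le P₁ hc).trans hP₁N)
        (aOf_isElementaryAbelian P₁ hexp hc) (card_aOf P₁ hna hcard hexp hc hcZ)
        (fun A₀ hA₀ hA₀c hgood => hcon ⟨A₀, hA₀, hA₀c, hgood.1, hgood.2⟩)
    -- from a choice different from `Z` to `N_G(⟨c⟩) ≤ N`
    have hphi : ∀ N : Subgroup G, P₁ ≤ N → ∀ c ∈ P₁, c ∉ zOf P₁ → ∀ B : Subgroup G,
        B ≤ aOf P₁ c → Nat.card B = p → B ≠ zOf P₁ → Subgroup.normalizer (B : Set G) ≤ N →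
        Subgroup.normalizer ((Subgroup.zpowers c : Subgroup G) : Set G) ≤ N := by
      intro N hP₁N c hc hcZ B hBA hBc hBZ hBN
      obtain ⟨s, hs, hBs⟩ := exists_conj_of_le_aOf P₁ hna hcard hexp hc hcZ hBA hBc hBZ
      rw [hBs] at hBN
      exact normalizer_zpowers_le_of_conj (hP₁N hs) hBN
    by_cases hZ : Subgroup.normalizer ((zOf P₁ : Subgroup G) : Set G) ≤ M ∧
        ∀ L' : Subgroup G, IsCoatom L' →
          Subgroup.normalizer ((zOf P₁ : Subgroup G) : Set G) ≤ L' → L' = M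
    · -- `Φ(L)`
      refine core P₁ hna hcard hexp hG hU L M hL hM hncML hpL hrM hP₁L hP₁M ?_ hnilM
      intro c hc hcZ
      obtain ⟨B, hBA, hBc, hBN, -⟩ := hch L hL hP₁L hnilL c hc hcZ
      refine hphi L hP₁L c hc hcZ B hBA hBc ?_ hBN
      intro hBZ
      rw [hBZ] at hBN
      exact hML (hZ.2 L hL hBN).symm
    · -- `Φ(M)`
      refine core P₁ hna hcard hexp hG hU M L hM hL hncLM hpM hrL hP₁M hP₁L ?_ hnilL
      intro c hc hcZ
      obtain ⟨B, hBA, hBc, hBN, hBu⟩ := hch M hM hP₁M hnilM c hc hcZ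
      refine hphi M hP₁M c hc hcZ B hBA hBc ?_ hBN
      intro hBZ
      rw [hBZ] at hBN hBu
      exact hZ ⟨hBN, hBu⟩
  obtain ⟨M, hM, hPM⟩ := (eq_top_or_exists_le_coatom P).resolve_left hPtop
  refine ⟨M, ⟨hM, hPM⟩, ?_⟩
  rintro L ⟨hL, hPL⟩
  exact key L M hL hM hPL hPM

end Cfsg.Agent.Lib.Helper30.BGNonab2
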