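import Mathlib
import Cfsg.Prelude.Def_GeometricClasses
import Cfsg.Agent.Lib.Helper99.AschDefs
import Cfsg.Agent.Lib.Helper20.AschU.Basic

/-!
# ASCHU-[RED] (helper30): a commutative subalgebra of `M_n(F)` normalised by an irreducible group is reduced
(no nonzero `x` with `x * x = 0`).

Proof: `S = {y ∈ K | y * y = 0}` is a finite set of commuting matrices, closed under `H`-conjugation.  Commuting
square-zero matrices have a common nonzero kernel vector (induction over a finset, cutting down an invariant subspace),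
so `U₀ = {v | ∀ y ∈ S, y v = 0}` is a nonzero `H`-invariant subspace, hence everything, hence `S = {0}`.
-/

set_option autoImplicit false

namespace Cfsg.Agent.Lib.Helper30.AschURed

open scoped Matrix

variable {n : ℕ} {F : Type*} [Field F]

/-- commuting square-zero matrices have a common nonzero kernel vector in every nonzero invariant subspace. -/
theorem exists_common_kernel_vector (S : Set (Matrix (Fin n) (Fin n) F))
    (hsq : ∀ y ∈ S, y * y = 0) (hcomm : ∀ y ∈ S, ∀ z ∈ S, y * z = z * y)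
    (T : Finset (Matrix (Fin n) (Fin n) F)) :
    (∀ y ∈ T, y ∈ S) → ∀ U : Submodule F (Fin n → F), U ≠ ⊥ →
      (∀ y ∈ S, ∀ u ∈ U, y *ᵥ u ∈ U) → ∃ v ∈ U, v ≠ 0 ∧ ∀ y ∈ T, y *ᵥ v = 0 := by
  classical
  induction T using Finset.induction_on with
  | empty =>
    intro _ U hU _
    obtain ⟨v, hv, hv0⟩ := Submodule.exists_mem_ne_zero_of_ne_bot hU
    exact ⟨v, hv, hv0, by simp⟩
  | insert y T hy ih =>
    intro hT U hU hinv
    have hyS : y ∈ S := hT y (Finset.mem_insert_self _ _)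
    let U' : Submodule F (Fin n → F) := U ⊓ LinearMap.ker (Matrix.toLin' y)
    have hmemU' : ∀ u, u ∈ U' ↔ u ∈ U ∧ y *ᵥ u = 0 := by
      intro u
      simp only [U', Submodule.mem_inf, LinearMap.mem_ker, Matrix.toLin'_apply]
    have hU' : U' ≠ ⊥ := by
      obtain ⟨u, hu, hu0⟩ := Submodule.exists_mem_ne_zero_of_ne_bot hU
      by_cases hyu : y *ᵥ u = 0
      · intro hbot
        have : u ∈ U' := (hmemU' u).mpr ⟨hu, hyu⟩
        rw [hbot, Submodule.mem_bot] at this
        exact hu0 this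
      · intro hbot
        have : y *ᵥ u ∈ U' := by
          refine (hmemU' _).mpr ⟨hinv y hyS u hu, ?_⟩
          rw [Matrix.mulVec_mulVec, hsq y hyS, Matrix.zero_mulVec]
        rw [hbot, Submodule.mem_bot] at this
        exact hyu this
    have hinv' : ∀ z ∈ S, ∀ u ∈ U', z *ᵥ u ∈ U' := by
      intro z hz u hu
      obtain ⟨hu1, hu2⟩ := (hmemU' u).mp hu
      refine (hmemU' _).mpr ⟨hinv z hz u hu1, ?_⟩
      rw [Matrix.mulVec_mulVec, hcomm y hyS z hz, ← Matrix.mulVec_mulVec, hu2, Matrix.mulVec_zero]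
    obtain ⟨v, hv, hv0, hvT⟩ :=
      ih (fun z hz => hT z (Finset.mem_insert_of_mem hz)) U' hU' hinv'
    obtain ⟨hv1, hv2⟩ := (hmemU' v).mp hv
    refine ⟨v, hv1, hv0, fun z hz => ?_⟩
    rcases Finset.mem_insert.mp hz with rfl | hz
    · exact hv2
    · exact hvT z hz

end Cfsg.Agent.Lib.Helper30.AschURed

namespace Cfsg.Agent.Lib.Helper20.AschU

open Cfsg Cfsg.Geo Cfsg.Agent.Lib.Helper99.Asch
open scoped MatrixGroups Matrix Kronecker

variable {n : ℕ} {F : Type*} [Field F] [Fintype F] {q : ℕ}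

/-- ASCHU-[RED]: exact sheet statement. -/
theorem eq_zero_of_mul_self_eq_zero (H : Subgroup (GL (Fin n) F)) (hirr : ActsIrreducibly (matrixSet H))
    (K : Subalgebra F (Matrix (Fin n) (Fin n) F)) (hcomm : ∀ x ∈ K, ∀ y ∈ K, x * y = y * x)
    (hnorm : ∀ h ∈ H, ∀ k ∈ K,
      (h : Matrix (Fin n) (Fin n) F) * k * ((h⁻¹ : GL (Fin n) F) : Matrix (Fin n) (Fin n) F) ∈ K) :
    ∀ x ∈ K, x * x = 0 → x = 0 := by
  classical
  intro x hxK hxx
  rcases Nat.eq_zero_or_pos n with rfl | hn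
  · ext i
    exact Fin.elim0 i
  have hne : Nonempty (Fin n) := ⟨⟨0, hn⟩⟩
  let S : Set (Matrix (Fin n) (Fin n) F) := {y | y ∈ K ∧ y * y = 0}
  have hsq : ∀ y ∈ S, y * y = 0 := fun y hy => hy.2
  have hcommS : ∀ y ∈ S, ∀ z ∈ S, y * z = z * y := fun y hy z hz => hcomm y hy.1 z hz.1
  let T : Finset (Matrix (Fin n) (Fin n) F) := Finset.univ.filter (fun y => y ∈ S)
  have hT : ∀ y ∈ T, y ∈ S := fun y hy => (Finset.mem_filter.mp hy).2
  have htop : (⊤ : Submodule F (Fin n → F)) ≠ ⊥ := top_ne_bot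
  obtain ⟨v, -, hv0, hv⟩ :=
    Cfsg.Agent.Lib.Helper30.AschURed.exists_common_kernel_vector S hsq hcommS T hT ⊤ htop
      (fun _ _ _ _ => Submodule.mem_top)
  have hvS : ∀ y ∈ S, y *ᵥ v = 0 := fun y hy =>
    hv y (Finset.mem_filter.mpr ⟨Finset.mem_univ _, hy⟩)
  -- the common kernel
  let U₀ : Submodule F (Fin n → F) :=
    { carrier := {w | ∀ y ∈ S, y *ᵥ w = 0}
      add_mem' := by
        intro a b ha hb y hy
        rw [Matrix.mulVec_add, ha y hy, hb y hy, add_zero]
      zero_mem' := by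
        intro y _
        exact Matrix.mulVec_zero y
      smul_mem' := by
        intro c a ha y hy
        rw [Matrix.mulVec_smul, ha y hy, smul_zero] }
  have hmemU₀ : ∀ w, w ∈ U₀ ↔ ∀ y ∈ S, y *ᵥ w = 0 := fun w => Iff.rfl
  have hinvU₀ : ∀ s ∈ matrixSet H, U₀.map (Matrix.toLin' s) ≤ U₀ := by
    rintro s ⟨h, hh, rfl⟩ w hw
    obtain ⟨u, hu, rfl⟩ := Submodule.mem_map.mp hw
    rw [hmemU₀]
    intro y hy
    rw [Matrix.toLin'_apply]
    -- y' = h⁻¹ y h ∈ S
    have hhinv : h⁻¹ ∈ H := H.inv_mem hh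
    have hy'K := hnorm h⁻¹ hhinv y hy.1
    rw [inv_inv] at hy'K
    set y' : Matrix (Fin n) (Fin n) F :=
      ((h⁻¹ : GL (Fin n) F) : Matrix (Fin n) (Fin n) F) * y * (h : Matrix (Fin n) (Fin n) F) with hy'
    have hhh : (h : Matrix (Fin n) (Fin n) F) * ((h⁻¹ : GL (Fin n) F) : Matrix (Fin n) (Fin n) F) = 1 := by
      rw [← Units.val_mul, mul_inv_cancel, Units.val_one]
    have hy'S : y' ∈ S := by
      refine ⟨hy'K, ?_⟩
      rw [hy']
      calc ((h⁻¹ : GL (Fin n) F) : Matrix (Fin n) (Fin n) F) * y * (h : Matrix (Fin n) (Fin n) F) *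
            (((h⁻¹ : GL (Fin n) F) : Matrix (Fin n) (Fin n) F) * y * (h : Matrix (Fin n) (Fin n) F))
          = ((h⁻¹ : GL (Fin n) F) : Matrix (Fin n) (Fin n) F) * y *
              ((h : Matrix (Fin n) (Fin n) F) * ((h⁻¹ : GL (Fin n) F) : Matrix (Fin n) (Fin n) F)) *
              y * (h : Matrix (Fin n) (Fin n) F) := by simp only [mul_assoc]
        _ = 0 := by
            rw [hhh, mul_one, mul_assoc ((h⁻¹ : GL (Fin n) F) : Matrix (Fin n) (Fin n) F) y y,
              hy.2, mul_zero, zero_mul]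
    have hyh : y * (h : Matrix (Fin n) (Fin n) F) = (h : Matrix (Fin n) (Fin n) F) * y' := by
      rw [hy', ← mul_assoc, ← mul_assoc, hhh, one_mul]
    rw [Matrix.mulVec_mulVec, hyh, ← Matrix.mulVec_mulVec, (hmemU₀ u).mp hu y' hy'S,
      Matrix.mulVec_zero]
  rcases hirr U₀ hinvU₀ with hbot | htop'
  · exfalso
    have : v ∈ U₀ := (hmemU₀ v).mpr hvS
    rw [hbot, Submodule.mem_bot] at this
    exact hv0 this
  · have hxS : x ∈ S := ⟨hxK, hxx⟩
    have hall : ∀ w : Fin n → F, x *ᵥ w = 0 := by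
      intro w
      have : w ∈ U₀ := by
        rw [htop']
        exact Submodule.mem_top
      exact (hmemU₀ w).mp this x hxS
    have hlin : Matrix.toLin' x = 0 := LinearMap.ext (fun w => by
      rw [Matrix.toLin'_apply]
      exact hall w)
    exact Matrix.toLin'.injective (hlin.trans (map_zero _).symm)

end Cfsg.Agent.Lib.Helper20.AschU
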