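import Mathlib
import Cfsg.Prelude.Def_Amalgam
import Cfsg.Agent.Lib.Helper68.AmalBDefs

/-!
# S2751, case (B): the definition `AllCrit2` of the sheet (only in `AmalBStubs.lean.txt` so far), as a real file,
so that the modules [B2-V] [B2-K1] [B2-I] [B2-A1] [B2-D] [B2-CNT] share ONE declaration.  Verbatim copy of the stub.
-/

set_option autoImplicit false

namespace Cfsg.Agent.Lib.Helper68.AmalB

open Cfsg Cfsg.Agent.Lib.Helper12.Amal Cfsg.Agent.Lib.Helper68.AmalD Cfsg.Agent.Lib.Helper68.AmalW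

variable {G : Type*} [Group G] {P₁ P₂ : Subgroup G}

/-- every pair of α-type vertices at distance `2` is critical -/
def AllCrit2 (P₁ P₂ : Subgroup G) : Prop :=
  ∀ x y x' : CosetVertex P₁ P₂, ¬ IsB x → (cosetGraph P₁ P₂).Adj x y →
    (cosetGraph P₁ P₂).Adj y x' → x' ≠ x → ¬ Zv x' ≤ Qv x

end Cfsg.Agent.Lib.Helper68.AmalB
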