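import Mathlib
import Cfsg.Prelude.Def_Amalgam
import Cfsg.Agent.Lib.Helper68.AmalBDefs
import Cfsg.Agent.Lib.Helper68.AmalBTools

/-!
# S2751, case (B), module GSB-[B2-F8] (helper30): `|Q_y : F_y| ≤ 8` for β-type `y`
-/

set_option autoImplicit false

namespace Cfsg.Agent.Lib.Helper68.AmalB

open Cfsg Cfsg.Agent.Lib.Helper12.Amal Cfsg.Agent.Lib.Helper68.AmalD Cfsg.Agent.Lib.Helper68.AmalW

variable {G : Type*} [Group G] {P₁ P₂ : Subgroup G}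

/-- `card (H ⊓ K) * H.relIndex K = card K` -/
theorem card_inf_mul_relIndex30 (H K : Subgroup G) :
    Nat.card ↥(H ⊓ K) * H.relIndex K = Nat.card ↥K := by
  have h1 := Subgroup.relIndex_mul_relIndex (⊥ : Subgroup G) (H ⊓ K) K bot_le inf_le_right
  rw [Subgroup.relIndex_bot_left, Subgroup.relIndex_bot_left, Subgroup.inf_relIndex_right] at h1
  exact h1

/-- the three neighbours of a vertex -/
theorem exists_three_nbrs30 (hW : BaseW P₁ P₂) (y : CosetVertex P₁ P₂) :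
    ∃ x₁ x₂ x₃ : CosetVertex P₁ P₂, x₁ ≠ x₂ ∧ x₁ ≠ x₃ ∧ x₂ ≠ x₃ ∧
      (cosetGraph P₁ P₂).Adj y x₁ ∧ (cosetGraph P₁ P₂).Adj y x₂ ∧ (cosetGraph P₁ P₂).Adj y x₃ ∧
      ∀ x, (cosetGraph P₁ P₂).Adj y x → x = x₁ ∨ x = x₂ ∨ x = x₃ := by
  obtain ⟨x₁, x₂, x₃, h12, h13, h23, hset⟩ := Set.ncard_eq_three.mp (hW.card_nbr y)
  have hadj : ∀ x, (cosetGraph P₁ P₂).Adj y x ↔ x = x₁ ∨ x = x₂ ∨ x = x₃ := by
    intro x
    have : x ∈ (cosetGraph P₁ P₂).neighborSet y ↔ x ∈ ({x₁, x₂, x₃} : Set (CosetVertex P₁ P₂)) := by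
      rw [hset]
    simpa using this
  exact ⟨x₁, x₂, x₃, h12, h13, h23, (hadj x₁).2 (Or.inl rfl), (hadj x₂).2 (Or.inr (Or.inl rfl)),
    (hadj x₃).2 (Or.inr (Or.inr rfl)), fun x hx => (hadj x).1 hx⟩

/-- `|Q_y : Q_y ∩ Q_x| ≤ 2` for `x ~ y` -/
theorem relIndex_Q_le_two30 (hW : BaseW P₁ P₂) {x y : CosetVertex P₁ P₂}
    (hxy : (cosetGraph P₁ P₂).Adj x y) : (Qv x).relIndex (Qv y) ≤ 2 ∧ (Qv x).relIndex (Qv y) ≠ 0 := by
  have hfin : Finite ↥(Gv x) := hW.fin x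
  have hfinT : Finite ↥(Gv x ⊓ Gv y) :=
    Finite.of_injective (Subgroup.inclusion (inf_le_left : Gv x ⊓ Gv y ≤ Gv x))
      (Subgroup.inclusion_injective _)
  have hQT : Qv x ≤ Gv x ⊓ Gv y := Q_le_T hW hxy
  have hQT' : Qv y ≤ Gv x ⊓ Gv y := Q_le_T' hW hxy
  have hfinQ : Finite ↥(Qv x) :=
    Finite.of_injective (Subgroup.inclusion hQT) (Subgroup.inclusion_injective _)
  have hpos : 0 < Nat.card ↥(Qv x) := Nat.card_pos
  have h1 := card_inf_mul_relIndex30 (Qv x) (Gv x ⊓ Gv y)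
  rw [inf_eq_left.2 hQT, hW.card_T x y hxy] at h1
  have h2 : (Qv x).relIndex (Gv x ⊓ Gv y) = 2 := by
    have : Nat.card ↥(Qv x) * (Qv x).relIndex (Gv x ⊓ Gv y) = Nat.card ↥(Qv x) * 2 := by
      rw [h1]; ring
    exact Nat.eq_of_mul_eq_mul_left hpos this
  have h3 : (Qv x).relIndex (Gv x ⊓ Gv y) ≠ 0 := by rw [h2]; norm_num
  have h4 := Subgroup.relIndex_le_of_le_right hQT' h3
  rw [h2] at h4
  refine ⟨h4, ?_⟩
  intro h0
  exact h3 (Subgroup.relIndex_eq_zero_of_le_right hQT' h0)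

/-- **[B2-F8]** `|Q_y : F_y| ≤ 8` -/
theorem b2_card_Q_le (hB : BaseB P₁ P₂) {y : CosetVertex P₁ P₂}
    (hy : IsB y) : Nat.card ↥(Qv y) ≤ 8 * Nat.card ↥(Fb y) := by
  have hW := hB.W
  obtain ⟨x₁, x₂, x₃, h12, h13, h23, a1, a2, a3, hall⟩ := exists_three_nbrs30 hW y
  have hfinQ : Finite ↥(Qv y) :=
    haveI := hW.fin y
    Finite.of_injective (Subgroup.inclusion (Q_le_G hW y)) (Subgroup.inclusion_injective _)
  have hfinF : Finite ↥(Fb y) :=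
    Finite.of_injective (Subgroup.inclusion (inf_le_left : Fb y ≤ Qv y))
      (Subgroup.inclusion_injective _)
  -- `Q_x ≤ C(Z_x)`
  have hQZ : ∀ x : CosetVertex P₁ P₂,
      Qv x ≤ Subgroup.centralizer ((Zv x : Subgroup G) : Set G) := fun x =>
    Subgroup.le_centralizer_iff.1 (hW.Z_cent_Q x)
  have hMF : (Qv x₁ ⊓ Qv x₂ ⊓ Qv x₃) ⊓ Qv y ≤ Fb y := by
    unfold Fb
    refine le_inf inf_le_right ?_
    rw [Subgroup.le_centralizer_iff]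
    apply Vv_le
    intro x hx
    rw [← Subgroup.le_centralizer_iff]
    have hle : (Qv x₁ ⊓ Qv x₂ ⊓ Qv x₃) ⊓ Qv y ≤ Qv x := by
      rcases hall x hx with rfl | rfl | rfl
      · exact inf_le_left.trans (inf_le_left.trans inf_le_left)
      · exact inf_le_left.trans (inf_le_left.trans inf_le_right)
      · exact inf_le_left.trans inf_le_right
    exact hle.trans (hQZ x)
  obtain ⟨r1, r1'⟩ := relIndex_Q_le_two30 hW a1.symm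
  obtain ⟨r2, r2'⟩ := relIndex_Q_le_two30 hW a2.symm
  obtain ⟨r3, r3'⟩ := relIndex_Q_le_two30 hW a3.symm
  have hidx : (Qv x₁ ⊓ Qv x₂ ⊓ Qv x₃).relIndex (Qv y) ≤ 8 := by
    have e1 := Subgroup.relIndex_inf_le (H := Qv x₁ ⊓ Qv x₂) (K := Qv x₃) (L := Qv y)
    have e2 := Subgroup.relIndex_inf_le (H := Qv x₁) (K := Qv x₂) (L := Qv y)
    calc (Qv x₁ ⊓ Qv x₂ ⊓ Qv x₃).relIndex (Qv y)
        ≤ (Qv x₁ ⊓ Qv x₂).relIndex (Qv y) * (Qv x₃).relIndex (Qv y) := e1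
      _ ≤ ((Qv x₁).relIndex (Qv y) * (Qv x₂).relIndex (Qv y)) * (Qv x₃).relIndex (Qv y) :=
          Nat.mul_le_mul_right _ e2
      _ ≤ (2 * 2) * 2 := Nat.mul_le_mul (Nat.mul_le_mul r1 r2) r3
      _ = 8 := by norm_num
  have hc := card_inf_mul_relIndex30 (Qv x₁ ⊓ Qv x₂ ⊓ Qv x₃) (Qv y)
  have hle : Nat.card ↥((Qv x₁ ⊓ Qv x₂ ⊓ Qv x₃) ⊓ Qv y) ≤ Nat.card ↥(Fb y) :=
    Subgroup.card_le_of_le hMF
  calc Nat.card ↥(Qv y)
      = Nat.card ↥((Qv x₁ ⊓ Qv x₂ ⊓ Qv x₃) ⊓ Qv y) * (Qv x₁ ⊓ Qv x₂ ⊓ Qv x₃).relIndex (Qv y) := hc.symm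
    _ ≤ Nat.card ↥(Fb y) * 8 := Nat.mul_le_mul hle hidx
    _ = 8 * Nat.card ↥(Fb y) := by ring

end Cfsg.Agent.Lib.Helper68.AmalB
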