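import Mathlib
import Cfsg.Prelude.Def_Amalgam
import Cfsg.Agent.Lib.Helper68.AmalBDefs
import Cfsg.Agent.Lib.Helper68.AmalBTools
import Cfsg.Agent.Lib.Helper30.AmalBAllCrit
import Cfsg.Agent.Lib.Helper30.AmalBB2F8

/-!
# S2751, case (B), module GSB-[B2-A1] (helper30), `_of` form over [P3] `Za_le_Qb`:
`F_y ∩ Q_{y₂} = F_y ∩ Q_{y₃}`, of index `≤ 2` in `F_y`; also [B2-I] in `_of` form over [P3] and [FIX], and `Fb_le_Qa30` (= [B2-FQ])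
-/

set_option autoImplicit false

namespace Cfsg.Agent.Lib.Helper68.AmalB

open Cfsg Cfsg.Agent.Lib.Helper12.Amal Cfsg.Agent.Lib.Helper68.AmalD Cfsg.Agent.Lib.Helper68.AmalW
  Cfsg.Agent.Lib.Helper7.AmalC

variable {G : Type*} [Group G] {P₁ P₂ : Subgroup G}

/-- the neighbours of `x` are the three given ones -/
theorem nbr_cases30 (hW : BaseW P₁ P₂) {x y₁ y₂ y₃ : CosetVertex P₁ P₂}
    (h₁ : (cosetGraph P₁ P₂).Adj x y₁) (h₂ : (cosetGraph P₁ P₂).Adj x y₂)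
    (h₃ : (cosetGraph P₁ P₂).Adj x y₃) (h₁₂ : y₁ ≠ y₂) (h₁₃ : y₁ ≠ y₃) (h₂₃ : y₂ ≠ y₃)
    {y : CosetVertex P₁ P₂} (hy : (cosetGraph P₁ P₂).Adj x y) : y = y₁ ∨ y = y₂ ∨ y = y₃ := by
  by_cases e1 : y = y₁
  · exact Or.inl e1
  by_cases e2 : y = y₂
  · exact Or.inr (Or.inl e2)
  exact Or.inr (Or.inr (nbr_eq_of_card (hW.card_nbr x) y₁ y₂ y y₃ h₁ h₂ h₁₂ hy e1 e2 h₃
    (Ne.symm h₁₃) (Ne.symm h₂₃)))

/-- a second neighbour -/
theorem exists_other_nbr30 (hW : BaseW P₁ P₂) (y x : CosetVertex P₁ P₂) :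
    ∃ x' : CosetVertex P₁ P₂, (cosetGraph P₁ P₂).Adj y x' ∧ x' ≠ x := by
  obtain ⟨x₁, x₂, x₃, h12, _, _, a1, a2, _, _⟩ := exists_three_nbrs30 hW y
  by_cases e : x₁ = x
  · exact ⟨x₂, a2, fun e2 => h12 (e.trans e2.symm)⟩
  · exact ⟨x₁, a1, e⟩

/-- the neighbour of an α-type vertex is of β-type -/
theorem isB_of_adj_not30 (hB : BaseB P₁ P₂) {x y : CosetVertex P₁ P₂} (hx : ¬ IsB x)
    (h : (cosetGraph P₁ P₂).Adj x y) : IsB y := by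
  by_contra hy
  exact hx ((hB.adj_type x y h).2 hy)

/-- `|K : K ∩ Q_x| ≤ 2` for `K ≤ T_xy` -/
theorem relIndex_Q_le_two_of_le30 (hW : BaseW P₁ P₂) {x y : CosetVertex P₁ P₂}
    (hxy : (cosetGraph P₁ P₂).Adj x y) {K : Subgroup G} (hK : K ≤ Gv x ⊓ Gv y) :
    (Qv x).relIndex K ≤ 2 := by
  have hfin : Finite ↥(Gv x) := hW.fin x
  have hfinT : Finite ↥(Gv x ⊓ Gv y) :=
    Finite.of_injective (Subgroup.inclusion (inf_le_left : Gv x ⊓ Gv y ≤ Gv x))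
      (Subgroup.inclusion_injective _)
  have hQT : Qv x ≤ Gv x ⊓ Gv y := Q_le_T hW hxy
  have hfinQ : Finite ↥(Qv x) :=
    Finite.of_injective (Subgroup.inclusion hQT) (Subgroup.inclusion_injective _)
  have hpos : 0 < Nat.card ↥(Qv x) := Nat.card_pos
  have h1 := card_inf_mul_relIndex30 (Qv x) (Gv x ⊓ Gv y)
  rw [inf_eq_left.2 hQT, hW.card_T x y hxy] at h1
  have h2 : (Qv x).relIndex (Gv x ⊓ Gv y) = 2 := by
    have : Nat.card ↥(Qv x) * (Qv x).relIndex (Gv x ⊓ Gv y) = Nat.card ↥(Qv x) * 2 := by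
      rw [h1]; ring
    exact Nat.eq_of_mul_eq_mul_left hpos this
  have h3 : (Qv x).relIndex (Gv x ⊓ Gv y) ≠ 0 := by rw [h2]; norm_num
  have h4 := Subgroup.relIndex_le_of_le_right hK h3
  rwa [h2] at h4

/-- `F_y ≤ Q_x` for `x ~ y`, `x` of α-type (= [B2-FQ]) -/
theorem Fb_le_Qa30 (hB : BaseB P₁ P₂) {x y : CosetVertex P₁ P₂} (hx : ¬ IsB x)
    (hxy : (cosetGraph P₁ P₂).Adj x y) : Fb y ≤ Qv x := by
  have hW := hB.W
  refine le_trans ?_ (hB.Za_cent x hx)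
  refine le_inf ?_ ?_
  · exact (inf_le_left : Fb y ≤ Qv y).trans (Q_le_G_adj hW hxy.symm)
  · have h1 : Fb y ≤ Subgroup.centralizer ((Vv y : Subgroup G) : Set G) := inf_le_right
    exact h1.trans (Subgroup.centralizer_le (Z_le_Vv hxy.symm))

/-- the hypothesis [P3] -/
def HQb30 (P₁ P₂ : Subgroup G) : Prop :=
  ∀ x y : CosetVertex P₁ P₂, (cosetGraph P₁ P₂).Adj x y → IsB y → Zv x ≤ Qv y

/-- an element of `Z_{x'} ∖ Q_x` for `x ~ y ~ x'`, with its properties -/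
theorem exists_crit_elt30 (hB : BaseB P₁ P₂) (hQb : HQb30 P₁ P₂) (hall : AllCrit2 P₁ P₂)
    {x y : CosetVertex P₁ P₂} (hx : ¬ IsB x) (h : (cosetGraph P₁ P₂).Adj x y) :
    ∃ t : G, t ∈ Gv x ⊓ Gv y ∧ t ∉ Qv x ∧ t ∈ Vv y := by
  have hW := hB.W
  have hy : IsB y := isB_of_adj_not30 hB hx h
  obtain ⟨x', hx', hne⟩ := exists_other_nbr30 hW y x
  have hcrit := hall x y x' hx h hx' hne
  obtain ⟨t, htZ, htQ⟩ := SetLike.not_le_iff_exists.1 hcrit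
  have htQy : t ∈ Qv y := hQb x' y hx'.symm hy htZ
  exact ⟨t, Q_le_T' hW h htQy, htQ, Z_le_Vv hx' htZ⟩

/-- **[B2-A1]**, `_of` form: `F_y ∩ Q_{y₂} = F_y ∩ Q_{y₃}`, of index `≤ 2` in `F_y` -/
theorem b2_A1_of30 (hB : BaseB P₁ P₂) (hQb : HQb30 P₁ P₂) (hall : AllCrit2 P₁ P₂)
    {x y y₂ y₃ : CosetVertex P₁ P₂} (hx : ¬ IsB x)
    (h : (cosetGraph P₁ P₂).Adj x y) (h₂ : (cosetGraph P₁ P₂).Adj x y₂)
    (h₃ : (cosetGraph P₁ P₂).Adj x y₃) (h₁₂ : y ≠ y₂) (h₁₃ : y ≠ y₃) (h₂₃ : y₂ ≠ y₃) :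
    Fb y ⊓ Qv y₂ = Fb y ⊓ Qv y₃ ∧ Nat.card ↥(Fb y) ≤ 2 * Nat.card ↥(Fb y ⊓ Qv y₂) := by
  have hW := hB.W
  obtain ⟨t, htT, htQ, htV⟩ := exists_crit_elt30 hB hQb hall hx h
  have htx : t • x = x := MulAction.mem_stabilizer_iff.1 htT.1
  have hty : t • y = y := MulAction.mem_stabilizer_iff.1 htT.2
  -- `t` swaps `y₂` and `y₃`
  have hmove : t • y₂ ≠ y₂ := hW.move x y y₂ h h₂ h₁₂ t htT htQ
  have hadj : (cosetGraph P₁ P₂).Adj x (t • y₂) := by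
    have := hW.smul_adj t x y₂ h₂
    rwa [htx] at this
  have hney : t • y₂ ≠ y := by
    intro e
    rw [← hty] at e
    exact h₁₂ (smul_left_cancel t e).symm
  have h23 : t • y₂ = y₃ :=
    nbr_eq_of_card (hW.card_nbr x) y y₂ (t • y₂) y₃ h h₂ h₁₂ hadj hney hmove h₃ (Ne.symm h₁₃)
      (Ne.symm h₂₃)
  -- `t` centralizes `F_y`
  have hcomm : ∀ f ∈ Fb y, t * f = f * t := by
    intro f hf
    have hfc : f ∈ Subgroup.centralizer ((Vv y : Subgroup G) : Set G) := (Subgroup.mem_inf.1 hf).2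
    exact (Subgroup.mem_centralizer_iff.1 hfc) t htV
  have hQ3 : Qv y₃ = (Qv y₂).map (MulAut.conj t).toMonoidHom := by
    rw [← hW.smul_Q, h23]
  refine ⟨?_, ?_⟩
  · apply le_antisymm
    · intro f hf
      obtain ⟨hf1, hf2⟩ := Subgroup.mem_inf.1 hf
      refine Subgroup.mem_inf.2 ⟨hf1, ?_⟩
      rw [hQ3, mem_map_conj]
      have e : t⁻¹ * f * t = f := by
        rw [mul_assoc, ← hcomm f hf1, ← mul_assoc, inv_mul_cancel, one_mul]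
      rw [e]
      exact hf2
    · intro f hf
      obtain ⟨hf1, hf2⟩ := Subgroup.mem_inf.1 hf
      refine Subgroup.mem_inf.2 ⟨hf1, ?_⟩
      have h1 : f ∈ (Qv y₂).map (MulAut.conj t).toMonoidHom := by
        rw [← hQ3]; exact hf2
      rw [mem_map_conj] at h1
      have e : t⁻¹ * f * t = f := by
        rw [mul_assoc, ← hcomm f hf1, ← mul_assoc, inv_mul_cancel, one_mul]
      rwa [e] at h1
  · have hFT : Fb y ≤ Gv y₂ ⊓ Gv x := by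
      refine (Fb_le_Qa30 hB hx h).trans ?_
      have := Q_le_T hW h₂
      rwa [inf_comm] at this
    have hidx := relIndex_Q_le_two_of_le30 hW h₂.symm hFT
    have hc := card_inf_mul_relIndex30 (Qv y₂) (Fb y)
    have hfinF : Finite ↥(Fb y) :=
      haveI := hW.fin y
      Finite.of_injective (Subgroup.inclusion ((inf_le_left : Fb y ≤ Qv y).trans (Q_le_G hW y)))
        (Subgroup.inclusion_injective _)
    rw [inf_comm] at hc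
    calc Nat.card ↥(Fb y) = Nat.card ↥(Fb y ⊓ Qv y₂) * (Qv y₂).relIndex (Fb y) := hc.symm
      _ ≤ Nat.card ↥(Fb y ⊓ Qv y₂) * 2 := Nat.mul_le_mul_left _ hidx
      _ = 2 * Nat.card ↥(Fb y ⊓ Qv y₂) := by ring

/-- the hypothesis [FIX] -/
def HFix30 (P₁ P₂ : Subgroup G) : Prop :=
  ∀ (x y₁ y₂ : CosetVertex P₁ P₂), ¬ IsB x →
    (cosetGraph P₁ P₂).Adj x y₁ → (cosetGraph P₁ P₂).Adj x y₂ → y₁ ≠ y₂ →
    ∀ N : Subgroup G, N ≤ Qv x → Gv x ⊓ Gv y₁ ≤ Subgroup.normalizer (N : Set G) →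
    ∀ t : G, t ∈ Gv x ⊓ Gv y₂ → t ∉ Qv x → (∀ n ∈ N, t * n = n * t) → N = ⊥

/-- **[B2-I]**, `_of` form: `F_{y₁} ∩ F_{y₂} ∩ F_{y₃} = 1` -/
theorem b2_F_inf_eq_bot_of30 (hB : BaseB P₁ P₂) (hQb : HQb30 P₁ P₂) (hfix : HFix30 P₁ P₂)
    (hall : AllCrit2 P₁ P₂)
    {x y₁ y₂ y₃ : CosetVertex P₁ P₂} (hx : ¬ IsB x)
    (h₁ : (cosetGraph P₁ P₂).Adj x y₁) (h₂ : (cosetGraph P₁ P₂).Adj x y₂)
    (h₃ : (cosetGraph P₁ P₂).Adj x y₃) (h₁₂ : y₁ ≠ y₂) (h₁₃ : y₁ ≠ y₃) (h₂₃ : y₂ ≠ y₃) :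
    Fb y₁ ⊓ Fb y₂ ⊓ Fb y₃ = ⊥ := by
  have hW := hB.W
  -- membership in `N` means membership in `F_y` for every neighbour `y` of `x`
  have hmem : ∀ d : G, d ∈ Fb y₁ ⊓ Fb y₂ ⊓ Fb y₃ ↔
      ∀ y, (cosetGraph P₁ P₂).Adj x y → d ∈ Fb y := by
    intro d
    constructor
    · intro hd y hy
      obtain ⟨hd12, hd3⟩ := Subgroup.mem_inf.1 hd
      obtain ⟨hd1, hd2⟩ := Subgroup.mem_inf.1 hd12
      rcases nbr_cases30 hW h₁ h₂ h₃ h₁₂ h₁₃ h₂₃ hy with rfl | rfl | rfl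
      · exact hd1
      · exact hd2
      · exact hd3
    · intro hd
      exact Subgroup.mem_inf.2 ⟨Subgroup.mem_inf.2 ⟨hd y₁ h₁, hd y₂ h₂⟩, hd y₃ h₃⟩
  have hN : Fb y₁ ⊓ Fb y₂ ⊓ Fb y₃ ≤ Qv x :=
    (inf_le_left.trans inf_le_left).trans (Fb_le_Qa30 hB hx h₁)
  have hnormG : Gv x ≤ Subgroup.normalizer ((Fb y₁ ⊓ Fb y₂ ⊓ Fb y₃ : Subgroup G) : Set G) := by
    apply le_normalizer_of_forall
    intro g hg d hd
    rw [hmem] at hd ⊢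
    intro y hy
    have hgx : g • x = x := MulAction.mem_stabilizer_iff.1 hg
    have hadj : (cosetGraph P₁ P₂).Adj x (g⁻¹ • y) := by
      have : (cosetGraph P₁ P₂).Adj (g • x) y := by rw [hgx]; exact hy
      exact adj_inv_smul hW g this
    have h1 := hd _ hadj
    have h2 : g * d * g⁻¹ ∈ (Fb (g⁻¹ • y)).map (MulAut.conj g).toMonoidHom := conj_mem_map g h1
    rwa [← Fb_smul hW, smul_inv_smul] at h2
  have hnorm : Gv x ⊓ Gv y₁ ≤ Subgroup.normalizer ((Fb y₁ ⊓ Fb y₂ ⊓ Fb y₃ : Subgroup G) : Set G) :=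
    inf_le_left.trans hnormG
  obtain ⟨t, htT, htQ, htV⟩ := exists_crit_elt30 hB hQb hall hx h₂
  have hc : ∀ n ∈ Fb y₁ ⊓ Fb y₂ ⊓ Fb y₃, t * n = n * t := by
    intro n hn
    have hn2 : n ∈ Fb y₂ := (hmem n).1 hn y₂ h₂
    have hfc : n ∈ Subgroup.centralizer ((Vv y₂ : Subgroup G) : Set G) := (Subgroup.mem_inf.1 hn2).2
    exact (Subgroup.mem_centralizer_iff.1 hfc) t htV
  exact hfix x y₁ y₂ hx h₁ h₂ h₁₂ _ hN hnorm t htT htQ hc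

end Cfsg.Agent.Lib.Helper68.AmalB
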