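import Mathlib
import Cfsg.Prelude.Def_GeometricClasses
import Cfsg.Agent.Lib.Helper99.AschDefs
import Cfsg.Agent.Lib.Helper70.AschU.Defs
import Cfsg.Agent.Lib.Helper67.AschArith

/-!
# ASCHU-[ARITH-U] (helper30): `F` is the minimal field for the `z`-th roots of unity, or they lie in a proper subfield.
-/

set_option autoImplicit false

namespace Cfsg.Agent.Lib.Helper70.AschU

open Cfsg Cfsg.Geo

variable {F : Type*} [Field F] [Fintype F]

theorem minimal_or_subfield (z : ℕ) (hz : z ∣ Fintype.card F - 1) :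
    (∃ p e : ℕ, IsMinimalFieldFor z p e F) ∨
    (∃ F₁ : Subfield F, F₁ ≠ ⊤ ∧ ∀ c : F, c ^ z = 1 → c ∈ F₁) := by
  obtain ⟨p, hchar⟩ := CharP.exists F
  have hp : p.Prime := CharP.char_is_prime F p
  have := Fact.mk hp
  obtain ⟨e, _, hcard⟩ := FiniteField.card F p
  rw [hcard] at hz
  by_cases hA : ∃ d : ℕ, 0 < d ∧ d < (e : ℕ) ∧ z ∣ p ^ d - 1
  · obtain ⟨d, hd0, hde, hd⟩ := hA
    exact Or.inr (Cfsg.Agent.Lib.Helper67.AschArith.exists_proper_subfield p e d z hcard hd0 hde hd)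
  · push Not at hA
    exact Or.inl ⟨p, e, hp, hchar, hcard, hz, fun d hd0 hde => hA d hd0 hde⟩

end Cfsg.Agent.Lib.Helper70.AschU
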