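import Mathlib
import Cfsg.Prelude.Def_GeometricClasses
import Cfsg.Agent.Lib.Helper99.AschDefs
import Cfsg.Agent.Lib.Helper70.AschU.Defs
import Cfsg.Agent.Lib.Helper20.AschU.Ctr
import Cfsg.Agent.Lib.Helper1.AschC6

/-!
# ASCHU-[C6-U] (helper30): the output of the symplectic-type analysis over the minimal field lands in class 6 of the
unitary geometric classes.
-/

set_option autoImplicit false

namespace Cfsg.Agent.Lib.Helper30.AschUC6U

/-- `q ^ 2 = p ^ e` with `p` an odd prime, `e ≠ 0`, `4 ∣ p ^ d - 1` for no `0 < d < e`: `e = 2`. -/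
theorem e_eq_two {p e q : ℕ} (hp : p.Prime) (hodd : Odd p) (hq : q ^ 2 = p ^ e) (he0 : e ≠ 0)
    (hmin : ∀ d : ℕ, 0 < d → d < e → ¬ 4 ∣ p ^ d - 1) : e = 2 := by
  have h4 : 4 ∣ p ^ 2 - 1 := by
    obtain ⟨t, rfl⟩ := hodd
    have : (2 * t + 1) ^ 2 - 1 = 4 * (t * (t + 1)) := by
      have h : (2 * t + 1) ^ 2 = 4 * (t * (t + 1)) + 1 := by ring
      rw [h]; simp
    rw [this]
    exact Dvd.intro _ rfl
  have hle : e ≤ 2 := by
    by_contra hlt
    exact hmin 2 (by norm_num) (by omega) h4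
  have he1 : e ≠ 1 := by
    rintro rfl
    rw [pow_one] at hq
    have hqp : q ∣ p := ⟨q, by rw [← hq]; ring⟩
    rcases (Nat.dvd_prime hp).mp hqp with h1 | h1
    · rw [h1] at hq
      have := hp.two_le
      omega
    · rw [h1] at hq
      have h2 := hp.two_le
      nlinarith
  omega

end Cfsg.Agent.Lib.Helper30.AschUC6U

namespace Cfsg.Agent.Lib.Helper70.AschU

open Cfsg Cfsg.Geo Cfsg.Agent.Lib.Helper99.Asch
open scoped MatrixGroups Matrix Kronecker

variable {n : ℕ} {F : Type*} [Field F] [Fintype F] {q : ℕ} {σ : F ≃+* F}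

theorem ugeo_of_sympOut_minimal (hσ : UCtx σ q) (hn : 3 ≤ n) (H R : Subgroup (GL (Fin n) F)) (hH : H ≤ GU n F q)
    (r z : ℕ) (hR : SympOut H R r z) (hRle : R ≤ H ⊔ scalars (Fin n) F)
    (hz : (Odd r ∧ z = r) ∨ (r = 2 ∧ z = 4)) (p e : ℕ) (hmin : IsMinimalFieldFor z p e F) : UGeo q H := by
  have hF : Fintype.card F = q ^ 2 := hσ.card
  have hr : r.Prime := hR.prime
  have : Fact r.Prime := ⟨hr⟩
  obtain ⟨hp, hchar, hcard, hzdvd, hminimal⟩ := hmin
  have he0 : e ≠ 0 := by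
    rintro rfl
    rw [pow_zero] at hcard
    have := Fintype.one_lt_card (α := F)
    omega
  have hrp : r ≠ p := by
    rintro rfl
    exact hR.coprime (by rw [hcard]; exact dvd_pow_self r he0)
  have hRsim : R ≤ similarityGroup (hermForm n F q) := by
    refine hRle.trans (sup_le (hH.trans ?_) ?_)
    · exact Cfsg.Agent.Lib.Helper20.AschU.GU_le_similarityGroup
    · exact Cfsg.Agent.Lib.Helper20.AschU.scalars_le_similarityGroup hF
  obtain ⟨j, hj⟩ := (IsPGroup.iff_card).1 hR.symplecticType.pGroup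
  have hle : H ≤ subgroupNormalizer R ⊓ GU n F q :=
    le_inf (Cfsg.Agent.Lib.Helper1.AschC6.le_subgroupNormalizer_of_nrm H R hR.nrm) hH
  have hminz : IsMinimalFieldFor (Nat.card (Subgroup.center R)) p e F := by
    rw [hR.card_center]
    exact ⟨hp, hchar, hcard, hzdvd, hminimal⟩
  rcases hz with ⟨hodd, rfl⟩ | ⟨rfl, rfl⟩
  · -- `r` odd
    have hcardR : Nat.card R = z ^ 1 * n ^ 2 := by
      rw [hR.card_eq, Fintype.card_fin, pow_one]
    obtain ⟨m, hnm, hm⟩ := Cfsg.Agent.Lib.Helper1.AschC6.pow_decomp (a := 1) (j := j) hr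
      (by rw [← hcardR, hj])
    have hm1 : 1 ≤ m := by
      rcases Nat.eq_zero_or_pos m with h0 | h0
      · rw [h0, pow_zero] at hnm
        omega
      · exact h0
    refine ⟨subgroupNormalizer R ⊓ GU n F q, Or.inl ?_, hle⟩
    refine Or.inr (Or.inr (Or.inr (Or.inr (Or.inr (Or.inr (Or.inr ⟨z, R, p, e, m, hR.symplecticType,
      hR.absIrred, hRsim, hrp, hminz, Or.inl ⟨hodd, hR.card_center, hm1, ?_⟩, rfl⟩))))))
    rw [hcardR, hm]
  · -- `r = 2`, `z = 4`
    have hcardR : Nat.card R = 2 ^ 2 * n ^ 2 := by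
      rw [hR.card_eq, Fintype.card_fin]
      norm_num
    obtain ⟨m, hnm, hm⟩ := Cfsg.Agent.Lib.Helper1.AschC6.pow_decomp (a := 2) (j := j) hr
      (by rw [← hcardR, hj])
    have hpodd : Odd p := by
      rcases hp.eq_two_or_odd' with h2 | h2
      · exact absurd h2.symm hrp
      · exact h2
    have he2 : e = 2 :=
      Cfsg.Agent.Lib.Helper30.AschUC6U.e_eq_two hp hpodd (by rw [← hF, hcard]) he0 hminimal
    refine ⟨subgroupNormalizer R ⊓ GU n F q, Or.inl ?_, hle⟩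
    refine Or.inr (Or.inr (Or.inr (Or.inr (Or.inr (Or.inr (Or.inr ⟨2, R, p, e, m, hR.symplecticType,
      hR.absIrred, hRsim, hrp, hminz, Or.inr ⟨rfl, he2, hR.card_center, ?_⟩, rfl⟩))))))
    rw [hcardR, hm]

end Cfsg.Agent.Lib.Helper70.AschU
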