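import Mathlib
import Cfsg.Prelude.Def_GeometricClasses
import Cfsg.Agent.Lib.Helper99.AschDefs
import Cfsg.Agent.Lib.Helper20.AschU.Basic
import Cfsg.Agent.Lib.Helper37.GUConj

/-!
# ASCHU-[ODD] (helper30): a finite field `K ⊇ F`, `|F| = q²`, with a ring involution inducing `x ↦ x^q` on `F`
has odd degree over `F`.

Proof: the fixed field `K₀` of `⟨τ⟩` has index 2 (Artin), so `|K₀| = q^s`, `s = [K : F]`; its elements are exactly the
roots of `X^(q^s) - X`.  If `s` were even, every element of `F` would be such a root, so `τ` would fix `F` pointwise,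
but `c ↦ c^q` is not the identity of `F`.
-/

set_option autoImplicit false

namespace Cfsg.Agent.Lib.Helper30.AschUOdd

open Polynomial

/-- root counting: a finset of `N` solutions of `x ^ N = x` contains every solution. -/
theorem mem_of_pow_eq_self {K : Type*} [Field K] [DecidableEq K] (S : Finset K) (N : ℕ)
    (hN : 1 < N) (hS : ∀ x ∈ S, x ^ N = x) (hcard : N ≤ S.card) (y : K) (hy : y ^ N = y) :
    y ∈ S := by
  set p : K[X] := X ^ N - X with hp
  have hp0 : p ≠ 0 := FiniteField.X_pow_card_sub_X_ne_zero K hN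
  have hdeg : p.natDegree = N := FiniteField.X_pow_card_sub_X_natDegree_eq K hN
  have hroot : ∀ x : K, x ^ N = x → x ∈ p.roots.toFinset := by
    intro x hx
    rw [Multiset.mem_toFinset, mem_roots hp0, IsRoot.def, hp]
    simp [hx]
  have hsub : S ⊆ p.roots.toFinset := fun x hx => hroot x (hS x hx)
  have hle : p.roots.toFinset.card ≤ N :=
    (Multiset.toFinset_card_le _).trans ((card_roots' p).trans hdeg.le)
  have heq : S = p.roots.toFinset := Finset.eq_of_subset_of_card_le hsub (hle.trans hcard)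
  rw [heq]
  exact hroot y hy

/-- iterating `c ^ Q = c`. -/
theorem pow_pow_eq_self {K : Type*} [Monoid K] (c : K) (Q : ℕ) (h : c ^ Q = c) (m : ℕ) :
    c ^ (Q ^ m) = c := by
  induction m with
  | zero => simp
  | succ m ih => rw [pow_succ, pow_mul, ih, h]

end Cfsg.Agent.Lib.Helper30.AschUOdd

namespace Cfsg.Agent.Lib.Helper20.AschU

open Cfsg Cfsg.Geo Cfsg.Agent.Lib.Helper99.Asch
open scoped MatrixGroups Matrix Kronecker

variable {n : ℕ} {F : Type*} [Field F] [Fintype F] {q : ℕ}

/-- ASCHU-[ODD]: exact sheet statement. -/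
theorem odd_finrank_of_involution (hF : Fintype.card F = q ^ 2) {K : Type*} [Field K] [Algebra F K]
    [FiniteDimensional F K] (τ : K ≃+* K) (hτ : ∀ x, τ (τ x) = x)
    (hτF : ∀ c : F, τ (algebraMap F K c) = algebraMap F K (c ^ q)) :
    Odd (Module.finrank F K) := by
  classical
  have hfinK : Finite K := Module.finite_of_finite F
  let _ : Fintype K := Fintype.ofFinite K
  set s := Module.finrank F K with hs
  have hq2 : 2 ≤ q := Cfsg.Agent.Lib.Helper5.two_le_of_card_eq_sq hF
  obtain ⟨c, hc⟩ := Cfsg.Agent.Lib.Helper37.GUConj.exists_sig_ne hF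
  rw [Cfsg.Agent.Lib.Helper37.GUConj.sig_apply] at hc
  -- τ ≠ 1
  have hτ1 : τ ≠ 1 := by
    intro h
    apply hc
    have h1 := hτF c
    rw [h] at h1
    exact ((algebraMap F K).injective h1).symm
  have hτ2 : τ ^ 2 = 1 := by
    ext x
    simp [pow_two, hτ]
  have hord : orderOf τ = 2 := orderOf_eq_prime hτ2 hτ1
  have hfinAut : Finite (K ≃+* K) :=
    Finite.of_injective (fun e : K ≃+* K => (e : K → K)) DFunLike.coe_injective
  let G : Subgroup (K ≃+* K) := Subgroup.zpowers τ
  let _ : Fintype G := Fintype.ofFinite G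
  have hcardG : Fintype.card G = 2 := by
    rw [← Nat.card_eq_fintype_card, Nat.card_zpowers, hord]
  have hfin : Module.finrank (FixedPoints.subfield G K) K = 2 := by
    rw [FixedPoints.finrank_eq_card G K, hcardG]
  set K₀ := FixedPoints.subfield G K with hK₀
  have h1 : Nat.card K = Nat.card K₀ ^ 2 := by
    rw [Module.natCard_eq_pow_finrank (K := K₀) (V := K), hfin]
  have h2 : Nat.card K = (q ^ 2) ^ s := by
    rw [Module.natCard_eq_pow_finrank (K := F) (V := K), Nat.card_eq_fintype_card, hF]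
  have h3 : Nat.card K₀ = q ^ s := by
    have h4 : Nat.card K₀ ^ 2 = (q ^ s) ^ 2 := by
      rw [← h1, h2]
      ring
    exact Nat.pow_left_injective (by norm_num : 2 ≠ 0) h4
  by_contra hodd
  rw [Nat.not_odd_iff_even] at hodd
  obtain ⟨m, hm⟩ := hodd
  have hspos : 0 < s := Module.finrank_pos
  let S : Finset K := Finset.univ.filter (fun x => x ∈ K₀)
  have hScard : S.card = q ^ s := by
    rw [← h3, Nat.card_eq_fintype_card, Fintype.card_subtype]
  have hSpow : ∀ x ∈ S, x ^ (q ^ s) = x := by
    intro x hx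
    have hxK₀ : x ∈ K₀ := (Finset.mem_filter.mp hx).2
    have h5 := FiniteField.pow_card (⟨x, hxK₀⟩ : K₀)
    rw [← Nat.card_eq_fintype_card, h3] at h5
    exact congrArg Subtype.val h5
  have hcq : c ^ (q ^ 2) = c := by
    have := FiniteField.pow_card c
    rwa [hF] at this
  have hy : (algebraMap F K c) ^ (q ^ s) = algebraMap F K c := by
    rw [← map_pow]
    congr 1
    have : q ^ s = (q ^ 2) ^ m := by
      rw [hm, ← pow_mul]
      congr 1
      ring
    rw [this]
    exact Cfsg.Agent.Lib.Helper30.AschUOdd.pow_pow_eq_self c (q ^ 2) hcq m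
  have hN : 1 < q ^ s := Nat.one_lt_pow (Nat.pos_iff_ne_zero.mp hspos) (by omega)
  have hmem := Cfsg.Agent.Lib.Helper30.AschUOdd.mem_of_pow_eq_self S (q ^ s) hN hSpow hScard.ge _ hy
  have hmemK₀ : algebraMap F K c ∈ K₀ := (Finset.mem_filter.mp hmem).2
  have hfix : τ (algebraMap F K c) = algebraMap F K c := by
    have h6 : algebraMap F K c ∈ MulAction.fixedPoints G K := hmemK₀
    exact h6 ⟨τ, Subgroup.mem_zpowers τ⟩
  rw [hτF c] at hfix
  exact hc ((algebraMap F K).injective hfix)

end Cfsg.Agent.Lib.Helper20.AschU
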