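import Mathlib
import Cfsg.Prelude.Def_GeometricClasses
import Cfsg.Agent.Lib.Helper99.AschDefs
import Cfsg.Agent.Lib.Helper20.AschU.Basic
import Cfsg.Agent.Lib.Helper20.AschU.Ctr
import Cfsg.Agent.Lib.Helper39.AschC3
import Cfsg.Agent.Lib.Helper30.AschUOdd

/-!
# ASCHU-[U3] (helper30): a subgroup of `GU_n(q)` normalising a `*`-closed field `K ⊋ F·1` of matrices lies in a
class-3 member of the unitary geometric classes.

The adjoint `ctr q` restricted to `K` is a ring involution of the field `K` inducing `c ↦ c^q` on `F`, so `[K:F]` is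
odd ([ODD]); the fixed subalgebra `K_r` of `x ↦ x^(|F|^r)` for an (odd) prime `r ∣ [K:F]` is a field of degree `r`,
normalised by `H` and closed under adjoints.
-/

set_option autoImplicit false

namespace Cfsg.Agent.Lib.Helper30.AschUU3

open Cfsg Cfsg.Geo Module Cfsg.Agent.Lib.Helper20.AschU
open scoped MatrixGroups Matrix

/-- [ODD] for a ring that is a field. -/
theorem odd_finrank_of_isField {F : Type*} [Field F] [Fintype F] {q : ℕ} (hF : Fintype.card F = q ^ 2)
    {K : Type*} [Ring K] [Algebra F K] [Module.Finite F K] (hK : IsField K)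
    (τ : K ≃+* K) (hτ : ∀ x, τ (τ x) = x)
    (hτF : ∀ c : F, τ (algebraMap F K c) = algebraMap F K (c ^ q)) :
    Odd (finrank F K) := by
  let _i : Field K := hK.toField
  exact odd_finrank_of_involution hF τ hτ hτF

variable {n : ℕ} {F : Type*} [Field F] [Fintype F] {q : ℕ}

/-- The field part of helper39's `geo_of_normalized_field`: for a prime `r` dividing the degree, the subalgebra
`K_r = {y ∈ K | y ^ (|F|^r) = y}` is a field of degree `r` normalised by `H`. -/
theorem exists_subfield_of_prime_dvd (H : Subgroup (GL (Fin n) F))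
    (K : Subalgebra F (Matrix (Fin n) (Fin n) F))
    (hKfield : IsField K)
    (hcomm : ∀ x ∈ K, ∀ y ∈ K, x * y = y * x)
    (hinv : ∀ x ∈ K, x ≠ 0 → ∃ y ∈ K, x * y = 1)
    (hnorm : ∀ h ∈ H, ∀ k ∈ K,
      (h : Matrix (Fin n) (Fin n) F) * k * ((h⁻¹ : GL (Fin n) F) : Matrix (Fin n) (Fin n) F) ∈ K)
    (r : ℕ) (hrs : r ∣ finrank F K) :
    ∃ Kr : Subalgebra F (Matrix (Fin n) (Fin n) F),
      (∀ y, y ∈ Kr ↔ y ∈ K ∧ y ^ (Fintype.card F ^ r) = y) ∧ IsFieldSubalgebra r Kr ∧
        H ≤ subalgebraNormalizer Kr := by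
  classical
  obtain ⟨E, hEmem, hEr⟩ := Cfsg.Agent.Lib.Helper39.AschC3.exists_fixed_subalgebra_of_isField hKfield r hrs
  set N : ℕ := Fintype.card F ^ r with hN
  set Kr : Subalgebra F (Matrix (Fin n) (Fin n) F) := E.map K.val with hKr
  have hKrmem : ∀ y, y ∈ Kr ↔ y ∈ K ∧ y ^ N = y := by
    intro y
    rw [hKr, Subalgebra.mem_map]
    constructor
    · rintro ⟨x, hxE, rfl⟩
      refine ⟨x.2, ?_⟩
      have := (hEmem x).mp hxE
      have h2 := congrArg (Subtype.val) this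
      simpa using h2
    · rintro ⟨hyK, hy⟩
      refine ⟨⟨y, hyK⟩, ?_, rfl⟩
      rw [hEmem]
      exact Subtype.ext (by simpa using hy)
  have hfield : IsFieldSubalgebra r Kr := by
    refine ⟨?_, ?_, ?_⟩
    · intro x hx y hy
      exact hcomm x ((hKrmem x).mp hx).1 y ((hKrmem y).mp hy).1
    · intro x hx hx0
      obtain ⟨hxK, hxN⟩ := (hKrmem x).mp hx
      obtain ⟨y, hyK, hxy⟩ := hinv x hxK hx0
      refine ⟨y, (hKrmem y).mpr ⟨hyK, ?_⟩, hxy⟩
      have hc : Commute x y := hcomm x hxK y hyK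
      have h1 : x * y ^ N = 1 := by
        have := hc.mul_pow N
        rw [hxy, one_pow, hxN] at this
        exact this.symm
      have hyx : y * x = 1 := by rw [← hc.eq]; exact hxy
      calc y ^ N = (y * x) * y ^ N := by rw [hyx, one_mul]
        _ = y * (x * y ^ N) := by rw [mul_assoc]
        _ = y := by rw [h1, mul_one]
    · have e : E ≃ₐ[F] Kr := E.equivMapOfInjective K.val Subtype.val_injective
      rw [← hEr]
      exact (e.toLinearEquiv.finrank_eq).symm
  refine ⟨Kr, hKrmem, hfield, ?_⟩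
  intro h hh
  show ∀ k : Matrix (Fin n) (Fin n) F, k ∈ Kr ↔ _
  intro k
  constructor
  · intro hk
    obtain ⟨hkK, hkN⟩ := (hKrmem k).mp hk
    refine (hKrmem _).mpr ⟨hnorm h hh k hkK, ?_⟩
    rw [Cfsg.Agent.Lib.Helper39.AschC3.conj_pow_matrix, hkN]
  · intro hk
    obtain ⟨hkK, hkN⟩ := (hKrmem _).mp hk
    have hback : ∀ m : Matrix (Fin n) (Fin n) F,
        ((h⁻¹ : GL (Fin n) F) : Matrix (Fin n) (Fin n) F) *
          ((h : Matrix (Fin n) (Fin n) F) * m * ((h⁻¹ : GL (Fin n) F) : Matrix (Fin n) (Fin n) F)) *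
          (((h⁻¹)⁻¹ : GL (Fin n) F) : Matrix (Fin n) (Fin n) F) = m := by
      intro m
      rw [inv_inv]
      have h1 : ((h⁻¹ : GL (Fin n) F) : Matrix (Fin n) (Fin n) F) * (h : Matrix (Fin n) (Fin n) F) = 1 := by
        rw [← Units.val_mul, inv_mul_cancel, Units.val_one]
      calc _ = (((h⁻¹ : GL (Fin n) F) : Matrix (Fin n) (Fin n) F) * (h : Matrix (Fin n) (Fin n) F)) * m *
            (((h⁻¹ : GL (Fin n) F) : Matrix (Fin n) (Fin n) F) * (h : Matrix (Fin n) (Fin n) F)) := by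
            simp only [mul_assoc]
        _ = m := by rw [h1, one_mul, mul_one]
    have hkK' := hnorm h⁻¹ (H.inv_mem hh) _ hkK
    rw [hback] at hkK'
    refine (hKrmem k).mpr ⟨hkK', ?_⟩
    rw [Cfsg.Agent.Lib.Helper39.AschC3.conj_pow_matrix] at hkN
    have := congrArg (fun m => ((h⁻¹ : GL (Fin n) F) : Matrix (Fin n) (Fin n) F) * m *
          (((h⁻¹)⁻¹ : GL (Fin n) F) : Matrix (Fin n) (Fin n) F)) hkN
    simp only [hback] at this
    exact this

end Cfsg.Agent.Lib.Helper30.AschUU3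

namespace Cfsg.Agent.Lib.Helper20.AschU

open Cfsg Cfsg.Geo Module Cfsg.Agent.Lib.Helper99.Asch
open scoped MatrixGroups Matrix

variable {n : ℕ} {F : Type*} [Field F] [Fintype F] {q : ℕ}

theorem ugeo_of_normalized_field (hF : Fintype.card F = q ^ 2) (H : Subgroup (GL (Fin n) F))
    (hH : H ≤ GU n F q) (K : Subalgebra F (Matrix (Fin n) (Fin n) F))
    (hcomm : ∀ x ∈ K, ∀ y ∈ K, x * y = y * x)
    (hinv : ∀ x ∈ K, x ≠ 0 → ∃ y ∈ K, x * y = 1)
    (hbig : ∃ x ∈ K, ∀ c : F, x ≠ c • (1 : Matrix (Fin n) (Fin n) F))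
    (hnorm : ∀ h ∈ H, ∀ k ∈ K,
      (h : Matrix (Fin n) (Fin n) F) * k * ((h⁻¹ : GL (Fin n) F) : Matrix (Fin n) (Fin n) F) ∈ K)
    (hstar : ∀ x ∈ K, ctr q x ∈ K) : UGeo q H := by
  classical
  -- the matrix ring is nontrivial
  have hnt : Nontrivial (Matrix (Fin n) (Fin n) F) := by
    by_contra hnt
    rw [not_nontrivial_iff_subsingleton] at hnt
    obtain ⟨x, -, hx⟩ := hbig
    exact hx 0 (Subsingleton.elim _ _)
  -- `K` is a field
  have hKfield : IsField K := by
    refine ⟨⟨0, 1, ?_⟩, ?_, ?_⟩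
    · intro h01
      have := congrArg (Subtype.val) h01
      exact zero_ne_one this
    · intro x y
      exact Subtype.ext (hcomm x x.2 y y.2)
    · intro a ha
      have ha' : (a : Matrix (Fin n) (Fin n) F) ≠ 0 := fun h0 => ha (Subtype.ext h0)
      obtain ⟨y, hyK, hy⟩ := hinv a a.2 ha'
      exact ⟨⟨y, hyK⟩, Subtype.ext hy⟩
  -- the degree
  have hs1 : finrank F K ≠ 1 := by
    intro h1
    rw [Subalgebra.finrank_eq_one_iff] at h1
    obtain ⟨x, hxK, hx⟩ := hbig
    rw [h1, Algebra.mem_bot] at hxK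
    obtain ⟨c, rfl⟩ := hxK
    exact hx c (by rw [Algebra.algebraMap_eq_smul_one])
  -- the adjoint as a ring involution of `K`
  let τ : K ≃+* K :=
    { toFun := fun x => ⟨ctr q (x : Matrix (Fin n) (Fin n) F), hstar x x.2⟩
      invFun := fun x => ⟨ctr q (x : Matrix (Fin n) (Fin n) F), hstar x x.2⟩
      left_inv := fun x => Subtype.ext (ctr_ctr hF _)
      right_inv := fun x => Subtype.ext (ctr_ctr hF _)
      map_mul' := fun x y => Subtype.ext (by
        show ctr q ((x : Matrix (Fin n) (Fin n) F) * (y : Matrix (Fin n) (Fin n) F)) = _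
        rw [ctr_mul hF]
        exact hcomm _ (hstar y y.2) _ (hstar x x.2))
      map_add' := fun x y => Subtype.ext (ctr_add hF _ _) }
  have hτ : ∀ x, τ (τ x) = x := fun x => Subtype.ext (ctr_ctr hF _)
  have hτF : ∀ c : F, τ (algebraMap F K c) = algebraMap F K (c ^ q) := by
    intro c
    apply Subtype.ext
    show ctr q ((algebraMap F K c : K) : Matrix (Fin n) (Fin n) F) = ((algebraMap F K (c ^ q) : K) : Matrix (Fin n) (Fin n) F)
    have h1 : ∀ d : F, ((algebraMap F K d : K) : Matrix (Fin n) (Fin n) F) = d • (1 : Matrix (Fin n) (Fin n) F) := by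
      intro d
      rw [Subalgebra.coe_algebraMap, Algebra.algebraMap_eq_smul_one]
    rw [h1, h1, ctr_smul, ctr_one hF]
  have hodd : Odd (finrank F K) :=
    Cfsg.Agent.Lib.Helper30.AschUU3.odd_finrank_of_isField hF hKfield τ hτ hτF
  obtain ⟨r, hrp, hrs⟩ := Nat.exists_prime_and_dvd hs1
  have hrodd : Odd r := Odd.of_dvd_nat hodd hrs
  obtain ⟨Kr, hKrmem, hfield, hle⟩ :=
    Cfsg.Agent.Lib.Helper30.AschUU3.exists_subfield_of_prime_dvd H K hKfield hcomm hinv hnorm r hrs
  have hadj : IsAdjointClosedFor (hermForm n F q) Kr := by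
    intro k hk
    obtain ⟨hkK, hkN⟩ := (hKrmem k).mp hk
    refine ⟨ctr q k, (hKrmem _).mpr ⟨hstar k hkK, ?_⟩, fun u v => hermForm_mulVec_left hF k u v⟩
    rw [← ctr_pow hF, hkN]
  refine ⟨subalgebraNormalizer Kr ⊓ GU n F q, ?_, le_inf hle hH⟩
  exact Or.inr (Or.inl ⟨r, Kr, hrp, hrodd, hfield, hadj, rfl⟩)

end Cfsg.Agent.Lib.Helper20.AschU
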