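import Mathlib
import Cfsg.Agent.Lib.Helper30.BGAsymA
import Cfsg.Agent.Lib.Helper47.ShultFpp
import Cfsg.Agent.Lib.Helper96.BGFourteenTwoC
import Cfsg.Agent.Lib.Helper21.BGTwelveK
import Cfsg.Agent.S1405
import Cfsg.Agent.S1406
import Cfsg.Agent.S1409

/-!
# The asymmetry lemma (special case `Q = Q* = S` of Bender–Glauberman 13.8): one-sided analysis

`Side M D S P q p` records what one maximal subgroup `M` sees of the configuration
`M, M*` maximal and not conjugate, `D = M ∩ M*`, `S ∈ Syl_q(G)` with `N_G(S) ≤ D`, `p ∈ τ₁(M)`,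
`P ≤ N_G(S)` of order `p` with `C_S(P) = 1`, after Lemma 12.17(d1): `M = M_α D`, `α(M) = β(M)`,
`M_α ≠ 1`.

Main results of this file (`A := M_α`, `B := D ∩ A`):
* `Side.le_centralizer_S`: `S` centralizes `B`;
* `Side.key`: `S` does not centralize `Ω₁(C_T(P))` for an `SP`-invariant Sylow subgroup `T` of `A`;
* `Side.isCyclic_of_le_W`: the Sylow subgroups of `C_A(P)` are cyclic;
* `Side.CB_eq_bot`: `C_B(P) = 1`;
* `Side.W_ne_bot`: `C_A(P) ≠ 1`.
-/

set_option autoImplicit false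
set_option linter.unusedSectionVars false

namespace Cfsg.Agent.Lib.Helper30.BGAsym

open Cfsg
open Cfsg.Agent.Lib.Helper34 (UniquenessThm)

universe u

variable {G : Type u} [Group G] [Finite G]

/-- One side of the configuration of the asymmetry lemma. -/
structure Side (M D S P : Subgroup G) (q p : ℕ) : Prop where
  coatom : IsCoatom M
  hDM : D ≤ M
  hSD : S ≤ D
  hPD : P ≤ D
  hsup : ∀ m ∈ M, ∃ a ∈ alphaCore M, ∃ d ∈ D, m = a * d
  hne : alphaCore M ≠ ⊥
  hαβ : ∀ s ∈ alpha M, IsIdealPrime s G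
  hqσ : q ∈ sigma M
  hqα : q ∉ alpha M
  hp : p ∈ tau1 M
  hSq : IsPGroup q S
  hNS : Subgroup.normalizer (S : Set G) ≤ D
  hPc : Nat.card P = p
  hPS : P ≤ Subgroup.normalizer (S : Set G)
  hfix : S ⊓ Subgroup.centralizer (P : Set G) = ⊥
  hideal : ∀ (s : ℕ) (F : Subgroup G), IsIdealPrime s G → F ≤ D → IsElementaryAbelian s F →
    Nat.card F = s ^ 2 → False

/-- A subgroup of index prime to `t` controls the `t`-rank. -/
theorem pRankLE_of_not_dvd_relIndex {t k : ℕ} [Fact t.Prime] (M K : Subgroup G)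
    (hKM : K ≤ M) (hidx : ¬ t ∣ K.relIndex M) (h : PRankLE t k ↥K) : PRankLE t k ↥M := by
  obtain ⟨T⟩ : Nonempty (Sylow t ↥K) := inferInstance
  have hT'K : (T : Subgroup K).map K.subtype ≤ K := Subgroup.map_subtype_le _
  have hT'M : (T : Subgroup K).map K.subtype ≤ M := hT'K.trans hKM
  have hT't : IsPGroup t ((T : Subgroup K).map K.subtype) := T.isPGroup'.map _
  have hidx' : ¬ t ∣ ((T : Subgroup K).map K.subtype).relIndex M := by
    rw [← Subgroup.relIndex_mul_relIndex _ K M hT'K hKM]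
    intro hd
    rcases (Nat.Prime.dvd_mul Fact.out).mp hd with h1 | h1
    · apply T.not_dvd_index
      have e : ((T : Subgroup K).map K.subtype).relIndex K = (T : Subgroup K).index := by
        unfold Subgroup.relIndex Subgroup.subgroupOf
        rw [Subgroup.comap_map_eq_self_of_injective K.subtype_injective]
      rwa [e] at h1
    · exact hidx h1
  have hq' : IsPGroup t (((T : Subgroup K).map K.subtype).subgroupOf M) := hT't.comap_subtype
  obtain ⟨P, hP⟩ : ∃ P : Sylow t ↥M,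
      (P : Subgroup M) = ((T : Subgroup K).map K.subtype).subgroupOf M :=
    ⟨hq'.toSylow hidx', IsPGroup.toSylow_coe _ _⟩
  apply Cfsg.Agent.Lib.Helper54.pRankLE_of_sylow_rel M P
  rw [hP, Subgroup.map_subgroupOf_eq_of_le hT'M]
  exact Cfsg.Agent.Lib.Helper54.pRankLE_of_le hT'K h

namespace Side

variable {M D S P : Subgroup G} {q p : ℕ}

theorem p_prime (h : Side M D S P q p) : p.Prime := h.hp.1

theorem q_prime (h : Side M D S P q p) : q.Prime := h.hqσ.1

theorem p_ne_q (h : Side M D S P q p) : p ≠ q := fun e => h.hp.2.1 (e ▸ h.hqσ)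

theorem M_ne_top (h : Side M D S P q p) : M ≠ ⊤ := h.coatom.1

theorem hSM (h : Side M D S P q p) : S ≤ M := h.hSD.trans h.hDM

theorem hPM (h : Side M D S P q p) : P ≤ M := h.hPD.trans h.hDM

theorem alphaCore_le (_h : Side M D S P q p) : alphaCore M ≤ M := Subgroup.map_subtype_le _

theorem le_normalizer_alphaCore (_h : Side M D S P q p) :
    M ≤ Subgroup.normalizer ((alphaCore M : Subgroup G) : Set G) :=
  Cfsg.Agent.Lib.Helper54.le_normalizer_piCoreOf (alpha M) M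

theorem alphaCore_hall (h : Side M D S P q p) (hG : IsMinSimpleOddOrder G) :
    IsPiHallOf (alpha M) (alphaCore M) M :=
  (Cfsg.Agent.S1405.result hG M h.coatom).1

theorem alpha_subset_sigma (h : Side M D S P q p) (hG : IsMinSimpleOddOrder G) :
    alpha M ⊆ sigma M :=
  Cfsg.Agent.Lib.Helper50.alpha_subset_sigma hG
    (Cfsg.Agent.Lib.Helper54.uniqThree_of_uniquenessThm
      (Cfsg.Agent.Lib.Helper21.uniquenessThm_of hG)) M h.coatom

theorem p_not_alpha (h : Side M D S P q p) (hG : IsMinSimpleOddOrder G) : p ∉ alpha M :=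
  fun hp => h.hp.2.1 (h.alpha_subset_sigma hG hp)

/-- every `α(M)`-subgroup of `M` lies in `M_α` -/
theorem le_alphaCore (h : Side M D S P q p) (hG : IsMinSimpleOddOrder G) {X : Subgroup G}
    (hXM : X ≤ M) (hX : ∀ r : ℕ, r.Prime → r ∣ Nat.card X → r ∈ alpha M) : X ≤ alphaCore M :=
  Cfsg.Agent.Lib.Helper96.BG142.le_hall_of_normal (h.alphaCore_hall hG)
    h.le_normalizer_alphaCore hXM hX

theorem ne_two_of_dvd (hG : IsMinSimpleOddOrder G) {H : Subgroup G} {r : ℕ}
    (hr : r ∣ Nat.card H) : r ≠ 2 :=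
  Cfsg.Agent.Lib.Helper96.BG142.ne_two_of_dvd_card hG hr

theorem isPGroup_P (h : Side M D S P q p) : IsPGroup p P := by
  have : Fact p.Prime := ⟨h.p_prime⟩
  exact IsPGroup.of_card (n := 1) (by rw [pow_one]; exact h.hPc)

theorem P_ne_bot (h : Side M D S P q p) : P ≠ ⊥ := by
  intro e
  have := h.hPc
  rw [e, Subgroup.card_bot] at this
  exact h.p_prime.one_lt.ne this

/-- `|S|` is prime to `r` for every prime `r ≠ q` -/
theorem not_dvd_card_S (h : Side M D S P q p) {r : ℕ} (hr : r.Prime) (hrq : r ≠ q) :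
    ¬ r ∣ Nat.card S := by
  have : Fact q.Prime := ⟨h.q_prime⟩
  obtain ⟨n, hn⟩ := h.hSq.exists_card_eq
  rw [hn]
  intro hd
  exact hrq ((Nat.prime_dvd_prime_iff_eq hr h.q_prime).mp (hr.dvd_of_dvd_pow hd))

theorem comm_eq (h : Side M D S P q p) : ⁅S, P⁆ = S := by
  have : Fact p.Prime := ⟨h.p_prime⟩
  exact commutator_eq_of_inf_centralizer_eq_bot h.isPGroup_P
    (h.not_dvd_card_S h.p_prime h.p_ne_q) h.hPS h.hfix

theorem card_SP (h : Side M D S P q p) :
    Nat.card (S ⊔ P : Subgroup G) = Nat.card S * p := by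
  have hdisj : S ⊓ P = ⊥ := by
    have : Fact p.Prime := ⟨h.p_prime⟩
    have : Fact q.Prime := ⟨h.q_prime⟩
    exact disjoint_iff.mp
      (IsPGroup.disjoint_of_ne q p (Ne.symm h.p_ne_q) S P h.hSq h.isPGroup_P)
  rw [Cfsg.Agent.Lib.Helper54.card_sup_of_le_normalizer h.hPS hdisj, h.hPc]

theorem SP_le_D (h : Side M D S P q p) : S ⊔ P ≤ D := sup_le h.hSD h.hPD

theorem SP_solvable (h : Side M D S P q p) (hG : IsMinSimpleOddOrder G) :
    Group.IsSolvable (S ⊔ P : Subgroup G) :=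
  hG.2.2.2 _ (fun e => h.M_ne_top (top_le_iff.mp (e ▸ h.SP_le_D.trans h.hDM)))

/-- `|SP|` is prime to `|X|` for every `α(M)`-group `X` -/
theorem coprime_SP (h : Side M D S P q p) (hG : IsMinSimpleOddOrder G) {X : Subgroup G}
    (hX : ∀ r : ℕ, r.Prime → r ∣ Nat.card X → r ∈ alpha M) :
    (Nat.card (S ⊔ P : Subgroup G)).Coprime (Nat.card X) := by
  rw [h.card_SP]
  apply Nat.Coprime.symm
  apply Nat.coprime_of_dvd
  intro r hr hrX hrSP
  have hrα := hX r hr hrX
  rcases (Nat.Prime.dvd_mul hr).mp hrSP with h1 | h1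
  · by_cases hrq : r = q
    · exact h.hqα (hrq ▸ hrα)
    · exact h.not_dvd_card_S hr hrq h1
  · have : r = p := (Nat.prime_dvd_prime_iff_eq hr h.p_prime).mp h1
    exact h.p_not_alpha hG (this ▸ hrα)

theorem alphaCore_pi (h : Side M D S P q p) (hG : IsMinSimpleOddOrder G) :
    ∀ r : ℕ, r.Prime → r ∣ Nat.card (alphaCore M) → r ∈ alpha M :=
  (h.alphaCore_hall hG).2.1

theorem pi_of_le_alphaCore (h : Side M D S P q p) (hG : IsMinSimpleOddOrder G) {X : Subgroup G}
    (hX : X ≤ alphaCore M) : ∀ r : ℕ, r.Prime → r ∣ Nat.card X → r ∈ alpha M :=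
  fun r hr hd => h.alphaCore_pi hG r hr (hd.trans (Subgroup.card_dvd_of_le hX))

theorem SP_le_normalizer_alphaCore (h : Side M D S P q p) :
    S ⊔ P ≤ Subgroup.normalizer ((alphaCore M : Subgroup G) : Set G) :=
  (h.SP_le_D.trans h.hDM).trans h.le_normalizer_alphaCore

theorem SP_le_normalizer_B (h : Side M D S P q p) :
    S ⊔ P ≤ Subgroup.normalizer ((D ⊓ alphaCore M : Subgroup G) : Set G) :=
  Cfsg.Agent.Lib.Helper54.le_normalizer_inf (h.SP_le_D.trans Subgroup.le_normalizer)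
    h.SP_le_normalizer_alphaCore

/-- `s`-subgroups of `B = D ∩ M_α` are cyclic -/
theorem isCyclic_of_le_B (h : Side M D S P q p) (hG : IsMinSimpleOddOrder G) {s : ℕ}
    [Fact s.Prime] {Q : Subgroup G} (hQB : Q ≤ D ⊓ alphaCore M) (hQ : IsPGroup s Q) :
    IsCyclic Q := by
  have hs : s.Prime := Fact.out
  by_cases hQ1 : Q = ⊥
  · rw [hQ1]; infer_instance
  have hsQ : s ∣ Nat.card Q := Cfsg.Agent.Lib.Helper34.dvd_card_of_isPGroup_ne_bot hQ hQ1
  have hsα : s ∈ alpha M := h.pi_of_le_alphaCore hG (hQB.trans inf_le_right) s hs hsQ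
  have hs2 : s ≠ 2 := ne_two_of_dvd hG hsQ
  by_contra hnc
  have hr : ¬ PRankLE s 1 ↥Q := fun hr =>
    hnc (Cfsg.Agent.Lib.Helper97.BGTwelve.isCyclic_of_pRankLE_one hs2 Q hQ hr)
  obtain ⟨F, hFQ, hFe, hFc⟩ :=
    Cfsg.Agent.Lib.Helper97.BGTwelve.exists_elemAb_sq_of_not_pRankLE_one Q hr
  exact h.hideal s F (h.hαβ s hsα) ((hFQ.trans hQB).trans inf_le_left) hFe hFc

/-- `S` centralizes `B = D ∩ M_α` -/
theorem le_centralizer_S (h : Side M D S P q p) (hG : IsMinSimpleOddOrder G) :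
    D ⊓ alphaCore M ≤ Subgroup.centralizer (S : Set G) := by
  apply le_of_forall_exists_sylow_le
  intro s _
  have hpi : ∀ r : ℕ, r.Prime → r ∣ Nat.card (D ⊓ alphaCore M : Subgroup G) → r ∈ alpha M :=
    h.pi_of_le_alphaCore hG inf_le_right
  obtain ⟨T, hT⟩ := Cfsg.Agent.Lib.Helper54.exists_invariant_sylow (S ⊔ P) (D ⊓ alphaCore M)
    h.SP_le_normalizer_B (h.coprime_SP hG hpi) (Or.inl (h.SP_solvable hG)) s
  refine ⟨T, ?_⟩
  have hcyc : IsCyclic ((T : Subgroup ↥(D ⊓ alphaCore M)).map (D ⊓ alphaCore M).subtype) :=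
    h.isCyclic_of_le_B hG (Subgroup.map_subtype_le _) (T.2.map _)
  have h1 := commutator_le_centralizer_of_isCyclic hcyc (le_sup_left.trans hT)
    (le_sup_right.trans hT)
  rw [h.comm_eq] at h1
  exact Subgroup.le_centralizer_iff.mp h1

/-- **Key step.**  For an `SP`-invariant Sylow `s`-subgroup `T` of `M_α`, `S` does not centralize all
elements of order dividing `s` of `C_T(P)`. -/
theorem key (h : Side M D S P q p) (hG : IsMinSimpleOddOrder G) {s : ℕ} [Fact s.Prime]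
    (hsα : s ∈ alpha M) (T : Sylow s ↥(alphaCore M))
    (hT : S ⊔ P ≤ Subgroup.normalizer
      (((T : Subgroup ↥(alphaCore M)).map (alphaCore M).subtype : Subgroup G) : Set G))
    (hom : ∀ x ∈ (T : Subgroup ↥(alphaCore M)).map (alphaCore M).subtype ⊓
      Subgroup.centralizer (P : Set G), x ^ s = 1 → x ∈ Subgroup.centralizer (S : Set G)) :
    False := by
  have hs : s.Prime := Fact.out
  have hT'A : (T : Subgroup ↥(alphaCore M)).map (alphaCore M).subtype ≤ alphaCore M :=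
    Subgroup.map_subtype_le _
  have hT's : IsPGroup s ((T : Subgroup ↥(alphaCore M)).map (alphaCore M).subtype) := T.2.map _
  have hsM : s ∣ Nat.card M := (h.alpha_subset_sigma hG hsα).2.1
  have hs2 : s ≠ 2 := ne_two_of_dvd hG hsM
  have hq2 : q ≠ 2 := ne_two_of_dvd hG h.hqσ.2.1
  have hsq : s ≠ q := fun e => h.hqα (e ▸ hsα)
  have hsp : s ≠ p := fun e => h.p_not_alpha hG (e ▸ hsα)
  have hST : S ≤ Subgroup.centralizer
      (((T : Subgroup ↥(alphaCore M)).map (alphaCore M).subtype : Subgroup G) : Set G) :=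
    Cfsg.Agent.Lib.Helper47.shult_centralizes_core hs h.q_prime h.p_prime hs2 hq2 hsq hsp
      (Ne.symm h.p_ne_q) _ S P hT's h.hSq h.hPc h.hPS (le_sup_left.trans hT)
      (le_sup_right.trans hT) h.comm_eq hom
  have hTS : (T : Subgroup ↥(alphaCore M)).map (alphaCore M).subtype ≤
      Subgroup.centralizer (S : Set G) := Subgroup.le_centralizer_iff.mp hST
  have hTD : (T : Subgroup ↥(alphaCore M)).map (alphaCore M).subtype ≤ D :=
    (hTS.trans (Subgroup.centralizer_le_normalizer _)).trans h.hNS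
  have hcyc : IsCyclic ((T : Subgroup ↥(alphaCore M)).map (alphaCore M).subtype) :=
    h.isCyclic_of_le_B hG (le_inf hTD hT'A) hT's
  apply hsα.2
  have h1 : PRankLE s 1 ↥((T : Subgroup ↥(alphaCore M)).map (alphaCore M).subtype) :=
    Cfsg.Agent.Lib.Helper24.pRankLE_one_of_isCyclic s hs.pos hcyc
  have h2 : PRankLE s 2 ↥((T : Subgroup ↥(alphaCore M)).map (alphaCore M).subtype) :=
    fun A hc he => (h1 A hc he).trans (Nat.pow_le_pow_right hs.pos (by norm_num))
  have h3 : PRankLE s 2 ↥(alphaCore M) := Cfsg.Agent.Lib.Helper54.pRankLE_of_sylow_rel _ T h2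
  exact pRankLE_of_not_dvd_relIndex M (alphaCore M) h.alphaCore_le
    ((h.alphaCore_hall hG).2.2 s hs hsα) h3

theorem normalizer_P_not_le (h : Side M D S P q p) (hG : IsMinSimpleOddOrder G) :
    ¬ Subgroup.normalizer (P : Set G) ≤ M := by
  intro hN
  have : Fact p.Prime := ⟨h.p_prime⟩
  exact (Cfsg.Agent.S1409.result hG M h.coatom p h.hp.2.1 P h.hPc hN).1.2 h.hp.2.2.2.2

theorem P_ne_top (h : Side M D S P q p) : P ≠ ⊤ :=
  fun e => h.M_ne_top (top_le_iff.mp (e ▸ h.hPM))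

/-- the Sylow subgroups of `C_{M_α}(P)` are cyclic -/
theorem isCyclic_of_le_W (h : Side M D S P q p) (hG : IsMinSimpleOddOrder G) {s : ℕ}
    [Fact s.Prime] {Q : Subgroup G}
    (hQW : Q ≤ alphaCore M ⊓ Subgroup.centralizer (P : Set G)) (hQ : IsPGroup s Q) :
    IsCyclic Q := by
  have hs : s.Prime := Fact.out
  by_cases hQ1 : Q = ⊥
  · rw [hQ1]; infer_instance
  have hsQ : s ∣ Nat.card Q := Cfsg.Agent.Lib.Helper34.dvd_card_of_isPGroup_ne_bot hQ hQ1
  have hs2 : s ≠ 2 := ne_two_of_dvd hG hsQ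
  by_contra hnc
  have hr : ¬ PRankLE s 1 ↥Q := fun hr =>
    hnc (Cfsg.Agent.Lib.Helper97.BGTwelve.isCyclic_of_pRankLE_one hs2 Q hQ hr)
  have hr' : ¬ RankLE 1 ↥(alphaCore M ⊓ Subgroup.centralizer (P : Set G)) := fun hR =>
    hr (Cfsg.Agent.Lib.Helper54.pRankLE_of_le hQW (hR s hs))
  have hPα : ∀ r : ℕ, r.Prime → r ∣ Nat.card P → r ∉ alpha M := by
    intro r hr hd
    rw [h.hPc] at hd
    have : r = p := (Nat.prime_dvd_prime_iff_eq hr h.p_prime).mp hd
    rw [this]
    exact h.p_not_alpha hG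
  obtain ⟨M0, -, huni⟩ := Cfsg.Agent.S1406.result hG M h.coatom P h.hPM hPα hr'
  have hNtop : Subgroup.normalizer (P : Set G) ≠ ⊤ :=
    Cfsg.Agent.Lib.Helper54.normalizer_ne_top_of_simple hG.2.1 h.P_ne_bot h.P_ne_top
  obtain ⟨L, hL, hNL⟩ := Cfsg.Agent.Lib.Helper54.exists_isCoatom_ge hNtop
  have h1 : M = M0 := huni M ⟨h.coatom, inf_le_left⟩
  have h2 : L = M0 :=
    huni L ⟨hL, (inf_le_right.trans (Subgroup.centralizer_le_normalizer _)).trans hNL⟩
  apply h.normalizer_P_not_le hG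
  rw [h1, ← h2]
  exact hNL

/-- `C_B(P) = 1` -/
theorem CB_eq_bot (h : Side M D S P q p) (hG : IsMinSimpleOddOrder G) :
    D ⊓ alphaCore M ⊓ Subgroup.centralizer (P : Set G) = ⊥ := by
  by_contra hne
  obtain ⟨⟨z, hz⟩, hz1⟩ := (Subgroup.ne_bot_iff_exists_ne_one).mp hne
  have hz1' : z ≠ 1 := fun e => hz1 (Subtype.ext e)
  obtain ⟨s, X, hs, hXc, hXle, -, -, hXs⟩ :=
    Cfsg.Agent.Lib.Helper96.BG142.exists_prime_card_le hz hz1'
  have : Fact s.Prime := ⟨hs⟩
  have hXB : X ≤ D ⊓ alphaCore M := hXle.trans inf_le_left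
  have hXP : X ≤ Subgroup.centralizer (P : Set G) := hXle.trans inf_le_right
  have hXA : X ≤ alphaCore M := hXB.trans inf_le_right
  have hsα : s ∈ alpha M := h.pi_of_le_alphaCore hG hXA s hs (by rw [hXc])
  have hXS : X ≤ Subgroup.centralizer (S : Set G) := hXB.trans (h.le_centralizer_S hG)
  have hSPX : S ⊔ P ≤ Subgroup.normalizer (X : Set G) := by
    apply sup_le
    · exact (Subgroup.le_centralizer_iff.mp hXS).trans (Subgroup.centralizer_le_normalizer _)
    · exact (Subgroup.le_centralizer_iff.mp hXP).trans (Subgroup.centralizer_le_normalizer _)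
  obtain ⟨T, hXT, hT⟩ := Cfsg.Agent.Lib.Helper54.exists_invariant_sylow_ge (S ⊔ P) (alphaCore M)
    h.SP_le_normalizer_alphaCore (h.coprime_SP hG (h.alphaCore_pi hG))
    (Or.inl (h.SP_solvable hG)) s X hXA hXs hSPX
  apply h.key hG hsα T hT
  intro x hx hxs
  by_cases hx1 : x = 1
  · rw [hx1]; exact Subgroup.one_mem _
  have hcyc : IsCyclic ↥((T : Subgroup ↥(alphaCore M)).map (alphaCore M).subtype ⊓
      Subgroup.centralizer (P : Set G)) :=
    h.isCyclic_of_le_W hG (inf_le_inf_right _ (Subgroup.map_subtype_le _))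
      ((T.2.map _).to_le inf_le_left)
  have hxo : orderOf x = s := orderOf_eq_prime hxs hx1
  have hzx : Subgroup.zpowers x = X :=
    Cfsg.Agent.Lib.Helper82.NilAbel.eq_of_card_eq_of_le_cyclic hcyc
      ((Subgroup.zpowers_le).mpr hx) (le_inf hXT hXP) (by rw [Nat.card_zpowers, hxo, hXc])
  have hxX : x ∈ X := hzx ▸ Subgroup.mem_zpowers x
  exact hXS hxX

/-- `C_{M_α}(P) ≠ 1` -/
theorem W_ne_bot (h : Side M D S P q p) (hG : IsMinSimpleOddOrder G) :
    alphaCore M ⊓ Subgroup.centralizer (P : Set G) ≠ ⊥ := by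
  intro hW
  have hA1 : Nat.card (alphaCore M) ≠ 1 := fun e => h.hne (Subgroup.card_eq_one.mp e)
  obtain ⟨s, hs, hsd⟩ := Nat.exists_prime_and_dvd hA1
  have : Fact s.Prime := ⟨hs⟩
  have hsα := h.alphaCore_pi hG s hs hsd
  obtain ⟨T, hT⟩ := Cfsg.Agent.Lib.Helper54.exists_invariant_sylow (S ⊔ P) (alphaCore M)
    h.SP_le_normalizer_alphaCore (h.coprime_SP hG (h.alphaCore_pi hG))
    (Or.inl (h.SP_solvable hG)) s
  apply h.key hG hsα T hT
  intro x hx _
  have hxW : x ∈ alphaCore M ⊓ Subgroup.centralizer (P : Set G) :=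
    ⟨Subgroup.map_subtype_le _ hx.1, hx.2⟩
  rw [hW, Subgroup.mem_bot] at hxW
  rw [hxW]
  exact Subgroup.one_mem _

end Side

end Cfsg.Agent.Lib.Helper30.BGAsym
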