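import Mathlib
import Cfsg.Agent.Lib.Helper30.BGAsymB
import Cfsg.Agent.Lib.Helper97.CoprimeQuot
import Cfsg.Agent.S1423

/-!
# The asymmetry lemma: one-sided analysis, continued

With `A := M_α`, `W := C_A(P)`, `Ñ := C_D(P)`:
* `Side.exists_decomp`: `C_M(P) = W Ñ` (fixed points lift through `M = A D`);
* `Side.card_CM`: `|C_M(P)| = |W| |Ñ|`;
* `Side.normalizer_le`: `N_G(X) ≤ M` for `X ≤ A` of prime order (S1423);
* `Side.sylow_W_max`: a Sylow subgroup of `W` is a Sylow subgroup of `C_G(P)`.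
-/

set_option autoImplicit false
set_option linter.unusedSectionVars false

namespace Cfsg.Agent.Lib.Helper30.BGAsym

open Cfsg

universe u

variable {G : Type u} [Group G] [Finite G]

/-- Relative form of `Helper97.exists_mul_mem_centralizer_of_coprime_normal` (as in
`Helper31.exists_mul_mem_centralizer_of_le_normalizer`): `V` a `p`-subgroup and `g` an element, both
normalizing the `p'`-subgroup `N`, with `[g, v] ∈ N` for all `v ∈ V`; then `n g` centralizes `V` for some
`n ∈ N`. -/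
theorem exists_mul_mem_centralizer_rel {p : ℕ} [Fact p.Prime]
    {V N : Subgroup G} (hV : IsPGroup p V) (hN : (Nat.card N).Coprime p)
    (hVN : V ≤ Subgroup.normalizer (N : Set G)) {g : G}
    (hgN : g ∈ Subgroup.normalizer (N : Set G))
    (hg : ∀ v ∈ V, g * v * g⁻¹ * v⁻¹ ∈ N) :
    ∃ n ∈ N, n * g ∈ Subgroup.centralizer (V : Set G) := by
  obtain ⟨H, hH⟩ : ∃ H : Subgroup G, H = Subgroup.normalizer (N : Set G) := ⟨_, rfl⟩
  have hNH : N ≤ H := by rw [hH]; exact Subgroup.le_normalizer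
  have hVH : V ≤ H := by rw [hH]; exact hVN
  have hgH : g ∈ H := by rw [hH]; exact hgN
  have hNn : (N.subgroupOf H).Normal := by rw [hH]; exact Subgroup.normal_in_normalizer
  have hV' : IsPGroup p (V.subgroupOf H) := hV.of_equiv (Subgroup.subgroupOfEquivOfLe hVH).symm
  have hN' : (Nat.card (N.subgroupOf H)).Coprime p := by
    rw [Nat.card_congr (Subgroup.subgroupOfEquivOfLe hNH).toEquiv]
    exact hN
  have hg' : ∀ v ∈ V.subgroupOf H, (⟨g, hgH⟩ : ↥H) * v * (⟨g, hgH⟩ : ↥H)⁻¹ * v⁻¹ ∈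
      N.subgroupOf H := by
    intro v hv
    rw [Subgroup.mem_subgroupOf]
    exact hg (v : G) hv
  obtain ⟨n, hn, hc⟩ :=
    Cfsg.Agent.Lib.Helper97.exists_mul_mem_centralizer_of_coprime_normal hV' hN' hg'
  refine ⟨(n : G), hn, ?_⟩
  rw [Subgroup.mem_centralizer_iff] at hc ⊢
  intro v hv
  have := hc ⟨v, hVH hv⟩ (by rw [SetLike.mem_coe, Subgroup.mem_subgroupOf]; exact hv)
  exact congrArg Subtype.val this

namespace Side

variable {M D S P : Subgroup G} {q p : ℕ}

theorem D_le_normalizer_B (h : Side M D S P q p) :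
    D ≤ Subgroup.normalizer ((D ⊓ alphaCore M : Subgroup G) : Set G) :=
  Cfsg.Agent.Lib.Helper54.le_normalizer_inf Subgroup.le_normalizer
    (h.hDM.trans h.le_normalizer_alphaCore)

theorem not_dvd_card_of_le_alphaCore (h : Side M D S P q p) (hG : IsMinSimpleOddOrder G)
    {X : Subgroup G} (hX : X ≤ alphaCore M) : ¬ p ∣ Nat.card X :=
  fun hd => h.p_not_alpha hG (h.pi_of_le_alphaCore hG hX p h.p_prime hd)

/-- fixed points of `P` lift through `M = M_α D`: `C_M(P) = C_{M_α}(P) C_D(P)` -/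
theorem exists_decomp (h : Side M D S P q p) (hG : IsMinSimpleOddOrder G) {x : G} (hxM : x ∈ M)
    (hxP : x ∈ Subgroup.centralizer (P : Set G)) :
    ∃ w ∈ alphaCore M ⊓ Subgroup.centralizer (P : Set G),
      ∃ n ∈ D ⊓ Subgroup.centralizer (P : Set G), x = w * n := by
  have : Fact p.Prime := ⟨h.p_prime⟩
  obtain ⟨a, ha, d, hd, rfl⟩ := h.hsup x hxM
  have hcop : (Nat.card (D ⊓ alphaCore M : Subgroup G)).Coprime p :=
    ((Nat.Prime.coprime_iff_not_dvd h.p_prime).mpr
      (h.not_dvd_card_of_le_alphaCore hG inf_le_right)).symm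
  have hg : ∀ v ∈ P, d * v * d⁻¹ * v⁻¹ ∈ D ⊓ alphaCore M := by
    intro v hv
    have hvD : v ∈ D := h.hPD hv
    refine ⟨D.mul_mem (D.mul_mem (D.mul_mem hd hvD) (D.inv_mem hd)) (D.inv_mem hvD), ?_⟩
    have hcomm : v * (a * d) = a * d * v := Subgroup.mem_centralizer_iff.mp hxP v hv
    have e : d * v * d⁻¹ * v⁻¹ = a⁻¹ * (v * a * v⁻¹) := by
      calc d * v * d⁻¹ * v⁻¹ = a⁻¹ * (a * d * v) * d⁻¹ * v⁻¹ := by group
        _ = a⁻¹ * (v * (a * d)) * d⁻¹ * v⁻¹ := by rw [hcomm]
        _ = a⁻¹ * (v * a * v⁻¹) := by group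
    rw [e]
    refine (alphaCore M).mul_mem ((alphaCore M).inv_mem ha) ?_
    exact (Subgroup.mem_normalizer_iff.mp (h.le_normalizer_alphaCore (h.hPM hv)) a).mp ha
  obtain ⟨n, hn, hnd⟩ :=
    exists_mul_mem_centralizer_rel (p := p) h.isPGroup_P hcop
      (le_sup_right.trans h.SP_le_normalizer_B) (h.D_le_normalizer_B hd) hg
  have hw : a * n⁻¹ ∈ Subgroup.centralizer (P : Set G) := by
    have e : a * n⁻¹ = a * d * (n * d)⁻¹ := by group
    rw [e]
    exact Subgroup.mul_mem _ hxP (Subgroup.inv_mem _ hnd)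
  refine ⟨a * n⁻¹, ⟨(alphaCore M).mul_mem ha ((alphaCore M).inv_mem hn.2), hw⟩, n * d,
    ⟨D.mul_mem hn.1 hd, hnd⟩, by group⟩

theorem W_inf_N (h : Side M D S P q p) (hG : IsMinSimpleOddOrder G) :
    (alphaCore M ⊓ Subgroup.centralizer (P : Set G)) ⊓ (D ⊓ Subgroup.centralizer (P : Set G)) =
      ⊥ := by
  rw [eq_bot_iff, ← h.CB_eq_bot hG]
  rintro x ⟨⟨h1, h2⟩, ⟨h3, -⟩⟩
  exact ⟨⟨h3, h1⟩, h2⟩

theorem N_le_normalizer_W (h : Side M D S P q p) :
    D ⊓ Subgroup.centralizer (P : Set G) ≤ Subgroup.normalizer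
      ((alphaCore M ⊓ Subgroup.centralizer (P : Set G) : Subgroup G) : Set G) :=
  Cfsg.Agent.Lib.Helper54.le_normalizer_inf
    ((inf_le_left.trans h.hDM).trans h.le_normalizer_alphaCore)
    (inf_le_right.trans Subgroup.le_normalizer)

/-- `|C_M(P)| = |C_{M_α}(P)| |C_D(P)|` -/
theorem card_CM (h : Side M D S P q p) (hG : IsMinSimpleOddOrder G) :
    Nat.card (M ⊓ Subgroup.centralizer (P : Set G) : Subgroup G) =
      Nat.card (alphaCore M ⊓ Subgroup.centralizer (P : Set G) : Subgroup G) *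
        Nat.card (D ⊓ Subgroup.centralizer (P : Set G) : Subgroup G) := by
  rw [← Cfsg.Agent.Lib.Helper54.card_sup_of_le_normalizer h.N_le_normalizer_W (h.W_inf_N hG)]
  congr 2
  apply le_antisymm
  · rintro x ⟨hxM, hxP⟩
    obtain ⟨w, hw, n, hn, rfl⟩ := h.exists_decomp hG hxM hxP
    exact Subgroup.mul_mem _ (Subgroup.mem_sup_left hw) (Subgroup.mem_sup_right hn)
  · exact sup_le (inf_le_inf_right _ h.alphaCore_le) (inf_le_inf_right _ h.hDM)

/-- the normalizer of a subgroup of prime order of `M_α` lies in `M` -/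
theorem normalizer_le (h : Side M D S P q p) (hG : IsMinSimpleOddOrder G) {r : ℕ} [Fact r.Prime]
    {X : Subgroup G} (hXA : X ≤ alphaCore M) (hXc : Nat.card X = r) :
    Subgroup.normalizer (X : Set G) ≤ M := by
  have hr : r.Prime := Fact.out
  have hrα : r ∈ alpha M := h.pi_of_le_alphaCore hG hXA r hr (by rw [hXc])
  have hrσ : r ∈ sigma M := h.alpha_subset_sigma hG hrα
  have hXM : X ≤ M := hXA.trans h.alphaCore_le
  obtain ⟨R⟩ : Nonempty (Sylow r ↥(sigmaCore M)) := inferInstance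
  obtain ⟨⟨-, huni⟩, -⟩ := Cfsg.Agent.S1423.result hG M h.coatom r hrσ X hXM hXc R
    (Or.inl ⟨hrα, h.hαβ r hrα⟩)
  have hX1 : X ≠ ⊥ := by
    intro e
    rw [e, Subgroup.card_bot] at hXc
    exact hr.one_lt.ne hXc
  have hXtop : X ≠ ⊤ := fun e => h.M_ne_top (top_le_iff.mp (e ▸ hXM))
  have hNtop : Subgroup.normalizer (X : Set G) ≠ ⊤ :=
    Cfsg.Agent.Lib.Helper54.normalizer_ne_top_of_simple hG.2.1 hX1 hXtop
  obtain ⟨L, hL, hNL⟩ := Cfsg.Agent.Lib.Helper54.exists_isCoatom_ge hNtop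
  have hLM : L = M := huni L hL ((Subgroup.centralizer_le_normalizer _).trans hNL)
  rw [← hLM]
  exact hNL

/-- **Step 1.**  A nontrivial Sylow `r`-subgroup of `W = C_{M_α}(P)` is a maximal `r`-subgroup of
`C_G(P)`. -/
theorem sylow_W_max (h : Side M D S P q p) (hG : IsMinSimpleOddOrder G) {r : ℕ} [Fact r.Prime]
    (R : Sylow r ↥(alphaCore M ⊓ Subgroup.centralizer (P : Set G)))
    (X : Subgroup G)
    (hXR : X ≤ (R : Subgroup ↥(alphaCore M ⊓ Subgroup.centralizer (P : Set G))).map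
      (alphaCore M ⊓ Subgroup.centralizer (P : Set G)).subtype)
    (hXc : Nat.card X = r)
    (Y : Subgroup G) (hY : IsPGroup r Y)
    (hRY : (R : Subgroup ↥(alphaCore M ⊓ Subgroup.centralizer (P : Set G))).map
      (alphaCore M ⊓ Subgroup.centralizer (P : Set G)).subtype ≤ Y)
    (hYC : Y ≤ Subgroup.centralizer (P : Set G)) :
    Y = (R : Subgroup ↥(alphaCore M ⊓ Subgroup.centralizer (P : Set G))).map
      (alphaCore M ⊓ Subgroup.centralizer (P : Set G)).subtype := by
  have hr : r.Prime := Fact.out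
  have hR'W : (R : Subgroup ↥(alphaCore M ⊓ Subgroup.centralizer (P : Set G))).map
      (alphaCore M ⊓ Subgroup.centralizer (P : Set G)).subtype ≤
        alphaCore M ⊓ Subgroup.centralizer (P : Set G) := Subgroup.map_subtype_le _
  have hR'r : IsPGroup r ((R : Subgroup ↥(alphaCore M ⊓ Subgroup.centralizer (P : Set G))).map
      (alphaCore M ⊓ Subgroup.centralizer (P : Set G)).subtype) := R.2.map _
  have hcyc : IsCyclic ((R : Subgroup ↥(alphaCore M ⊓ Subgroup.centralizer (P : Set G))).map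
      (alphaCore M ⊓ Subgroup.centralizer (P : Set G)).subtype) :=
    h.isCyclic_of_le_W hG hR'W hR'r
  have hXA : X ≤ alphaCore M := (hXR.trans hR'W).trans inf_le_left
  have hrα : r ∈ alpha M := h.pi_of_le_alphaCore hG hXA r hr (by rw [hXc])
  symm
  apply Cfsg.Agent.Lib.Helper54.eq_of_inf_normalizer_le Y _ hY hRY
  -- `Z := N_Y(R')` is an `r`-subgroup of `W` containing `R'`
  have hZW : Y ⊓ Subgroup.normalizer
      (((R : Subgroup ↥(alphaCore M ⊓ Subgroup.centralizer (P : Set G))).map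
        (alphaCore M ⊓ Subgroup.centralizer (P : Set G)).subtype : Subgroup G) : Set G) ≤
      alphaCore M ⊓ Subgroup.centralizer (P : Set G) := by
    rintro y ⟨hyY, hyN⟩
    have hyX : y ∈ Subgroup.normalizer (X : Set G) :=
      Cfsg.Agent.Lib.Helper82.NilAbel.mem_normalizer_of_le_cyclic hcyc hXR hyN
    have hyM : y ∈ M := h.normalizer_le hG hXA hXc hyX
    have hzy : Subgroup.zpowers y ≤ alphaCore M := by
      apply h.le_alphaCore hG ((Subgroup.zpowers_le).mpr hyM)
      intro t ht htd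
      have hzr : IsPGroup r (Subgroup.zpowers y) := hY.to_le ((Subgroup.zpowers_le).mpr hyY)
      obtain ⟨k, hk⟩ := hzr.exists_card_eq
      rw [hk] at htd
      have : t = r := (Nat.prime_dvd_prime_iff_eq ht hr).mp (ht.dvd_of_dvd_pow htd)
      rw [this]
      exact hrα
    exact ⟨hzy (Subgroup.mem_zpowers y), hYC hyY⟩
  have hZr : IsPGroup r ((Y ⊓ Subgroup.normalizer
      (((R : Subgroup ↥(alphaCore M ⊓ Subgroup.centralizer (P : Set G))).map
        (alphaCore M ⊓ Subgroup.centralizer (P : Set G)).subtype : Subgroup G) : Set G) :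
        Subgroup G).subgroupOf (alphaCore M ⊓ Subgroup.centralizer (P : Set G))) :=
    (hY.to_le inf_le_left).comap_subtype
  have hRZ : (R : Subgroup ↥(alphaCore M ⊓ Subgroup.centralizer (P : Set G))) ≤
      (Y ⊓ Subgroup.normalizer
      (((R : Subgroup ↥(alphaCore M ⊓ Subgroup.centralizer (P : Set G))).map
        (alphaCore M ⊓ Subgroup.centralizer (P : Set G)).subtype : Subgroup G) : Set G) :
        Subgroup G).subgroupOf (alphaCore M ⊓ Subgroup.centralizer (P : Set G)) := by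
    intro x hx
    rw [Subgroup.mem_subgroupOf]
    have hx' : (x : G) ∈ (R : Subgroup ↥(alphaCore M ⊓ Subgroup.centralizer (P : Set G))).map
        (alphaCore M ⊓ Subgroup.centralizer (P : Set G)).subtype := ⟨x, hx, rfl⟩
    exact ⟨hRY hx', Subgroup.le_normalizer hx'⟩
  have hmax := R.is_maximal' hZr hRZ
  intro y hy
  have hyW := hZW hy
  have : (⟨y, hyW⟩ : ↥(alphaCore M ⊓ Subgroup.centralizer (P : Set G))) ∈
      (R : Subgroup ↥(alphaCore M ⊓ Subgroup.centralizer (P : Set G))) := by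
    rw [← hmax, Subgroup.mem_subgroupOf]
    exact hy
  exact ⟨⟨y, hyW⟩, this, rfl⟩

end Side

end Cfsg.Agent.Lib.Helper30.BGAsym
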