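import Mathlib
import Cfsg.Agent.Lib.Helper1.HallDom
import Cfsg.Agent.Lib.Helper82.NilAbelCyclic
import Cfsg.Agent.Lib.Helper30.BGAsymA

/-!
# Two cyclic Sylow subgroups of a solvable group

`exists_normalizer_of_lt`: in a finite solvable group `C` with nontrivial cyclic Sylow `r`- and
`s`-subgroups, `r < s`, some subgroup `X` of order `s` has `r ∣ |N_C(X)|`
(a Hall `{r, s}`-subgroup `T` has a normal `r`-complement by Burnside's theorem for the smallest prime,
and the subgroup of order `s` of that cyclic complement is normal in `T`).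
-/

set_option autoImplicit false

namespace Cfsg.Agent.Lib.Helper30.BGAsym

theorem exists_normalizer_of_lt {C : Type*} [Group C] [Finite C] [Group.IsSolvable C] {r s : ℕ}
    [hr : Fact r.Prime] [hs : Fact s.Prime] (hrs : r < s)
    (R : Sylow r C) (Q : Sylow s C) (hR : IsCyclic (R : Subgroup C))
    (hQ : IsCyclic (Q : Subgroup C))
    (hR1 : (R : Subgroup C) ≠ ⊥) (hQ1 : (Q : Subgroup C) ≠ ⊥) :
    ∃ X : Subgroup C, Nat.card X = s ∧ r ∣ Nat.card (Subgroup.normalizer (X : Set C)) := by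
  classical
  obtain ⟨a, ha⟩ : ∃ a, a = (Nat.card C).factorization r := ⟨_, rfl⟩
  obtain ⟨b, hb⟩ : ∃ b, b = (Nat.card C).factorization s := ⟨_, rfl⟩
  have hRc : Nat.card (R : Subgroup C) = r ^ a := by rw [ha]; exact R.card_eq_multiplicity
  have hQc : Nat.card (Q : Subgroup C) = s ^ b := by rw [hb]; exact Q.card_eq_multiplicity
  have ha0 : a ≠ 0 := by
    intro h0
    rw [h0, pow_zero] at hRc
    exact hR1 (Subgroup.card_eq_one.mp hRc)
  have hb0 : b ≠ 0 := by
    intro h0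
    rw [h0, pow_zero] at hQc
    exact hQ1 (Subgroup.card_eq_one.mp hQc)
  have hrs' : r ≠ s := hrs.ne
  have hcop : (r ^ a).Coprime (s ^ b) :=
    Nat.Coprime.pow _ _ ((Nat.coprime_primes hr.out hs.out).mpr hrs')
  have hm : r ^ a * s ^ b ∣ Nat.card C :=
    hcop.mul_dvd_of_dvd_of_dvd (ha ▸ Nat.ordProj_dvd _ _) (hb ▸ Nat.ordProj_dvd _ _)
  obtain ⟨n, hn⟩ := hm
  have hrn : (r ^ a).Coprime n := by
    apply Nat.Coprime.pow_left
    rw [Nat.Prime.coprime_iff_not_dvd hr.out]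
    rintro ⟨k, rfl⟩
    have h1 : r ^ (a + 1) ∣ Nat.card C := ⟨s ^ b * k, by rw [hn]; ring⟩
    rw [ha] at h1
    exact Nat.pow_succ_factorization_not_dvd Nat.card_pos.ne' hr.out h1
  have hsn : (s ^ b).Coprime n := by
    apply Nat.Coprime.pow_left
    rw [Nat.Prime.coprime_iff_not_dvd hs.out]
    rintro ⟨k, rfl⟩
    have h1 : s ^ (b + 1) ∣ Nat.card C := ⟨r ^ a * k, by rw [hn]; ring⟩
    rw [hb] at h1
    exact Nat.pow_succ_factorization_not_dvd Nat.card_pos.ne' hs.out h1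
  have hmn : (r ^ a * s ^ b).Coprime n := Nat.Coprime.mul_left hrn hsn
  obtain ⟨T, hTc, hRT⟩ := Cfsg.Agent.Lib.Helper1.hall_dom (r ^ a * s ^ b) n hn hmn
    (R : Subgroup C) (by rw [hRc]; exact hrn)
  -- the Sylow `r`-subgroup `R ∩ T = R` of `T`
  have hRT' : IsPGroup r ((R : Subgroup C).subgroupOf T) := R.2.comap_subtype
  have hidx : ((R : Subgroup C).subgroupOf T).index = s ^ b := by
    have h1 := ((R : Subgroup C).subgroupOf T).card_mul_index
    rw [Nat.card_congr (Subgroup.subgroupOfEquivOfLe hRT).toEquiv, hRc, hTc] at h1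
    exact Nat.eq_of_mul_eq_mul_left (pow_pos hr.out.pos a) h1
  have hnd : ¬ r ∣ ((R : Subgroup C).subgroupOf T).index := by
    rw [hidx]
    intro hd
    exact hrs' ((Nat.prime_dvd_prime_iff_eq hr.out hs.out).mp (hr.out.dvd_of_dvd_pow hd))
  obtain ⟨RT, hRTe⟩ : ∃ RT : Sylow r T, (RT : Subgroup T) = (R : Subgroup C).subgroupOf T :=
    ⟨hRT'.toSylow hnd, IsPGroup.toSylow_coe _ _⟩
  have hRTcyc : IsCyclic (RT : Subgroup T) := by
    rw [hRTe]
    exact (Subgroup.subgroupOfEquivOfLe hRT).isCyclic.mpr hR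
  have hmin : (Nat.card T).minFac = r := by
    have hT1 : Nat.card T ≠ 1 := by
      rw [hTc]
      intro h1
      have h2 : r ^ a = 1 := Nat.eq_one_of_mul_eq_one_right h1
      exact ha0 ((Nat.pow_eq_one.mp h2).resolve_left hr.out.one_lt.ne')
    have hp := Nat.minFac_prime hT1
    have hd : (Nat.card T).minFac ∣ r ^ a * s ^ b := hTc ▸ Nat.minFac_dvd _
    have hle : (Nat.card T).minFac ≤ r :=
      Nat.minFac_le_of_dvd hr.out.two_le (hTc ▸ Dvd.dvd.mul_right (dvd_pow_self r ha0) _)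
    rcases (Nat.Prime.dvd_mul hp).mp hd with h1 | h1
    · exact (Nat.prime_dvd_prime_iff_eq hp hr.out).mp (hp.dvd_of_dvd_pow h1)
    · have : (Nat.card T).minFac = s :=
        (Nat.prime_dvd_prime_iff_eq hp hs.out).mp (hp.dvd_of_dvd_pow h1)
      omega
  have hcompl := IsCyclic.isComplement' hmin hRTcyc
  obtain ⟨K, hK⟩ : ∃ K : Subgroup T,
      K = (MonoidHom.transferSylow RT (hRTcyc.normalizer_le_centralizer hmin)).ker := ⟨_, rfl⟩
  rw [← hK] at hcompl
  have hKn : K.Normal := by rw [hK]; infer_instance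
  have hKc : Nat.card K = s ^ b := by
    rw [← hidx, ← hRTe]
    exact hcompl.index_eq_card.symm
  -- `K' = K` as a subgroup of `C` is a Sylow `s`-subgroup of `C`, hence cyclic
  have hK'c : Nat.card (K.map T.subtype) = s ^ (Nat.card C).factorization s := by
    rw [Subgroup.card_map_of_injective T.subtype_injective, hKc, hb]
  have hK'cyc : IsCyclic (K.map T.subtype) := by
    have e := Sylow.equiv (Sylow.ofCard (K.map T.subtype) hK'c) Q
    rw [Sylow.coe_ofCard] at e
    exact e.isCyclic.mpr hQ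
  have hTK' : T ≤ Subgroup.normalizer ((K.map T.subtype : Subgroup C) : Set C) := by
    have h1 := Subgroup.le_normalizer_map (H := K) T.subtype
    rw [Subgroup.normalizer_eq_top, ← MonoidHom.range_eq_map, Subgroup.range_subtype] at h1
    exact h1
  have hsK' : s ∣ Nat.card (K.map T.subtype) := by
    rw [hK'c, ← hb]
    exact dvd_pow_self s hb0
  obtain ⟨x, hx⟩ := exists_prime_orderOf_dvd_card' s hsK'
  have hxo : orderOf (x : C) = s := by rw [Subgroup.orderOf_coe]; exact hx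
  refine ⟨Subgroup.zpowers (x : C), by rw [Nat.card_zpowers, hxo], ?_⟩
  have hXK' : Subgroup.zpowers (x : C) ≤ K.map T.subtype := (Subgroup.zpowers_le).mpr x.2
  have hTX : T ≤ Subgroup.normalizer ((Subgroup.zpowers (x : C) : Subgroup C) : Set C) :=
    fun t ht => Cfsg.Agent.Lib.Helper82.NilAbel.mem_normalizer_of_le_cyclic hK'cyc hXK' (hTK' ht)
  have h1 : Nat.card (R : Subgroup C) ∣
      Nat.card (Subgroup.normalizer ((Subgroup.zpowers (x : C) : Subgroup C) : Set C)) :=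
    Subgroup.card_dvd_of_le (hRT.trans hTX)
  rw [hRc] at h1
  exact (dvd_pow_self r ha0).trans h1

open scoped Pointwise in
/-- Subgroup form of `exists_normalizer_of_lt`: `C ≤ G` solvable, `R₀, Q₀ ≤ C` nontrivial cyclic maximal
`r`- resp. `s`-subgroups of `C`, `r < s`.  Then some `X ≤ Q₀` of order `s` has `r ∣ |N_C(X)|`. -/
theorem exists_normalizer_of_lt_sub {G : Type*} [Group G] [Finite G] {r s : ℕ}
    [hr : Fact r.Prime] [hs : Fact s.Prime] (hrs : r < s) (C R₀ Q₀ : Subgroup G)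
    (hCs : Group.IsSolvable C) (hRC : R₀ ≤ C) (hQC : Q₀ ≤ C)
    (hRr : IsPGroup r R₀) (hQs : IsPGroup s Q₀)
    (hRmax : ∀ Y : Subgroup G, IsPGroup r Y → R₀ ≤ Y → Y ≤ C → Y = R₀)
    (hQmax : ∀ Y : Subgroup G, IsPGroup s Y → Q₀ ≤ Y → Y ≤ C → Y = Q₀)
    (hRcyc : IsCyclic R₀) (hQcyc : IsCyclic Q₀) (hR1 : R₀ ≠ ⊥) (hQ1 : Q₀ ≠ ⊥) :
    ∃ X : Subgroup G, X ≤ Q₀ ∧ Nat.card X = s ∧
      r ∣ Nat.card (C ⊓ Subgroup.normalizer (X : Set G) : Subgroup G) := by
  obtain ⟨R, hR⟩ := exists_sylow_of_max C R₀ hRC hRr hRmax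
  obtain ⟨Q, hQ⟩ := exists_sylow_of_max C Q₀ hQC hQs hQmax
  have hRc : IsCyclic (R : Subgroup C) := by
    rw [hR]; exact (Subgroup.subgroupOfEquivOfLe hRC).isCyclic.mpr hRcyc
  have hQc : IsCyclic (Q : Subgroup C) := by
    rw [hQ]; exact (Subgroup.subgroupOfEquivOfLe hQC).isCyclic.mpr hQcyc
  have hne : ∀ {V : Subgroup G}, V ≤ C → V ≠ ⊥ → V.subgroupOf C ≠ ⊥ := by
    intro V hVC hV1 h
    apply hV1
    rw [Subgroup.subgroupOf_eq_bot] at h
    rw [← inf_eq_left.mpr hVC]
    exact disjoint_iff.mp h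
  obtain ⟨X, hXc, hXn⟩ := exists_normalizer_of_lt hrs R Q hRc hQc (hR ▸ hne hRC hR1)
    (hQ ▸ hne hQC hQ1)
  have hXs : IsPGroup s X := IsPGroup.of_card (n := 1) (by rw [pow_one]; exact hXc)
  obtain ⟨Q', hXQ'⟩ := hXs.exists_le_sylow
  obtain ⟨c, hc⟩ := MulAction.exists_smul_eq ↥C Q' Q
  have hX₂Q : MulAut.conj c • X ≤ (Q : Subgroup C) := by
    rw [← hc, Sylow.coe_subgroup_smul]
    exact Cfsg.Agent.Lib.Helper54.conj_smul_le_conj_smul hXQ'
  have hX₂c : Nat.card (MulAut.conj c • X : Subgroup C) = s := by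
    rw [Cfsg.Agent.Lib.Helper54.card_conj_smul, hXc]
  have hX₂n : r ∣ Nat.card (Subgroup.normalizer ((MulAut.conj c • X : Subgroup C) : Set C)) := by
    have h1 : MulAut.conj c • Subgroup.normalizer (X : Set C) ≤
        Subgroup.normalizer ((MulAut.conj c • X : Subgroup C) : Set C) :=
      Cfsg.Agent.Lib.Helper54.conj_smul_le_normalizer le_rfl
    have h2 := Subgroup.card_dvd_of_le h1
    rw [Cfsg.Agent.Lib.Helper54.card_conj_smul] at h2
    exact hXn.trans h2
  have hX₁C : (MulAut.conj c • X : Subgroup C).map C.subtype ≤ C := Subgroup.map_subtype_le _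
  have hX₁e : ((MulAut.conj c • X : Subgroup C).map C.subtype).subgroupOf C = MulAut.conj c • X :=
    Subgroup.comap_map_eq_self_of_injective (Subgroup.subtype_injective C) _
  refine ⟨(MulAut.conj c • X : Subgroup C).map C.subtype, ?_, ?_, ?_⟩
  · rintro _ ⟨x, hx, rfl⟩
    have := hX₂Q hx
    rw [hQ] at this
    exact Subgroup.mem_subgroupOf.mp this
  · rw [Subgroup.card_map_of_injective (Subgroup.subtype_injective C), hX₂c]
  · have e : Nat.card ((Subgroup.normalizer
        (((MulAut.conj c • X : Subgroup C).map C.subtype : Subgroup G) : Set G)).subgroupOf C) =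
        Nat.card (C ⊓ Subgroup.normalizer
          (((MulAut.conj c • X : Subgroup C).map C.subtype : Subgroup G) : Set G) : Subgroup G) := by
      rw [← Subgroup.inf_subgroupOf_left]
      exact Nat.card_congr (Subgroup.subgroupOfEquivOfLe inf_le_left).toEquiv
    rw [← e, Subgroup.subgroupOf_normalizer_eq hX₁C, hX₁e]
    exact hX₂n

end Cfsg.Agent.Lib.Helper30.BGAsym
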