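import Mathlib
import Cfsg.Agent.Lib.Helper30.BGAsymC
import Cfsg.Agent.Lib.Helper30.BGAsymD
import Cfsg.Agent.Lib.Helper24.SigmaEmbed
import Cfsg.Agent.Lib.Helper34.SigmaPartition

/-!
# The asymmetry lemma, special case `Q = Q* = S` of Bender–Glauberman 13.8  (unconditional)

`asymSpecial : IsMinSimpleOddOrder G → Helper34.SigmaPartition.AsymSpecial G`:
`M, M*` maximal and not conjugate, `S ∈ Syl_q(G)` with `N_G(S) ≤ M ∩ M*`, `p ∈ τ₁(M) ∩ τ₁(M*)`,
`P ≤ N_G(S)` of order `p` with `C_S(P) = 1` is impossible.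

Proof.  By 12.17(d1) both sides satisfy `Side` (`BGAsymB`).  Put `C = C_G(P)`, `W = C_{M_α}(P) ≠ 1`,
`W* = C_{M*_α}(P) ≠ 1`; `C_M(P) = W C_D(P)` and `C_D(P)` meets neither `M_α` nor `M*_α`, so `C_M(P)` is an
`α(M*)'`-group and `C_{M*}(P)` an `α(M)'`-group.  For primes `r ∣ |W|`, `r* ∣ |W*|` the Sylow subgroups of
`W`, `W*` are cyclic Sylow subgroups of `C`; by `exists_normalizer_of_lt_sub` one of them, say the one for
`r*`, has a subgroup `X*` of order `r*` with `r ∣ |N_C(X*)|`; but `N_G(X*) ≤ M*` (S1423). -/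

set_option autoImplicit false
set_option linter.unusedSectionVars false

namespace Cfsg.Agent.Lib.Helper30.BGAsym

open Cfsg
open scoped Pointwise

universe u

variable {G : Type u} [Group G] [Finite G]

/-- An elementary abelian subgroup of order `s ^ 2`, `s` an ideal prime, lies in a unique maximal
subgroup. -/
theorem inUniqueMaximal_of_ideal (hG : IsMinSimpleOddOrder G) {s : ℕ} [Fact s.Prime]
    (hs : IsIdealPrime s G) {F : Subgroup G} (hFe : IsElementaryAbelian s F)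
    (hFc : Nat.card F = s ^ 2) : InUniqueMaximal F := by
  have hsp : s.Prime := Fact.out
  have hU := Cfsg.Agent.Lib.Helper21.uniquenessThm_of hG
  have hFp : IsPGroup s F := fun x => ⟨1, by rw [pow_one]; exact Subtype.ext (hFe.2 x x.2)⟩
  obtain ⟨Psyl, hFP⟩ := hFp.exists_le_sylow
  obtain ⟨B, hBP, hBe, hFB⟩ := hs.2.2 Psyl F hFP hFe hFc
  have hFcomm : ∀ x ∈ F, ∀ y ∈ F, x * y = y * x := fun x hx y hy =>
    congrArg Subtype.val (hFe.1.is_comm.comm (⟨x, hx⟩ : ↥F) ⟨y, hy⟩)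
  have hBcomm : ∀ x ∈ B, ∀ y ∈ B, x * y = y * x := fun x hx y hy =>
    congrArg Subtype.val (hBe.1.is_comm.comm (⟨x, hx⟩ : ↥B) ⟨y, hy⟩)
  have hFtop : F ≠ ⊤ := by
    intro e
    apply hG.2.2.1
    exact ⟨⟨fun a b => hFcomm a (e ▸ Subgroup.mem_top a) b (e ▸ Subgroup.mem_top b)⟩⟩
  apply hU F hFtop
  · intro hR
    exact Cfsg.Agent.Lib.Helper54.not_pRankLE_of_elemAb (le_refl F) hFcomm hFe.2
      (by rw [hFc]; exact Nat.pow_lt_pow_right hsp.one_lt (by norm_num)) (hR s hsp)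
  · right
    intro hR
    have hBC : B ≤ Subgroup.centralizer (F : Set G) := fun b hb =>
      Subgroup.mem_centralizer_iff.mpr (fun x hx => hBcomm x (hFB.le hx) b hb)
    have hBcard : s ^ 2 < Nat.card B := by
      rw [← hFc]
      exact lt_of_le_of_ne (Subgroup.card_le_of_le hFB.le)
        (fun heq => hFB.ne (Subgroup.eq_of_le_of_card_ge hFB.le heq.ge))
    exact Cfsg.Agent.Lib.Helper54.not_pRankLE_of_elemAb hBC hBcomm hBe.2 hBcard (hR s hsp)

/-- One side of the configuration, from Lemma 12.17(d1). -/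
theorem side_of (hG : IsMinSimpleOddOrder G) (M L : Subgroup G) (hM : IsCoatom M) (hL : IsCoatom L)
    (hne : L ≠ M) (hLnc : ∀ g : G, MulAut.conj g • L ≠ M) (D : Subgroup G) (hD : D = M ⊓ L)
    (q : ℕ) [Fact q.Prime] (S : Sylow q G)
    (hN : Subgroup.normalizer ((S : Subgroup G) : Set G) ≤ D) (p : ℕ) (hpL : p ∈ tau1 L)
    (P : Subgroup G) (hPN : P ≤ Subgroup.normalizer ((S : Subgroup G) : Set G))
    (hPc : Nat.card P = p)
    (hfix : (S : Subgroup G) ⊓ Subgroup.centralizer (P : Set G) = ⊥) :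
    Side L D (S : Subgroup G) P q p := by
  have hq : q.Prime := Fact.out
  have hU := Cfsg.Agent.Lib.Helper21.uniquenessThm_of hG
  have hDM : D ≤ M := hD ▸ inf_le_left
  have hDL : D ≤ L := hD ▸ inf_le_right
  have hSD : (S : Subgroup G) ≤ D := Subgroup.le_normalizer.trans hN
  have hSL : (S : Subgroup G) ≤ L := hSD.trans hDL
  have hSM : (S : Subgroup G) ≤ M := hSD.trans hDM
  have hS1 : (S : Subgroup G) ≠ ⊥ := by
    intro e
    apply hL.1
    rw [eq_top_iff]
    intro g _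
    apply hDL
    apply hN
    rw [e, Subgroup.mem_normalizer_iff]
    intro x
    simp [Subgroup.mem_bot]
  have hqS : q ∣ Nat.card (S : Subgroup G) :=
    Cfsg.Agent.Lib.Helper34.dvd_card_of_isPGroup_ne_bot S.2 hS1
  have hσ : ∀ K : Subgroup G, (S : Subgroup G) ≤ K →
      Subgroup.normalizer ((S : Subgroup G) : Set G) ≤ K → q ∈ sigma K := by
    intro K hSK hNK
    refine ⟨hq, hqS.trans (Subgroup.card_dvd_of_le hSK), S.subtype hSK, ?_⟩
    rw [Sylow.coe_subtype, Subgroup.map_subgroupOf_eq_of_le hSK]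
    exact hNK
  have hqL : q ∈ sigma L := hσ L hSL (hN.trans hDL)
  have hqM : q ∈ sigma M := hσ M hSM (hN.trans hDM)
  have hSidx : ¬ q ∣ (S : Subgroup G).relIndex L := fun hd =>
    S.not_dvd_index (hd.trans (Subgroup.relIndex_dvd_index_of_le hSL))
  obtain ⟨a1, -, -, a4, a5⟩ := Cfsg.Agent.Lib.Helper24.sigma_embed_d1_half hG hU M L hM hL hne q hqL
    (S : Subgroup G) S.2 hSL hSidx ((inf_le_right.trans hN).trans hDM)
  have hαβ : alpha L = beta L := Set.ext fun s => ⟨a4 s, fun h => h.1⟩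
  have hcore : alphaCore L = piCoreOf (beta L) L := by
    show piCoreOf (alpha L) L = _
    rw [hαβ]
  refine ⟨hL, hDL, hSD, hPN.trans hN, ?_, ?_, fun s hs => (a4 s hs).2, hqL, ?_, hpL, S.2, hN, hPc,
    hPN, hfix, ?_⟩
  · intro m hm
    have h1 : (⟨m, hm⟩ : ↥L) ∈ piCore (beta L) ↥L ⊔ M.subgroupOf L := by
      rw [sup_comm, a1]; trivial
    rw [← SetLike.mem_coe, Subgroup.normal_mul] at h1
    obtain ⟨a, ha, d, hd, hab⟩ := Set.mem_mul.mp h1
    refine ⟨(a : G), ?_, (d : G), ?_, ?_⟩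
    · rw [hcore]; exact ⟨a, ha, rfl⟩
    · rw [hD]; exact ⟨Subgroup.mem_subgroupOf.mp hd, d.2⟩
    · have := congrArg Subtype.val hab
      simpa using this.symm
  · rw [hcore]; exact a5
  · intro hqα
    exact (Cfsg.Agent.Lib.Helper54.sigma_disjoint hG hU L M hL hM hLnc).1.1 q hqα hqM
  · intro s F hs hFD hFe hFc
    have : Fact s.Prime := ⟨hs.1⟩
    obtain ⟨M0, -, huni⟩ := inUniqueMaximal_of_ideal hG hs hFe hFc
    have h1 := huni M ⟨hM, hFD.trans hDM⟩
    have h2 := huni L ⟨hL, hFD.trans hDL⟩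
    exact hne (h2.trans h1.symm)

namespace Side

variable {M Ms D S P : Subgroup G} {q p : ℕ}

/-- `|C_D(P)|` is prime to every `r ∈ α(M)` -/
theorem not_dvd_card_N (h : Side M D S P q p) (hG : IsMinSimpleOddOrder G) {r : ℕ}
    (hrα : r ∈ alpha M) : ¬ r ∣ Nat.card (D ⊓ Subgroup.centralizer (P : Set G) : Subgroup G) := by
  intro hd
  have hr : r.Prime := hrα.1
  have : Fact r.Prime := ⟨hr⟩
  obtain ⟨x, hx⟩ := exists_prime_orderOf_dvd_card' r hd
  have hxo : orderOf (x : G) = r := by rw [Subgroup.orderOf_coe]; exact hx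
  have hzN : Subgroup.zpowers (x : G) ≤ D ⊓ Subgroup.centralizer (P : Set G) :=
    (Subgroup.zpowers_le).mpr x.2
  have hzA : Subgroup.zpowers (x : G) ≤ alphaCore M := by
    apply h.le_alphaCore hG ((hzN.trans inf_le_left).trans h.hDM)
    intro t ht htd
    rw [Nat.card_zpowers, hxo] at htd
    rw [(Nat.prime_dvd_prime_iff_eq ht hr).mp htd]
    exact hrα
  have hmem : (x : G) ∈ D ⊓ alphaCore M ⊓ Subgroup.centralizer (P : Set G) :=
    ⟨⟨(hzN (Subgroup.mem_zpowers _)).1, hzA (Subgroup.mem_zpowers _)⟩,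
      (hzN (Subgroup.mem_zpowers _)).2⟩
  rw [h.CB_eq_bot hG, Subgroup.mem_bot] at hmem
  rw [hmem, orderOf_one] at hxo
  exact hr.one_lt.ne hxo

/-- `C_{M*}(P)` is an `α(M)'`-group -/
theorem not_dvd_card_CM (h : Side M D S P q p) (h' : Side Ms D S P q p)
    (hG : IsMinSimpleOddOrder G) (hd : ∀ r ∈ alpha M, r ∉ alpha Ms) {r : ℕ} (hrα : r ∈ alpha M) :
    ¬ r ∣ Nat.card (Ms ⊓ Subgroup.centralizer (P : Set G) : Subgroup G) := by
  rw [h'.card_CM hG]
  intro hdvd
  rcases (Nat.Prime.dvd_mul hrα.1).mp hdvd with h1 | h1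
  · exact hd r hrα (h'.pi_of_le_alphaCore hG inf_le_left r hrα.1 h1)
  · exact h.not_dvd_card_N hG hrα h1

theorem centralizer_P_solvable (h : Side M D S P q p) (hG : IsMinSimpleOddOrder G) :
    Group.IsSolvable (Subgroup.centralizer (P : Set G)) := by
  apply hG.2.2.2
  intro e
  have hNtop : Subgroup.normalizer (P : Set G) ≠ ⊤ :=
    Cfsg.Agent.Lib.Helper54.normalizer_ne_top_of_simple hG.2.1 h.P_ne_bot h.P_ne_top
  exact hNtop (top_le_iff.mp (e ▸ Subgroup.centralizer_le_normalizer _))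

/-- the two-sided contradiction, for `r < r'` -/
theorem false_of_lt (h : Side M D S P q p) (h' : Side Ms D S P q p)
    (hG : IsMinSimpleOddOrder G) (hd : ∀ r ∈ alpha M, r ∉ alpha Ms) {r r' : ℕ} [Fact r.Prime]
    [Fact r'.Prime] (hlt : r < r')
    (hr : r ∣ Nat.card (alphaCore M ⊓ Subgroup.centralizer (P : Set G) : Subgroup G))
    (hr' : r' ∣ Nat.card (alphaCore Ms ⊓ Subgroup.centralizer (P : Set G) : Subgroup G)) :
    False := by
  have hrp : r.Prime := Fact.out
  have hrα : r ∈ alpha M := h.pi_of_le_alphaCore hG inf_le_left r hrp hr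
  -- Sylow subgroups of `W`, `W*`
  obtain ⟨R⟩ : Nonempty (Sylow r ↥(alphaCore M ⊓ Subgroup.centralizer (P : Set G))) := inferInstance
  obtain ⟨R'⟩ : Nonempty (Sylow r' ↥(alphaCore Ms ⊓ Subgroup.centralizer (P : Set G))) :=
    inferInstance
  have key : ∀ {L : Subgroup G} {t : ℕ} [Fact t.Prime] (hL : Side L D S P q p)
      (ht : t ∣ Nat.card (alphaCore L ⊓ Subgroup.centralizer (P : Set G) : Subgroup G))
      (T : Sylow t ↥(alphaCore L ⊓ Subgroup.centralizer (P : Set G))),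
      (T : Subgroup ↥(alphaCore L ⊓ Subgroup.centralizer (P : Set G))).map
        (alphaCore L ⊓ Subgroup.centralizer (P : Set G)).subtype ≠ ⊥ ∧
      IsCyclic ((T : Subgroup ↥(alphaCore L ⊓ Subgroup.centralizer (P : Set G))).map
        (alphaCore L ⊓ Subgroup.centralizer (P : Set G)).subtype) ∧
      ∀ Y : Subgroup G, IsPGroup t Y →
        (T : Subgroup ↥(alphaCore L ⊓ Subgroup.centralizer (P : Set G))).map
          (alphaCore L ⊓ Subgroup.centralizer (P : Set G)).subtype ≤ Y →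
        Y ≤ Subgroup.centralizer (P : Set G) →
        Y = (T : Subgroup ↥(alphaCore L ⊓ Subgroup.centralizer (P : Set G))).map
          (alphaCore L ⊓ Subgroup.centralizer (P : Set G)).subtype := by
    intro L t _ hL ht T
    have hT1 : (T : Subgroup ↥(alphaCore L ⊓ Subgroup.centralizer (P : Set G))) ≠ ⊥ :=
      T.ne_bot_of_dvd_card ht
    have hT1' : (T : Subgroup ↥(alphaCore L ⊓ Subgroup.centralizer (P : Set G))).map
        (alphaCore L ⊓ Subgroup.centralizer (P : Set G)).subtype ≠ ⊥ := by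
      intro e
      exact hT1 ((Subgroup.map_eq_bot_iff_of_injective _ (Subgroup.subtype_injective _)).mp e)
    have hTt : IsPGroup t ((T : Subgroup ↥(alphaCore L ⊓ Subgroup.centralizer (P : Set G))).map
        (alphaCore L ⊓ Subgroup.centralizer (P : Set G)).subtype) := T.2.map _
    have htd : t ∣ Nat.card ((T : Subgroup ↥(alphaCore L ⊓ Subgroup.centralizer (P : Set G))).map
        (alphaCore L ⊓ Subgroup.centralizer (P : Set G)).subtype) :=
      Cfsg.Agent.Lib.Helper34.dvd_card_of_isPGroup_ne_bot hTt hT1'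
    obtain ⟨x, hx⟩ := exists_prime_orderOf_dvd_card' t htd
    have hxo : orderOf (x : G) = t := by rw [Subgroup.orderOf_coe]; exact hx
    refine ⟨hT1', hL.isCyclic_of_le_W hG (Subgroup.map_subtype_le _) hTt, fun Y hY h1 h2 => ?_⟩
    exact hL.sylow_W_max hG T (Subgroup.zpowers (x : G)) ((Subgroup.zpowers_le).mpr x.2)
      (by rw [Nat.card_zpowers, hxo]) Y hY h1 h2
  obtain ⟨hR1, hRcyc, hRmax⟩ := key h hr R
  obtain ⟨hR'1, hR'cyc, hR'max⟩ := key h' hr' R'
  have hRW : (R : Subgroup ↥(alphaCore M ⊓ Subgroup.centralizer (P : Set G))).map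
      (alphaCore M ⊓ Subgroup.centralizer (P : Set G)).subtype ≤
      alphaCore M ⊓ Subgroup.centralizer (P : Set G) := Subgroup.map_subtype_le _
  have hR'W : (R' : Subgroup ↥(alphaCore Ms ⊓ Subgroup.centralizer (P : Set G))).map
      (alphaCore Ms ⊓ Subgroup.centralizer (P : Set G)).subtype ≤
      alphaCore Ms ⊓ Subgroup.centralizer (P : Set G) := Subgroup.map_subtype_le _
  obtain ⟨X, hXR', hXc, hdiv⟩ := exists_normalizer_of_lt_sub hlt
    (Subgroup.centralizer (P : Set G)) _ _ (h.centralizer_P_solvable hG)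
    (hRW.trans inf_le_right) (hR'W.trans inf_le_right) (R.2.map _) (R'.2.map _) hRmax hR'max
    hRcyc hR'cyc hR1 hR'1
  have hXA : X ≤ alphaCore Ms := (hXR'.trans hR'W).trans inf_le_left
  have hNX : Subgroup.normalizer (X : Set G) ≤ Ms := h'.normalizer_le hG hXA hXc
  have hle : Subgroup.centralizer (P : Set G) ⊓ Subgroup.normalizer (X : Set G) ≤
      Ms ⊓ Subgroup.centralizer (P : Set G) := fun y hy => ⟨hNX hy.2, hy.1⟩
  exact h.not_dvd_card_CM h' hG hd hrα (hdiv.trans (Subgroup.card_dvd_of_le hle))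

/-- the two-sided contradiction -/
theorem false_of_sides (h : Side M D S P q p) (h' : Side Ms D S P q p)
    (hG : IsMinSimpleOddOrder G) (hd : ∀ r ∈ alpha M, r ∉ alpha Ms) : False := by
  have hW1 : Nat.card (alphaCore M ⊓ Subgroup.centralizer (P : Set G) : Subgroup G) ≠ 1 :=
    fun e => h.W_ne_bot hG (Subgroup.card_eq_one.mp e)
  have hW'1 : Nat.card (alphaCore Ms ⊓ Subgroup.centralizer (P : Set G) : Subgroup G) ≠ 1 :=
    fun e => h'.W_ne_bot hG (Subgroup.card_eq_one.mp e)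
  obtain ⟨r, hrp, hr⟩ := Nat.exists_prime_and_dvd hW1
  obtain ⟨r', hr'p, hr'⟩ := Nat.exists_prime_and_dvd hW'1
  have : Fact r.Prime := ⟨hrp⟩
  have : Fact r'.Prime := ⟨hr'p⟩
  have hrα : r ∈ alpha M := h.pi_of_le_alphaCore hG inf_le_left r hrp hr
  have hr'α : r' ∈ alpha Ms := h'.pi_of_le_alphaCore hG inf_le_left r' hr'p hr'
  have hne : r ≠ r' := fun e => hd r hrα (e ▸ hr'α)
  rcases lt_or_gt_of_ne hne with hlt | hlt
  · exact h.false_of_lt h' hG hd hlt hr hr'
  · exact h'.false_of_lt h hG (fun t ht ht' => hd t ht' ht) hlt hr' hr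

end Side

/-- **The asymmetry lemma, special case `Q = Q* = S` of Bender–Glauberman 13.8.** -/
theorem asymSpecial (hG : IsMinSimpleOddOrder G) :
    Cfsg.Agent.Lib.Helper34.SigmaPartition.AsymSpecial G := by
  intro M Ms hM hMs hnc q _ S hN p hpM hpMs P hPN hPc hfix
  have hU := Cfsg.Agent.Lib.Helper21.uniquenessThm_of hG
  have hnc1 : ∀ g : G, MulAut.conj g • Ms ≠ M := fun g => hnc g
  have hnc2 : ∀ g : G, MulAut.conj g • M ≠ Ms := by
    intro g e
    apply hnc1 g⁻¹
    rw [← e, smul_smul, ← map_mul, inv_mul_cancel, map_one, one_smul]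
  have hne : Ms ≠ M := by
    intro e
    apply hnc1 1
    rw [map_one, one_smul]
    exact e
  have hfix' : (S : Subgroup G) ⊓ Subgroup.centralizer (P : Set G) = ⊥ := by
    rw [inf_comm]; exact hfix
  have hsM : Side M (M ⊓ Ms) (S : Subgroup G) P q p :=
    side_of hG Ms M hMs hM hne.symm hnc2 (M ⊓ Ms) (inf_comm _ _) q S hN p hpM P hPN hPc hfix'
  have hsMs : Side Ms (M ⊓ Ms) (S : Subgroup G) P q p :=
    side_of hG M Ms hM hMs hne hnc1 (M ⊓ Ms) rfl q S hN p hpMs P hPN hPc hfix'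
  have hd : ∀ r ∈ alpha M, r ∉ alpha Ms := fun r hr hr' =>
    (Cfsg.Agent.Lib.Helper54.sigma_disjoint hG hU M Ms hM hMs hnc2).1.1 r hr
      (hsMs.alpha_subset_sigma hG hr')
  exact hsM.false_of_sides hsMs hG hd

end Cfsg.Agent.Lib.Helper30.BGAsym
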