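import Mathlib
import Cfsg.Prelude.Def_GeometricClasses
import Cfsg.Agent.Lib.Helper99.AschDefs
import Cfsg.Agent.Lib.Helper99.AschDefsR

set_option autoImplicit false

/-!
# BHR-[C3DIV] (hedge by helper30): a field subalgebra of `M_n(F)` of `F`-dimension `r` has `r ∣ n`.
-/

namespace Cfsg.Agent.Lib.Helper30.BhrC3Div

open Cfsg Cfsg.Geo
open scoped MatrixGroups Matrix

variable {n : ℕ} {F : Type*} [Field F]

/-- A field subalgebra (in the sense of `IsFieldSubalgebra`) of a nontrivial matrix algebra is a field. -/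
theorem isField_of_isFieldSubalgebra (hn : 0 < n) (r : ℕ)
    (K : Subalgebra F (Matrix (Fin n) (Fin n) F)) (hK : IsFieldSubalgebra r K) : IsField K := by
  have : Nonempty (Fin n) := ⟨⟨0, hn⟩⟩
  refine ⟨⟨0, 1, zero_ne_one⟩, ?_, ?_⟩
  · intro x y
    exact Subtype.ext (hK.comm x.1 x.2 y.1 y.2)
  · intro a ha
    have ha' : (a : Matrix (Fin n) (Fin n) F) ≠ 0 := fun h => ha (Subtype.ext h)
    obtain ⟨y, hy, hxy⟩ := hK.inv a.1 a.2 ha'
    exact ⟨⟨y, hy⟩, Subtype.ext hxy⟩

/-- General form: any field `F` (no finiteness). -/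
theorem dvd_of_isFieldSubalgebra_gen (r : ℕ) (K : Subalgebra F (Matrix (Fin n) (Fin n) F))
    (hK : IsFieldSubalgebra r K) : r ∣ n := by
  rcases Nat.eq_zero_or_pos n with rfl | hn
  · exact dvd_zero r
  · have hfield : IsField K := isField_of_isFieldSubalgebra hn r K hK
    let _ : Field K := hfield.toField
    let φ : K →+* Module.End F (Fin n → F) :=
      ((Matrix.toLinAlgEquiv' : Matrix (Fin n) (Fin n) F ≃ₐ[F] Module.End F (Fin n → F)).toAlgHom.comp
        K.val).toRingHom
    let _ : Module K (Fin n → F) := Module.compHom (Fin n → F) φ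
    have hsmul : ∀ (k : K) (v : Fin n → F), k • v = (k : Matrix (Fin n) (Fin n) F) *ᵥ v := by
      intro k v
      rfl
    have tower : IsScalarTower F K (Fin n → F) := by
      refine ⟨fun c k v => ?_⟩
      rw [hsmul, hsmul]
      simp [Matrix.smul_mulVec]
    have h := @Module.finrank_mul_finrank F K (Fin n → F) _ _ _ _ _ _ tower _ _ _ _
    rw [Module.finrank_fin_fun, hK.finrank_eq] at h
    exact Dvd.intro _ h

end Cfsg.Agent.Lib.Helper30.BhrC3Div

namespace Cfsg.Agent.Lib.Helper99.Asch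

open Cfsg Cfsg.Geo
open scoped MatrixGroups Matrix Kronecker

variable {n : ℕ} {F : Type*} [Field F] [Fintype F]

set_option linter.unusedSectionVars false in
/-- BHR-[C3DIV]: exact sheet statement. -/
theorem dvd_of_isFieldSubalgebra (r : ℕ) (K : Subalgebra F (Matrix (Fin n) (Fin n) F))
    (hK : IsFieldSubalgebra r K) : r ∣ n :=
  Cfsg.Agent.Lib.Helper30.BhrC3Div.dvd_of_isFieldSubalgebra_gen r K hK

end Cfsg.Agent.Lib.Helper99.Asch
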