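import Mathlib
import Cfsg.Prelude.Def_GeometricClasses
import Cfsg.Agent.Lib.Helper99.AschDefs
import Cfsg.Agent.Lib.Helper99.AschDefsR

set_option autoImplicit false

/-!
# BHR-[E1] (hedge by helper30): over `F_2` the stabiliser of a decomposition into lines is reducible.
-/

namespace Cfsg.Agent.Lib.Helper30.BhrE1

open Cfsg Cfsg.Geo
open scoped MatrixGroups Matrix

variable {n : ℕ} {F : Type*} [Field F] [Fintype F]

/-- In a field with two elements every element is `0` or `1`. -/
theorem eq_zero_or_one_of_card_two (hq : Fintype.card F = 2) (c : F) : c = 0 ∨ c = 1 := by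
  classical
  have hsub : ({0, 1} : Finset F) ⊆ Finset.univ := Finset.subset_univ _
  have hcard : ({0, 1} : Finset F).card = 2 := Finset.card_pair zero_ne_one
  have heq : ({0, 1} : Finset F) = Finset.univ :=
    Finset.eq_of_subset_of_card_le hsub (by rw [hcard, Finset.card_univ, hq])
  have hc : c ∈ ({0, 1} : Finset F) := by rw [heq]; exact Finset.mem_univ c
  simpa using hc

/-- A vector fixed by `g` spans a line stabilised by `g`. -/
theorem mem_subspaceStabilizer_span_of_fix (g : GL (Fin n) F) (w : Fin n → F)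
    (hg : (g : Matrix (Fin n) (Fin n) F) *ᵥ w = w) :
    g ∈ subspaceStabilizer (Submodule.span F {w}) := by
  have hginv : ((g⁻¹ : GL (Fin n) F) : Matrix (Fin n) (Fin n) F) *ᵥ w = w := by
    conv_lhs => rw [← hg]
    rw [Matrix.mulVec_mulVec, ← Units.val_mul, inv_mul_cancel, Units.val_one, Matrix.one_mulVec]
  have key : ∀ (h : GL (Fin n) F), (h : Matrix (Fin n) (Fin n) F) *ᵥ w = w →
      ∀ v, v ∈ Submodule.span F {w} → (h : Matrix (Fin n) (Fin n) F) *ᵥ v ∈ Submodule.span F {w} := by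
    intro h hh v hv
    obtain ⟨c, rfl⟩ := Submodule.mem_span_singleton.mp hv
    rw [Matrix.mulVec_smul, hh]
    exact Submodule.mem_span_singleton.mpr ⟨c, rfl⟩
  intro v
  constructor
  · intro hv
    exact key g hg v hv
  · intro hv
    have h2 := key g⁻¹ hginv _ hv
    have h3 : ((g⁻¹ : GL (Fin n) F) : Matrix (Fin n) (Fin n) F) *ᵥ
        ((glToMat (Fin n) F) g *ᵥ v) = v := by
      show ((g⁻¹ : GL (Fin n) F) : Matrix (Fin n) (Fin n) F) *ᵥ
        ((g : Matrix (Fin n) (Fin n) F) *ᵥ v) = v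
      rw [Matrix.mulVec_mulVec, ← Units.val_mul, inv_mul_cancel, Units.val_one, Matrix.one_mulVec]
    rw [h3] at h2
    exact h2

end Cfsg.Agent.Lib.Helper30.BhrE1

namespace Cfsg.Agent.Lib.Helper99.Asch

open Cfsg Cfsg.Geo
open scoped MatrixGroups Matrix Kronecker

variable {n : ℕ} {F : Type*} [Field F] [Fintype F]

/-- BHR-[E1]: exact sheet statement. -/
theorem decomp_lines_card_two (hn : 2 ≤ n) {t : ℕ} (D : Fin t → Submodule F (Fin n → F))
    (hD : IsMDecomposition 1 D) (hq : Fintype.card F = 2) :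
    ∃ W : Submodule F (Fin n → F), W ≠ ⊥ ∧ W ≠ ⊤ ∧ decompositionStabilizer D ≤ subspaceStabilizer W := by
  classical
  -- generators of the lines
  have hgen : ∀ i, ∃ v : Fin n → F, v ≠ 0 ∧ v ∈ D i ∧ ∀ x ∈ D i, x = 0 ∨ x = v := by
    intro i
    obtain ⟨v, hv0, hv⟩ := finrank_eq_one_iff'.mp (hD.finrank_eq i)
    refine ⟨(v : Fin n → F), fun h => hv0 (Subtype.ext h), v.2, fun x hx => ?_⟩
    obtain ⟨c, hc⟩ := hv ⟨x, hx⟩
    have hc' : c • (v : Fin n → F) = x := congrArg Subtype.val hc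
    rcases Cfsg.Agent.Lib.Helper30.BhrE1.eq_zero_or_one_of_card_two hq c with rfl | rfl
    · left; rw [← hc', zero_smul]
    · right; rw [← hc', one_smul]
  choose v hv0 hvD hvall using hgen
  set w : Fin n → F := ∑ i, v i with hw
  have ht : 0 < t := lt_of_lt_of_le (by norm_num) hD.two_le
  -- w ≠ 0
  have hw0 : w ≠ 0 := by
    intro h0
    let i0 : Fin t := ⟨0, ht⟩
    have hsplit : v i0 + ∑ j ∈ Finset.univ.erase i0, v j = 0 := by
      rw [Finset.add_sum_erase _ _ (Finset.mem_univ i0)]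
      exact h0
    have hmem : ∑ j ∈ Finset.univ.erase i0, v j ∈ ⨆ j, ⨆ (_ : j ≠ i0), D j := by
      refine Submodule.sum_mem _ (fun j hj => ?_)
      exact Submodule.mem_iSup_of_mem j (Submodule.mem_iSup_of_mem (Finset.ne_of_mem_erase hj) (hvD j))
    have hv' : v i0 = - ∑ j ∈ Finset.univ.erase i0, v j := eq_neg_of_add_eq_zero_left hsplit
    have hmem' : v i0 ∈ ⨆ j, ⨆ (_ : j ≠ i0), D j := by
      rw [hv']
      exact Submodule.neg_mem _ hmem
    have hdisj := hD.indep i0
    exact hv0 i0 (Submodule.disjoint_def.mp hdisj (v i0) (hvD i0) hmem')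
  refine ⟨Submodule.span F {w}, ?_, ?_, ?_⟩
  · rw [Ne, Submodule.span_singleton_eq_bot]
    exact hw0
  · intro htop
    have h1 : Module.finrank F (Submodule.span F {w}) = 1 := finrank_span_singleton hw0
    rw [htop, finrank_top, Module.finrank_fin_fun] at h1
    omega
  · intro g hg
    obtain ⟨σ, hσ⟩ := hg
    apply Cfsg.Agent.Lib.Helper30.BhrE1.mem_subspaceStabilizer_span_of_fix
    -- g v i = v (σ i)
    have hgv : ∀ i, (g : Matrix (Fin n) (Fin n) F) *ᵥ v i = v (σ i) := by
      intro i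
      have hmem : (g : Matrix (Fin n) (Fin n) F) *ᵥ v i ∈ D (σ i) := by
        rw [← hσ i]
        exact Submodule.mem_map.mpr ⟨v i, hvD i, by simp [Matrix.toLin'_apply]⟩
      rcases hvall (σ i) _ hmem with h0 | h1
      · exfalso
        have h2 : ((g⁻¹ : GL (Fin n) F) : Matrix (Fin n) (Fin n) F) *ᵥ
            ((g : Matrix (Fin n) (Fin n) F) *ᵥ v i) = v i := by
          rw [Matrix.mulVec_mulVec, ← Units.val_mul, inv_mul_cancel, Units.val_one, Matrix.one_mulVec]
        rw [h0, Matrix.mulVec_zero] at h2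
        exact hv0 i h2.symm
      · exact h1
    rw [hw, Matrix.mulVec_sum]
    simp_rw [hgv]
    exact Equiv.sum_comp σ v

end Cfsg.Agent.Lib.Helper99.Asch
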