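import Mathlib
import Cfsg.Agent.Lib.Helper79.BrauerN.Defs
import Cfsg.Agent.Lib.Helper78.CharMore
import Cfsg.Agent.Lib.Helper79.ClassCount
import Cfsg.Agent.S1528
import Cfsg.Agent.S4825

set_option autoImplicit false

/-!
Module [E1c] of helper79's Brauer `|G| < p³` project (S0999 / S4701):
in the rigid configuration the characters of `X` with sign `-1` vanish on `N_G(P) ∖ P`.
-/

open Cfsg
open scoped ComplexConjugate
open Cfsg.Agent.Lib.Helper79.BrauerN

namespace Cfsg.Agent.Lib.Helper30.BrauerN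

/-- The restriction of a character to a subgroup is a character. -/
theorem isCharacter_restrict {G : Type*} [Group G] (H : Subgroup G) {χ : G → ℂ}
    (hχ : IsCharacter G χ) : IsCharacter H (fun h : H => χ (h : G)) := by
  obtain ⟨n, ρ, rfl⟩ := hχ
  exact ⟨n, ρ.comp H.subtype, rfl⟩

variable {G : Type*} [Group G] [Finite G] {p : ℕ} [Fact p.Prime] {P : Sylow p G}
  {q t : ℕ} {ε : ℤ} {a : IrrCharacter G → ℤ} {X Y : Finset (IrrCharacter G)}

theorem rigid_Xminus_vanish (D : RigidData p P q t ε a X Y) {χ : IrrCharacter G} (hχ : χ ∈ X)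
    (ha : a χ = -1) {y : G} (hy : y ∈ Subgroup.normalizer ((P : Subgroup G) : Set G))
    (hyP : y ∉ (P : Subgroup G)) : (χ : G → ℂ) y = 0 := by
  classical
  have hp : p.Prime := Fact.out
  set Nn : Subgroup G := Subgroup.normalizer ((P : Subgroup G) : Set G) with hNn
  haveI : Fintype Nn := Fintype.ofFinite _
  set P' : Subgroup Nn := (P : Subgroup G).subgroupOf Nn with hP'
  haveI hnorm : P'.Normal := Subgroup.normal_in_normalizer
  haveI : Fintype P' := Fintype.ofFinite _
  haveI : Fintype (P : Subgroup G) := Fintype.ofFinite _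
  -- centralizer condition
  have hC : ∀ n ∈ P', n ≠ 1 → Subgroup.centralizer ({n} : Set Nn) ≤ P' := by
    intro n hn hn1 m hm
    rw [hP', Subgroup.mem_subgroupOf]
    have hn' : (n : G) ∈ (P : Subgroup G) := hn
    have hn1' : (n : G) ≠ 1 := fun h => hn1 (Subtype.ext h)
    rw [← D.hcent (n : G) hn' hn1', Subgroup.mem_centralizer_singleton_iff]
    have hm' := Subgroup.mem_centralizer_singleton_iff.1 hm
    exact_mod_cast congrArg Subtype.val hm'
  -- the restricted character
  set ψ : Nn → ℂ := fun n : Nn => (χ : G → ℂ) (n : G) with hψdef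
  have hψ : IsCharacter Nn ψ :=
    isCharacter_restrict Nn (Cfsg.Agent.Lib.Helper78.IsIrrCharacter.isCharacter χ.2)
  obtain ⟨m, hm⟩ :=
    (Cfsg.Agent.Lib.Helper78.isCharacter_iff_exists_nat_combination ψ).mp hψ
  have hψapply : ∀ n : Nn, ψ n = ∑ μ : IrrCharacter Nn, (m μ : ℂ) * (μ : Nn → ℂ) n := by
    intro n
    conv_lhs => rw [hm]
    simp [Finset.sum_apply]
  -- the sum of χ over P vanishes
  have hPcard : Fintype.card (P : Subgroup G) = p := by
    rw [← Nat.card_eq_fintype_card]; exact D.hPcard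
  have hsumP : ∑ x : (P : Subgroup G), (χ : G → ℂ) (x : G) = 0 := by
    have h1 : ∀ x : (P : Subgroup G),
        (χ : G → ℂ) (x : G) = (if x = 1 then (p : ℂ) else 0) - 1 := by
      intro x
      by_cases hx : x = 1
      · rw [if_pos hx, hx, Subgroup.coe_one, D.hdegXm χ hχ ha, Nat.cast_sub hp.one_le]
        simp
      · rw [if_neg hx, D.hXval χ hχ (x : G) x.2 (fun h => hx (Subtype.ext h)), ha]
        simp
    rw [Finset.sum_congr rfl (fun x _ => h1 x), Finset.sum_sub_distrib, Finset.sum_ite_eq']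
    simp [hPcard]
  have hsumP' : ∑ u : P', ψ (u : Nn) = 0 := by
    rw [← hsumP]
    let e : P' ≃ (P : Subgroup G) :=
      (Subgroup.subgroupOfEquivOfLe (Subgroup.le_normalizer (H := (P : Subgroup G)))).toEquiv
    apply Fintype.sum_equiv e
    intro u
    rfl
  -- multiplicities
  choose k hk using fun μ : IrrCharacter Nn => Cfsg.Agent.Lib.Helper79.sum_subgroup_irr μ P'
  have hP'card : Nat.card P' = p := by
    rw [← D.hPcard]
    exact Nat.card_congr
      (Subgroup.subgroupOfEquivOfLe (Subgroup.le_normalizer (H := (P : Subgroup G)))).toEquiv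
  have hzero : ∑ μ : IrrCharacter Nn, m μ * (p * k μ) = 0 := by
    have h2 : ∑ u : P', ψ (u : Nn) =
        ((∑ μ : IrrCharacter Nn, m μ * (p * k μ) : ℕ) : ℂ) := by
      have h3 : ∑ u : P', ψ (u : Nn) =
          ∑ u : P', ∑ μ : IrrCharacter Nn, (m μ : ℂ) * (μ : Nn → ℂ) (u : Nn) :=
        Finset.sum_congr rfl (fun (u : P') _ => hψapply (u : Nn))
      rw [h3, Finset.sum_comm]
      push_cast
      apply Finset.sum_congr rfl
      intro μ _
      rw [← Finset.mul_sum, hk μ, hP'card]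
    rw [hsumP'] at h2
    exact_mod_cast h2.symm
  have hterm : ∀ μ : IrrCharacter Nn, m μ = 0 ∨ k μ = 0 := by
    intro μ
    have := (Finset.sum_eq_zero_iff.1 hzero) μ (Finset.mem_univ μ)
    rcases Nat.mul_eq_zero.1 this with h | h
    · exact Or.inl h
    · rcases Nat.mul_eq_zero.1 h with h' | h'
      · exact absurd h' hp.ne_zero
      · exact Or.inr h'
  -- each constituent vanishes at y
  have hyP' : (⟨y, hy⟩ : Nn) ∉ P' := by
    rw [hP', Subgroup.mem_subgroupOf]
    exact hyP
  have hvan : ∀ μ : IrrCharacter Nn, m μ ≠ 0 → (μ : Nn → ℂ) ⟨y, hy⟩ = 0 := by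
    intro μ hmμ
    have hkμ : k μ = 0 := (hterm μ).resolve_left hmμ
    have hsum0 : ∑ u : P', (μ : Nn → ℂ) (u : Nn) = 0 := by
      rw [hk μ, hkμ]; simp
    have hex : ∃ n ∈ P', (μ : Nn → ℂ) n ≠ (μ : Nn → ℂ) 1 := by
      by_contra hcon
      push Not at hcon
      have h3 : ∑ u : P', (μ : Nn → ℂ) (u : Nn) = (p : ℂ) * (μ : Nn → ℂ) 1 := by
        have h4 : ∑ u : P', (μ : Nn → ℂ) (u : Nn) = ∑ _u : P', (μ : Nn → ℂ) 1 :=
          Finset.sum_congr rfl (fun (u : P') _ => hcon (u : Nn) u.2)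
        rw [h4, Finset.sum_const,
          Finset.card_univ, ← Nat.card_eq_fintype_card, hP'card]
        simp
      rw [hsum0] at h3
      have hp0 : (p : ℂ) ≠ 0 := by exact_mod_cast hp.ne_zero
      have := Cfsg.Agent.Lib.Helper78.IsIrrCharacter.apply_one_ne_zero μ.2
      rcases mul_eq_zero.1 h3.symm with h | h
      · exact hp0 h
      · exact this h
    obtain ⟨φ, _, hφ⟩ := Cfsg.Agent.S1528.result P' hC (μ : Nn → ℂ) μ.2 hex
    rw [hφ]
    exact Cfsg.Agent.S4825.indFun_eq_zero_of_not_mem P' φ hyP'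
  have hfin : ψ ⟨y, hy⟩ = 0 := by
    rw [hψapply]
    apply Finset.sum_eq_zero
    intro μ _
    by_cases hmμ : m μ = 0
    · rw [hmμ]; simp
    · rw [hvan μ hmμ, mul_zero]
  exact hfin

end Cfsg.Agent.Lib.Helper30.BrauerN
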