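/-
helper30: basic lemmas on conjugacy class sizes with coprime sizes (towards S4255,
the Bertram–Herzog–Mann theorem on disconnected class-size prime graphs).
-/
import Mathlib
import Cfsg.Agent.Lib.Helper9.CoprimeIndex

set_option autoImplicit false
open scoped Pointwise

namespace Cfsg.Agent.Lib.Helper30.CG

variable {G : Type*} [Group G]

/-- class size, as the index of the centralizer -/
noncomputable def cs (g : G) : ℕ := (Subgroup.centralizer ({g} : Set G)).index

/-- conjugacy class, as a set -/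
def cl (x : G) : Set G := Set.range (fun g : G => g * x * g⁻¹)

theorem mem_cl {x y : G} : y ∈ cl x ↔ ∃ g, g * x * g⁻¹ = y := Iff.rfl

theorem self_mem_cl (x : G) : x ∈ cl x := ⟨1, by simp⟩

theorem conj_mem_cl {x y : G} (g : G) (h : y ∈ cl x) : g * y * g⁻¹ ∈ cl x := by
  obtain ⟨a, rfl⟩ := h
  exact ⟨g * a, by group⟩

theorem cl_eq_orbit (x : G) : cl x = MulAction.orbit (ConjAct G) x := by
  ext y
  rw [ConjAct.mem_orbit_conjAct, isConj_iff, mem_cl]
  constructor
  · rintro ⟨g, rfl⟩
    exact ⟨g⁻¹, by group⟩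
  · rintro ⟨g, hg⟩
    exact ⟨g⁻¹, by rw [← hg]; group⟩

theorem ncard_cl (x : G) : (cl x).ncard = cs x := by
  rw [cl_eq_orbit, cs, ← MulAction.index_stabilizer, Subgroup.centralizer_eq_comap_stabilizer]
  exact (Subgroup.index_comap_of_surjective _ (ConjAct.toConjAct (G := G)).surjective).symm

theorem cl_conj (x g : G) : cl (g * x * g⁻¹) = cl x := by
  ext y
  constructor
  · rintro ⟨a, rfl⟩
    exact ⟨a * g, by group⟩
  · rintro ⟨a, rfl⟩
    exact ⟨a * g⁻¹, by group⟩

theorem cs_conj (x g : G) : cs (g * x * g⁻¹) = cs x := by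
  rw [← ncard_cl, ← ncard_cl, cl_conj]

theorem cs_pos [Finite G] (x : G) : 0 < cs x :=
  Nat.pos_of_ne_zero Subgroup.index_ne_zero_of_finite

theorem cs_eq_one_iff (x : G) : cs x = 1 ↔ x ∈ Subgroup.center G := by
  rw [cs, Subgroup.index_eq_one, Subgroup.mem_center_iff]
  constructor
  · intro h g
    have : g ∈ Subgroup.centralizer ({x} : Set G) := h ▸ Subgroup.mem_top g
    rw [Subgroup.mem_centralizer_iff] at this
    exact (this x rfl).symm
  · intro h
    rw [eq_top_iff]
    intro g _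
    rw [Subgroup.mem_centralizer_iff]
    rintro _ rfl
    exact (h g).symm

theorem mem_centralizer_singleton {x g : G} :
    g ∈ Subgroup.centralizer ({x} : Set G) ↔ x * g = g * x := by
  rw [Subgroup.mem_centralizer_iff]
  exact ⟨fun h => h x rfl, fun h y hy => by rw [Set.mem_singleton_iff.mp hy]; exact h⟩

/-! ### right stabilizer of a set -/

/-- the right-multiplication stabilizer of a subset -/
def rstab (X : Set G) : Subgroup G where
  carrier := {t | ∀ x, x * t ∈ X ↔ x ∈ X}
  one_mem' := by intro x; simp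
  mul_mem' := by
    intro s t hs ht x
    rw [← mul_assoc, ht, hs]
  inv_mem' := by
    intro t ht x
    have := ht (x * t⁻¹)
    rw [inv_mul_cancel_right] at this
    exact this.symm

theorem mem_rstab {X : Set G} {t : G} : t ∈ rstab X ↔ ∀ x, x * t ∈ X ↔ x ∈ X := Iff.rfl

theorem mem_rstab_of_forall [Finite G] {X : Set G} {t : G} (h : ∀ x ∈ X, x * t ∈ X) :
    t ∈ rstab X := by
  have himg : (fun x => x * t) '' X = X := by
    apply Set.eq_of_subset_of_ncard_le
    · rintro _ ⟨x, hx, rfl⟩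
      exact h x hx
    · rw [Set.ncard_image_of_injective _ (mul_left_injective t)]
    · exact Set.toFinite X
  intro x
  constructor
  · intro hx
    rw [← himg] at hx
    obtain ⟨y, hy, hyx⟩ := hx
    have : y = x := mul_left_injective t hyx
    exact this ▸ hy
  · exact h x

theorem rstab_normal [Finite G] {X : Set G} (hX : ∀ g x, x ∈ X → g * x * g⁻¹ ∈ X) :
    (rstab X).Normal := by
  constructor
  intro t ht g
  apply mem_rstab_of_forall
  intro x hx
  have h1 : g⁻¹ * x * g ∈ X := by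
    have := hX g⁻¹ x hx
    rwa [inv_inv] at this
  have h2 : g⁻¹ * x * g * t ∈ X := (ht _).mpr h1
  have h3 := hX g _ h2
  have : g * (g⁻¹ * x * g * t) * g⁻¹ = x * (g * t * g⁻¹) := by group
  rwa [this] at h3

theorem card_rstab_dvd [Finite G] (X : Set G) : Nat.card (rstab X) ∣ X.ncard := by
  have h1 : (X * (rstab X : Set G)) = X := by
    ext y
    constructor
    · rintro ⟨x, hx, t, ht, rfl⟩
      exact (ht x).mpr hx
    · intro hy
      exact ⟨y, hy, 1, (rstab X).one_mem, mul_one y⟩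
  have h2 := Subgroup.card_mul_eq_card_subgroup_mul_card_quotient (rstab X) X
  rw [h1, Nat.card_coe_set_eq] at h2
  exact ⟨_, h2⟩

/-! ### the key lemma on products of classes of coprime size -/

theorem conj_mul_conj_mem_cl [Finite G] (b c : G) (hcop : (cs b).Coprime (cs c)) (h g : G) :
    (h * c * h⁻¹) * (g * b * g⁻¹) ∈ cl (c * b) := by
  obtain ⟨u, hu, v, hv, huv⟩ := Cfsg.Agent.Lib.Helper9.exists_mul_of_coprime_index
    (Subgroup.centralizer ({c} : Set G)) (Subgroup.centralizer ({b} : Set G)) hcop.symm (h⁻¹ * g)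
  rw [mem_centralizer_singleton] at hu hv
  have hg : g = h * (u * v) := by rw [← huv]; group
  have hv' : v * b * v⁻¹ = b := by rw [← hv]; group
  refine ⟨h * u, ?_⟩
  calc (h * u) * (c * b) * (h * u)⁻¹ = h * (u * c) * b * u⁻¹ * h⁻¹ := by group
    _ = h * (c * u) * b * u⁻¹ * h⁻¹ := by rw [hu]
    _ = h * c * u * (v * b * v⁻¹) * u⁻¹ * h⁻¹ := by rw [hv']; group
    _ = (h * c * h⁻¹) * (g * b * g⁻¹) := by rw [hg]; group

theorem cs_mul_dvd [Finite G] (b c : G) (hcop : (cs b).Coprime (cs c)) :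
    cs (c * b) ∣ cs c * cs b := by
  have h1 : Subgroup.centralizer ({c} : Set G) ⊓ Subgroup.centralizer ({b} : Set G) ≤
      Subgroup.centralizer ({c * b} : Set G) := by
    intro x hx
    rw [Subgroup.mem_inf, mem_centralizer_singleton, mem_centralizer_singleton] at hx
    rw [mem_centralizer_singleton, mul_assoc, hx.2, ← mul_assoc, hx.1, mul_assoc]
  have h2 := Subgroup.index_dvd_of_le h1
  rwa [Cfsg.Agent.Lib.Helper9.index_inf_of_coprime _ _ hcop.symm] at h2

theorem key_mul [Finite G] (b c : G) (hcop : (cs b).Coprime (cs c)) (hlt : cs b < cs c)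
    (h : (cs (c * b)).Coprime (cs c) ∨ (cs (c * b)).Coprime (cs b)) :
    cs (c * b) = cs c ∧ ∀ g, g * b * g⁻¹ * b⁻¹ ∈ rstab (cl c) := by
  have hsub : (fun y => y * b) '' cl c ⊆ cl (c * b) := by
    rintro _ ⟨y, ⟨a, rfl⟩, rfl⟩
    have := conj_mul_conj_mem_cl b c hcop a 1
    simpa using this
  have hle : cs c ≤ cs (c * b) := by
    rw [← ncard_cl c, ← ncard_cl (c * b), ← Set.ncard_image_of_injective _ (mul_left_injective b)]
    exact Set.ncard_le_ncard hsub (Set.toFinite _)
  have hdvd := cs_mul_dvd b c hcop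
  have heq : cs (c * b) = cs c := by
    rcases h with h | h
    · exfalso
      have h1 : cs (c * b) ∣ cs b := h.dvd_of_dvd_mul_left hdvd
      have h2 := Nat.le_of_dvd (cs_pos b) h1
      omega
    · have h1 : cs (c * b) ∣ cs c := h.dvd_of_dvd_mul_right hdvd
      have h2 := Nat.le_of_dvd (cs_pos c) h1
      omega
  refine ⟨heq, ?_⟩
  have himg : (fun y => y * b) '' cl c = cl (c * b) := by
    apply Set.eq_of_subset_of_ncard_le hsub _ (Set.toFinite _)
    rw [Set.ncard_image_of_injective _ (mul_left_injective b), ncard_cl, ncard_cl, heq]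
  intro g
  apply mem_rstab_of_forall
  rintro _ ⟨a, rfl⟩
  have h1 := conj_mul_conj_mem_cl b c hcop a g
  rw [← himg] at h1
  obtain ⟨y, hy, hyb⟩ := h1
  have : a * c * a⁻¹ * (g * b * g⁻¹ * b⁻¹) = y := by
    have hyb' : y * b = a * c * a⁻¹ * (g * b * g⁻¹) := hyb
    rw [eq_comm, ← mul_inv_eq_iff_eq_mul] at hyb'
    rw [← hyb']
    group
  rw [this]
  exact hy

/-! ### index lemmas -/

theorem relIndex_dvd_index_of_normal_right [Finite G] (C K : Subgroup G) [K.Normal] :
    C.relIndex K ∣ C.index := by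
  have h1 : (C ⊓ K).relIndex K * K.index = (C ⊓ K).index := Subgroup.relIndex_mul_index inf_le_right
  have h2 : (C ⊓ K).relIndex C * C.index = (C ⊓ K).index := Subgroup.relIndex_mul_index inf_le_left
  rw [Subgroup.inf_relIndex_right] at h1
  rw [Subgroup.inf_relIndex_left] at h2
  have h3 : K.relIndex (C ⊔ K) * (C ⊔ K).index = K.index := Subgroup.relIndex_mul_index le_sup_right
  rw [Subgroup.relIndex_sup_right] at h3
  have h4 : 0 < K.relIndex C := by
    have : K.relIndex C ∣ Nat.card C := Subgroup.relIndex_dvd_card _ _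
    exact Nat.pos_of_dvd_of_pos this Nat.card_pos
  refine ⟨(C ⊔ K).index, ?_⟩
  have h5 : K.relIndex C * (C.relIndex K * (C ⊔ K).index) = K.relIndex C * C.index := by
    rw [h2, ← h1, ← h3]; ring
  exact (Nat.eq_of_mul_eq_mul_left h4 h5).symm

/-- a normal subgroup of order coprime to the index of `C` lies in `C` -/
theorem le_of_normal_of_coprime [Finite G] (C K : Subgroup G) [K.Normal]
    (h : (Nat.card K).Coprime C.index) : K ≤ C := by
  rw [← Subgroup.relIndex_eq_one]
  exact Nat.eq_one_of_dvd_coprimes h (Subgroup.relIndex_dvd_card _ _)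
    (relIndex_dvd_index_of_normal_right C K)

/-- the commutator map `k ↦ k b k⁻¹ b⁻¹` is a homomorphism `K → N` when `N ≤ K` centralizes `K` -/
theorem relIndex_centralizer_dvd_card (K N : Subgroup G) (b : G) (hNK : N ≤ K)
    (hcent : ∀ u ∈ N, ∀ k ∈ K, u * k = k * u) (hcomm : ∀ k ∈ K, k * b * k⁻¹ * b⁻¹ ∈ N) :
    (Subgroup.centralizer ({b} : Set G)).relIndex K ∣ Nat.card N := by
  let φ : K →* N := MonoidHom.mk' (fun k => ⟨k * b * k⁻¹ * b⁻¹, hcomm k k.2⟩) (by
    intro k₁ k₂
    apply Subtype.ext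
    have h2 := hcent _ (hcomm k₂ k₂.2) k₁ k₁.2
    have h12 := hcent _ (hcomm k₂ k₂.2) _ (hNK (hcomm k₁ k₁.2))
    change ((k₁ : G) * k₂) * b * ((k₁ : G) * k₂)⁻¹ * b⁻¹ =
      (k₁ * b * (k₁ : G)⁻¹ * b⁻¹) * (k₂ * b * (k₂ : G)⁻¹ * b⁻¹)
    calc ((k₁ : G) * k₂) * b * ((k₁ : G) * k₂)⁻¹ * b⁻¹
        = k₁ * (k₂ * b * (k₂ : G)⁻¹ * b⁻¹) * b * (k₁ : G)⁻¹ * b⁻¹ := by group
      _ = (k₂ * b * (k₂ : G)⁻¹ * b⁻¹) * k₁ * b * (k₁ : G)⁻¹ * b⁻¹ := by rw [h2]
      _ = (k₂ * b * (k₂ : G)⁻¹ * b⁻¹) * (k₁ * b * (k₁ : G)⁻¹ * b⁻¹) := by group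
      _ = _ := h12)
  have hker : φ.ker = (Subgroup.centralizer ({b} : Set G)).subgroupOf K := by
    ext k
    rw [MonoidHom.mem_ker, Subgroup.mem_subgroupOf, mem_centralizer_singleton]
    constructor
    · intro h
      have h1 : (k : G) * b * (k : G)⁻¹ * b⁻¹ = 1 := congrArg Subtype.val h
      rw [mul_inv_eq_one, mul_inv_eq_iff_eq_mul] at h1
      exact h1.symm
    · intro h
      apply Subtype.ext
      change (k : G) * b * (k : G)⁻¹ * b⁻¹ = 1
      rw [mul_inv_eq_one, mul_inv_eq_iff_eq_mul]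
      exact h.symm
  rw [Subgroup.relIndex, ← hker, Subgroup.index_ker]
  exact Subgroup.card_subgroup_dvd_card _

open scoped commutatorElement in
/-- if every `b ∈ A` is central modulo the normal subgroup `T`, then `[⟨A^G⟩, G] ≤ T` -/
theorem commutator_normalClosure_le (A : Set G) (T : Subgroup G) [T.Normal]
    (h : ∀ b ∈ A, ∀ g, g * b * g⁻¹ * b⁻¹ ∈ T) :
    ⁅Subgroup.normalClosure A, (⊤ : Subgroup G)⁆ ≤ T := by
  have h1 : Subgroup.normalClosure A ≤
      (Subgroup.center (G ⧸ T)).comap (QuotientGroup.mk' T) := by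
    apply Subgroup.normalClosure_le_normal
    intro b hb
    rw [SetLike.mem_coe, Subgroup.mem_comap, Subgroup.mem_center_iff]
    intro q
    obtain ⟨g, rfl⟩ := QuotientGroup.mk_surjective q
    change (QuotientGroup.mk' T) g * (QuotientGroup.mk' T) b =
      (QuotientGroup.mk' T) b * (QuotientGroup.mk' T) g
    rw [← commutatorElement_eq_one_iff_mul_comm,
      ← map_commutatorElement (QuotientGroup.mk' T), QuotientGroup.mk'_apply,
      QuotientGroup.eq_one_iff, commutatorElement_def]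
    exact h b hb g
  rw [Subgroup.commutator_le]
  intro k hk g _
  have h2 := h1 hk
  rw [Subgroup.mem_comap, Subgroup.mem_center_iff] at h2
  rw [← QuotientGroup.eq_one_iff, ← QuotientGroup.mk'_apply, map_commutatorElement,
    commutatorElement_eq_one_iff_mul_comm]
  exact (h2 ((QuotientGroup.mk' T) g)).symm

end Cfsg.Agent.Lib.Helper30.CG
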