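/-
helper30: structure of a finite group whose class sizes are all `S`-numbers or `Sᶜ`-numbers
(towards S4255, the Bertram–Herzog–Mann theorem on disconnected class-size prime graphs).
-/
import Mathlib
import Cfsg.Agent.Lib.Helper30.ClassGraphA
import Cfsg.Agent.S4160
import Cfsg.Agent.Lib.Helper73.ConjUnion

set_option autoImplicit false
open scoped Pointwise commutatorElement

namespace Cfsg.Agent.Lib.Helper30.CG

/-- all prime divisors lie in `S` -/
def PiNum (S : Set ℕ) (m : ℕ) : Prop := ∀ p, p.Prime → p ∣ m → p ∈ S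

theorem PiNum.of_dvd {S : Set ℕ} {m k : ℕ} (h : PiNum S m) (hk : k ∣ m) : PiNum S k :=
  fun p hp hpk => h p hp (hpk.trans hk)

theorem PiNum.one (S : Set ℕ) : PiNum S 1 := by
  intro p hp h1
  exact absurd (Nat.dvd_one.mp h1) hp.one_lt.ne'

theorem PiNum.coprime {S : Set ℕ} {a b : ℕ} (ha : PiNum S a) (hb : PiNum Sᶜ b) : a.Coprime b :=
  Nat.coprime_of_dvd fun p hp hpa hpb => hb p hp hpb (ha p hp hpa)

theorem PiNum.eq_one {S : Set ℕ} {a : ℕ} (ha : PiNum S a) (hb : PiNum Sᶜ a) : a = 1 := by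
  by_contra h1
  obtain ⟨p, hp, hpa⟩ := Nat.exists_prime_and_dvd h1
  exact hb p hp hpa (ha p hp hpa)

variable {G : Type*} [Group G] {S : Set ℕ}

/-- elements whose class size is an `S`-number -/
def AS (G : Type*) [Group G] (S : Set ℕ) : Set G := {g | PiNum S (cs g)}

/-- the normal subgroup generated by `AS` -/
def KS (G : Type*) [Group G] (S : Set ℕ) : Subgroup G := Subgroup.normalClosure (AS G S)

/-- `[K, G]` -/
def NS (G : Type*) [Group G] (S : Set ℕ) : Subgroup G := ⁅KS G S, (⊤ : Subgroup G)⁆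

instance KS_normal : (KS G S).Normal := Subgroup.normalClosure_normal

instance NS_normal : (NS G S).Normal := Subgroup.commutator_normal _ _

theorem NS_le_KS : NS G S ≤ KS G S := Subgroup.commutator_le_left _ _

theorem AS_sub_KS {b : G} (hb : PiNum S (cs b)) : b ∈ KS G S :=
  Subgroup.subset_normalClosure hb

theorem comm_mem_NS {k : G} (hk : k ∈ KS G S) (g : G) :
    k * g * k⁻¹ * g⁻¹ ∈ NS G S ∧ g * k * g⁻¹ * k⁻¹ ∈ NS G S := by
  constructor
  · rw [← commutatorElement_def]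
    exact Subgroup.commutator_mem_commutator hk (Subgroup.mem_top g)
  · rw [← commutatorElement_def, NS, Subgroup.commutator_comm]
    exact Subgroup.commutator_mem_commutator (Subgroup.mem_top g) hk

/-- the standing hypotheses, in one orientation -/
structure Hyp (G : Type*) [Group G] (S : Set ℕ) : Prop where
  D : ∀ g : G, PiNum S (cs g) ∨ PiNum Sᶜ (cs g)
  big : ∃ c₀ : G, PiNum Sᶜ (cs c₀) ∧ ∀ b : G, PiNum S (cs b) → cs b < cs c₀
  nontriv : ∃ g₀ : G, ∃ p ∈ S, p.Prime ∧ p ∣ cs g₀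

variable [Finite G]

theorem Hyp.cop_or (h : Hyp G S) {b c : G} (hb : PiNum S (cs b)) (hc : PiNum Sᶜ (cs c)) (x : G) :
    (cs x).Coprime (cs c) ∨ (cs x).Coprime (cs b) := by
  rcases h.D x with hx | hx
  · left; exact hx.coprime hc
  · right; exact (hb.coprime hx).symm

theorem Hyp.N_le_rstab (h : Hyp G S) (c : G) (hc : PiNum Sᶜ (cs c))
    (hlt : ∀ b : G, PiNum S (cs b) → cs b < cs c) : NS G S ≤ rstab (cl c) := by
  have : (rstab (cl c)).Normal := rstab_normal (fun g x hx => conj_mem_cl g hx)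
  apply commutator_normalClosure_le
  intro b hb g
  exact (key_mul b c (PiNum.coprime hb hc) (hlt b hb) (h.cop_or hb hc _)).2 g

theorem Hyp.card_N (h : Hyp G S) : PiNum Sᶜ (Nat.card (NS G S)) := by
  obtain ⟨c₀, hc₀, hlt⟩ := h.big
  have h1 := Subgroup.card_dvd_of_le (h.N_le_rstab c₀ hc₀ hlt)
  have h2 := card_rstab_dvd (cl c₀)
  rw [ncard_cl] at h2
  exact hc₀.of_dvd (h1.trans h2)

theorem Hyp.N_le_centralizer (h : Hyp G S) {b : G} (hb : PiNum S (cs b)) :
    NS G S ≤ Subgroup.centralizer ({b} : Set G) :=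
  le_of_normal_of_coprime _ _ (PiNum.coprime hb h.card_N).symm

theorem Hyp.N_comm_K (h : Hyp G S) {u k : G} (hu : u ∈ NS G S) (hk : k ∈ KS G S) :
    u * k = k * u := by
  have h1 : KS G S ≤ Subgroup.centralizer (NS G S : Set G) := by
    apply Subgroup.normalClosure_le_normal
    intro b hb
    rw [SetLike.mem_coe, Subgroup.mem_centralizer_iff]
    intro v hv
    have := h.N_le_centralizer hb hv
    rw [mem_centralizer_singleton] at this
    exact this.symm
  have h2 := h1 hk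
  rw [Subgroup.mem_centralizer_iff] at h2
  exact h2 u hu

theorem Hyp.K_le_centralizer (h : Hyp G S) {b : G} (hb : PiNum S (cs b)) :
    KS G S ≤ Subgroup.centralizer ({b} : Set G) := by
  rw [← Subgroup.relIndex_eq_one]
  have h1 := relIndex_centralizer_dvd_card (KS G S) (NS G S) b NS_le_KS
    (fun u hu k hk => h.N_comm_K hu hk) (fun k hk => (comm_mem_NS hk b).1)
  have h2 := relIndex_dvd_index_of_normal_right (Subgroup.centralizer ({b} : Set G)) (KS G S)
  exact Nat.eq_one_of_dvd_coprimes (PiNum.coprime hb h.card_N) h2 h1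

theorem Hyp.K_comm (h : Hyp G S) {x y : G} (hx : x ∈ KS G S) (hy : y ∈ KS G S) :
    x * y = y * x := by
  have h1 : KS G S ≤ Subgroup.centralizer (KS G S : Set G) := by
    apply Subgroup.normalClosure_le_normal
    intro b hb
    rw [SetLike.mem_coe, Subgroup.mem_centralizer_iff]
    intro v hv
    have := h.K_le_centralizer hb hv
    rw [mem_centralizer_singleton] at this
    exact this.symm
  have h2 := h1 hy
  rw [Subgroup.mem_centralizer_iff] at h2
  exact h2 x hx

theorem cs_one : cs (1 : G) = 1 := by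
  rw [cs_eq_one_iff]; exact Subgroup.one_mem _

theorem Hyp.K_sub_A (h : Hyp G S) {k : G} (hk : k ∈ KS G S) : PiNum S (cs k) := by
  by_contra hnS
  have hS' : PiNum Sᶜ (cs k) := (h.D k).resolve_left hnS
  have hk1 : cs k ≠ 1 := fun h1 => hnS (by rw [h1]; exact PiNum.one S)
  by_cases hcase : ∃ b : G, PiNum S (cs b) ∧ cs k < cs b
  · obtain ⟨b, hb, hlt⟩ := hcase
    have hcop : (cs k).Coprime (cs b) := (PiNum.coprime hb hS').symm
    have hkm := key_mul k b hcop hlt (h.cop_or hb hS' _).symm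
    have hbot : ∀ g, g * k * g⁻¹ * k⁻¹ = 1 := by
      intro g
      have h1 := hkm.2 g
      have h2 := (comm_mem_NS hk g).2
      have h3 : orderOf (g * k * g⁻¹ * k⁻¹) ∣ Nat.card (rstab (cl b)) :=
        Subgroup.orderOf_dvd_natCard _ h1
      have h4 : orderOf (g * k * g⁻¹ * k⁻¹) ∣ Nat.card (NS G S) :=
        Subgroup.orderOf_dvd_natCard _ h2
      have h5 : PiNum S (Nat.card (rstab (cl b))) := by
        have := card_rstab_dvd (cl b)
        rw [ncard_cl] at this
        exact hb.of_dvd this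
      have : orderOf (g * k * g⁻¹ * k⁻¹) = 1 :=
        Nat.eq_one_of_dvd_coprimes (PiNum.coprime h5 h.card_N) h3 h4
      exact orderOf_eq_one_iff.mp this
    apply hk1
    rw [cs_eq_one_iff, Subgroup.mem_center_iff]
    intro g
    have := hbot g
    rw [mul_inv_eq_one, mul_inv_eq_iff_eq_mul] at this
    exact this
  · push Not at hcase
    have hlt : ∀ b : G, PiNum S (cs b) → cs b < cs k := by
      intro b hb
      rcases (hcase b hb).lt_or_eq with h1 | h1
      · exact h1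
      · exact absurd (h1 ▸ hb) hnS
    let W : Set G := {y | cs y = cs k}
    have hWconj : ∀ g x, x ∈ W → g * x * g⁻¹ ∈ W := by
      intro g x hx
      show cs _ = _
      rw [cs_conj]; exact hx
    have : (rstab W).Normal := rstab_normal hWconj
    have hKW : KS G S ≤ rstab W := by
      apply Subgroup.normalClosure_le_normal
      intro b hb
      apply mem_rstab_of_forall
      intro y hy
      have hy' : cs y = cs k := hy
      have := key_mul b y (PiNum.coprime hb (hy' ▸ hS')) (hy' ▸ hlt b hb)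
        (h.cop_or hb (hy' ▸ hS') _)
      show cs (y * b) = cs k
      rw [this.1, hy']
    have h1 := hKW ((KS G S).inv_mem hk)
    have h2 : k * k⁻¹ ∈ W := (h1 k).mpr rfl
    rw [mul_inv_cancel] at h2
    apply hk1
    have h3 : cs (1 : G) = cs k := h2
    rw [← h3, cs_one]

theorem Hyp.lt_of_not_mem (h : Hyp G S) {c b : G} (hc : c ∉ KS G S) (hb : b ∈ KS G S) :
    cs b < cs c := by
  have hbS := h.K_sub_A hb
  have hcnS : ¬ PiNum S (cs c) := fun hh => hc (AS_sub_KS hh)
  have hcS' := (h.D c).resolve_left hcnS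
  have hcop := PiNum.coprime hbS hcS'
  by_contra hnlt
  push Not at hnlt
  rcases hnlt.lt_or_eq with hlt | heq
  · have := key_mul c b hcop.symm hlt (h.cop_or hbS hcS' _).symm
    have h1 : PiNum S (cs (b * c)) := this.1 ▸ hbS
    have h2 : b * c ∈ KS G S := AS_sub_KS h1
    exact hc ((Subgroup.mul_mem_cancel_left _ hb).mp h2)
  · exact hcnS (heq ▸ hbS)

theorem Hyp.compl_of_not_mem (h : Hyp G S) {c : G} (hc : c ∉ KS G S) : PiNum Sᶜ (cs c) :=
  (h.D c).resolve_left (fun hh => hc (AS_sub_KS hh))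

theorem Hyp.exists_conj (h : Hyp G S) {c u : G} (hc : c ∉ KS G S) (hu : u ∈ NS G S) :
    ∃ g, g * c * g⁻¹ = c * u := by
  have h1 := h.N_le_rstab c (h.compl_of_not_mem hc)
    (fun b hb => h.lt_of_not_mem hc (AS_sub_KS hb))
  exact ((h1 hu) c).mpr (self_mem_cl c)

/-- if `C_N(x) = 1` then `u ↦ [u,x]` is onto `N` -/
theorem surj_comm (N : Subgroup G) [N.Normal] (x : G)
    (hx : ∀ u ∈ N, u * x = x * u → u = 1) (v : G) (hv : v ∈ N) :
    ∃ u ∈ N, u * x * u⁻¹ * x⁻¹ = v := by
  have hmem : ∀ u : N, (u : G) * x * (u : G)⁻¹ * x⁻¹ ∈ N := by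
    intro u
    have h1 : x * (u : G)⁻¹ * x⁻¹ ∈ N := Subgroup.Normal.conj_mem inferInstance _ (N.inv_mem u.2) x
    have h2 := N.mul_mem u.2 h1
    have : (u : G) * (x * (u : G)⁻¹ * x⁻¹) = (u : G) * x * (u : G)⁻¹ * x⁻¹ := by group
    rwa [this] at h2
  let f : N → N := fun u => ⟨(u : G) * x * (u : G)⁻¹ * x⁻¹, hmem u⟩
  have hinj : Function.Injective f := by
    intro u u' huu
    have h1 : (u : G) * x * (u : G)⁻¹ * x⁻¹ = (u' : G) * x * (u' : G)⁻¹ * x⁻¹ :=
      congrArg Subtype.val huu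
    have h2 : (u' : G)⁻¹ * u * x = x * ((u' : G)⁻¹ * u) := by
      have h3 : (u : G) * x * (u : G)⁻¹ = (u' : G) * x * (u' : G)⁻¹ := mul_right_cancel h1
      calc (u' : G)⁻¹ * u * x = (u' : G)⁻¹ * ((u : G) * x * (u : G)⁻¹) * u := by group
        _ = (u' : G)⁻¹ * ((u' : G) * x * (u' : G)⁻¹) * u := by rw [h3]
        _ = x * ((u' : G)⁻¹ * u) := by group
    have h4 := hx _ (N.mul_mem (N.inv_mem u'.2) u.2) h2
    apply Subtype.ext
    exact (inv_mul_eq_one.mp h4).symm
  have hsurj := Finite.injective_iff_surjective.mp hinj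
  obtain ⟨u, hu⟩ := hsurj ⟨v, hv⟩
  exact ⟨u, u.2, congrArg Subtype.val hu⟩

/-- properties of the chosen element `d` -/
structure DHyp (G : Type*) [Group G] (S : Set ℕ) (d : G) : Prop where
  notMem : d ∉ KS G S
  cent : ∀ u ∈ NS G S, u ∈ Subgroup.centralizer ({d} : Set G) → u = 1
  comm : ∀ g : G, g * d * g⁻¹ * d⁻¹ ∈ NS G S

theorem Hyp.exists_d (h : Hyp G S) : ∃ d : G, DHyp G S d := by
  obtain ⟨g₀, p, hpS, hp, hpg⟩ := h.nontriv
  have : Fact p.Prime := ⟨hp⟩
  have hg₀S : PiNum S (cs g₀) := (h.D g₀).resolve_right (fun hh => hh p hp hpg hpS)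
  obtain ⟨P⟩ : Nonempty (Sylow p G) := inferInstance
  have hex : ∃ d ∈ (P : Subgroup G), d ∉ KS G S := by
    by_contra hcon
    push Not at hcon
    have h1 : (P : Subgroup G) ≤ Subgroup.centralizer ({g₀} : Set G) :=
      fun x hx => h.K_le_centralizer hg₀S (hcon x hx)
    have h2 := Subgroup.index_dvd_of_le h1
    exact P.not_dvd_index (hpg.trans h2)
  obtain ⟨d, hdP, hdK⟩ := hex
  refine ⟨d, hdK, ?_, ?_⟩
  · intro u hu hud
    rw [mem_centralizer_singleton] at hud
    obtain ⟨g, hg⟩ := h.exists_conj hdK hu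
    have h1 : orderOf d = orderOf (d * u) :=
      SemiconjBy.orderOf_eq g (show g * d = d * u * g by rw [← hg]; group)
    obtain ⟨j, hj⟩ := P.isPGroup' ⟨d, hdP⟩
    have hj' : d ^ (p ^ j) = 1 := by simpa using congrArg Subtype.val hj
    have h2 : orderOf d ∣ p ^ j := orderOf_dvd_of_pow_eq_one hj'
    have h3 : PiNum S (p ^ j) := by
      intro q hq hqp
      have := (Nat.prime_dvd_prime_iff_eq hq hp).mp (hq.dvd_of_dvd_pow hqp)
      rw [this]; exact hpS
    have h4 : PiNum Sᶜ (orderOf u) := h.card_N.of_dvd (Subgroup.orderOf_dvd_natCard _ hu)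
    have hcop : (orderOf d).Coprime (orderOf u) := PiNum.coprime (h3.of_dvd h2) h4
    have hcomm : Commute d u := hud
    have h5 := hcomm.orderOf_mul_eq_mul_orderOf_of_coprime hcop
    rw [← h1] at h5
    have h6 : 0 < orderOf d := orderOf_pos d
    have h7 : orderOf u = 1 := by nlinarith
    exact orderOf_eq_one_iff.mp h7
  · set M : Subgroup G := KS G S ⊔ Subgroup.centralizer ((P : Subgroup G) : Set G) with hM
    have hMtop : M = ⊤ := by
      by_contra hne
      obtain ⟨x, hx⟩ := Cfsg.Agent.Lib.Helper73.exists_not_mem_conj_of_ne_top M hne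
      by_cases hxK : x ∈ KS G S
      · apply hx 1
        rw [Cfsg.Agent.Lib.Helper73.mem_conj_smul_iff]
        have : (1 : G)⁻¹ * x * 1 = x := by group
        rw [this]
        exact (le_sup_left : KS G S ≤ M) hxK
      · have hxS' := h.compl_of_not_mem hxK
        have hnp : ¬ p ∣ (Subgroup.centralizer ({x} : Set G)).index :=
          fun hh => hxS' p hp hh hpS
        obtain ⟨g, c, hc, hxg⟩ := Cfsg.Agent.S4160.exists_conj_mem_centralizer P x hnp
        apply hx g
        rw [Cfsg.Agent.Lib.Helper73.mem_conj_smul_iff, hxg]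
        have : g⁻¹ * (g * c * g⁻¹) * g = c := by group
        rw [this]
        exact (le_sup_right : _ ≤ M) hc
    intro g
    have hg : g ∈ M := hMtop ▸ Subgroup.mem_top g
    rw [hM, Subgroup.mem_sup_of_normal_left] at hg
    obtain ⟨k, hk, c, hc, rfl⟩ := hg
    rw [Subgroup.mem_centralizer_iff] at hc
    have hcd : d * c = c * d := hc d hdP
    have hcd' : c * d * c⁻¹ = d := by rw [← hcd]; group
    have : k * c * d * (k * c)⁻¹ * d⁻¹ = k * d * k⁻¹ * d⁻¹ := by
      calc k * c * d * (k * c)⁻¹ * d⁻¹ = k * (c * d * c⁻¹) * k⁻¹ * d⁻¹ := by group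
        _ = _ := by rw [hcd']
    rw [this]
    exact (comm_mem_NS hk d).1

/-- `G = N · C(d)` -/
theorem DHyp.decomp {d : G} (hd : DHyp G S d) (g : G) :
    ∃ u ∈ NS G S, ∃ a ∈ Subgroup.centralizer ({d} : Set G), g = u * a := by
  obtain ⟨u, hu, huv⟩ := surj_comm (NS G S) d
    (fun u hu hud => hd.cent u hu (mem_centralizer_singleton.mpr hud.symm)) _ (hd.comm g)
  refine ⟨u, hu, u⁻¹ * g, ?_, by group⟩
  rw [mem_centralizer_singleton]
  have h3 : u * d * u⁻¹ = g * d * g⁻¹ := mul_right_cancel huv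
  calc d * (u⁻¹ * g) = u⁻¹ * (u * d * u⁻¹) * g := by group
    _ = u⁻¹ * (g * d * g⁻¹) * g := by rw [h3]
    _ = u⁻¹ * g * d := by group

/-- `C_K(d) = Z(G)` -/
theorem Hyp.central_of_comm (h : Hyp G S) {d : G} (hd : DHyp G S d) {y : G} (hy : y ∈ KS G S)
    (hyd : y ∈ Subgroup.centralizer ({d} : Set G)) : y ∈ Subgroup.center G := by
  have hcop : (Subgroup.centralizer ({d} : Set G)).index.Coprime
      (Subgroup.centralizer ({y} : Set G)).index :=
    (PiNum.coprime (h.K_sub_A hy) (h.compl_of_not_mem hd.notMem)).symm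
  rw [Subgroup.mem_center_iff]
  intro g
  obtain ⟨a, ha, c, hc, rfl⟩ := Cfsg.Agent.Lib.Helper9.exists_mul_of_coprime_index _ _ hcop g
  rw [mem_centralizer_singleton] at hc
  have hc' : c * y * c⁻¹ = y := by rw [← hc]; group
  have h1 : (a * c) * y * (a * c)⁻¹ * y⁻¹ = a * y * a⁻¹ * y⁻¹ := by
    calc (a * c) * y * (a * c)⁻¹ * y⁻¹ = a * (c * y * c⁻¹) * a⁻¹ * y⁻¹ := by group
      _ = _ := by rw [hc']
  have h2 : a * y * a⁻¹ * y⁻¹ ∈ Subgroup.centralizer ({d} : Set G) :=
    mul_mem (mul_mem (mul_mem ha hyd) (inv_mem ha)) (inv_mem hyd)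
  have h3 := hd.cent _ (comm_mem_NS hy (a * c)).2 (h1 ▸ h2)
  rw [mul_inv_eq_one, mul_inv_eq_iff_eq_mul] at h3
  exact h3

/-- `K = N · Z(G)` -/
theorem Hyp.K_decomp (h : Hyp G S) {d : G} (hd : DHyp G S d) {k : G} (hk : k ∈ KS G S) :
    ∃ u ∈ NS G S, ∃ z ∈ Subgroup.center G, k = u * z := by
  obtain ⟨u, hu, z, hz, rfl⟩ := hd.decomp k
  refine ⟨u, hu, z, h.central_of_comm hd ?_ hz, rfl⟩
  exact (Subgroup.mul_mem_cancel_left _ (NS_le_KS hu)).mp hk

/-- `C_N(x) = 1` for `x ∈ C(d) ∖ K` -/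
theorem Hyp.cent_of_not_mem (h : Hyp G S) {d : G} (hd : DHyp G S d) {x : G}
    (hxd : x ∈ Subgroup.centralizer ({d} : Set G)) (hxK : x ∉ KS G S) :
    ∀ u ∈ NS G S, u * x = x * u → u = 1 := by
  have hN : (NS G S).Normal := inferInstance
  have hmem : ∀ u : NS G S, x⁻¹ * (u : G) * x * (u : G)⁻¹ ∈ NS G S := by
    intro u
    have h1 : x⁻¹ * (u : G) * x ∈ NS G S := by
      have := hN.conj_mem _ u.2 x⁻¹
      rwa [inv_inv] at this
    exact (NS G S).mul_mem h1 ((NS G S).inv_mem u.2)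
  let f : NS G S → NS G S := fun u => ⟨x⁻¹ * (u : G) * x * (u : G)⁻¹, hmem u⟩
  have hsurj : Function.Surjective f := by
    rintro ⟨u', hu'⟩
    obtain ⟨g, hg⟩ := h.exists_conj hxK hu'
    obtain ⟨u, hu, a, ha, rfl⟩ := hd.decomp g
    have hyd : a * x * a⁻¹ * x⁻¹ ∈ Subgroup.centralizer ({d} : Set G) :=
      mul_mem (mul_mem (mul_mem ha hxd) (inv_mem ha)) (inv_mem hxd)
    have hyN : a * x * a⁻¹ * x⁻¹ ∈ NS G S := by
      have h1 : a * x * a⁻¹ = u⁻¹ * (x * u') * u := by rw [← hg]; group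
      have h2 : x * (u' * u) * x⁻¹ ∈ NS G S :=
        hN.conj_mem _ ((NS G S).mul_mem hu' hu) x
      have h3 := (NS G S).mul_mem ((NS G S).inv_mem hu) h2
      have : a * x * a⁻¹ * x⁻¹ = u⁻¹ * (x * (u' * u) * x⁻¹) := by rw [h1]; group
      rwa [this]
    have hy1 := hd.cent _ hyN hyd
    have hy : a * x * a⁻¹ = x := by rwa [mul_inv_eq_one] at hy1
    refine ⟨⟨u, hu⟩, ?_⟩
    apply Subtype.ext
    show x⁻¹ * u * x * u⁻¹ = u'
    have h4 : u * x * u⁻¹ = x * u' := by
      calc u * x * u⁻¹ = u * (a * x * a⁻¹) * u⁻¹ := by rw [hy]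
        _ = u * a * x * (u * a)⁻¹ := by group
        _ = x * u' := hg
    calc x⁻¹ * u * x * u⁻¹ = x⁻¹ * (u * x * u⁻¹) := by group
      _ = x⁻¹ * (x * u') := by rw [h4]
      _ = u' := by group
  have hinj := Finite.injective_iff_surjective.mpr hsurj
  intro u hu hux
  have h1 : f ⟨u, hu⟩ = f 1 := by
    apply Subtype.ext
    show x⁻¹ * u * x * u⁻¹ = x⁻¹ * ((1 : NS G S) : G) * x * ((1 : NS G S) : G)⁻¹
    rw [mul_assoc x⁻¹, hux]
    simp
  have := hinj h1
  exact congrArg Subtype.val this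

/-- `C(x) ≤ C(d)` for `x ∈ C(d) ∖ K`, elementwise -/
theorem Hyp.eq_one_of_comm (h : Hyp G S) {d : G} (hd : DHyp G S d) {x : G}
    (hxd : x ∈ Subgroup.centralizer ({d} : Set G)) (hxK : x ∉ KS G S) {a u : G}
    (ha : a ∈ Subgroup.centralizer ({d} : Set G)) (hu : u ∈ NS G S)
    (hcomm : (a * u) * x = x * (a * u)) : u = 1 := by
  have hN : (NS G S).Normal := inferInstance
  apply h.cent_of_not_mem hd hxd hxK u hu
  have h1 : u * x * u⁻¹ * x⁻¹ = a⁻¹ * x * a * x⁻¹ := by
    have : u * x * u⁻¹ = a⁻¹ * x * a := by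
      calc u * x * u⁻¹ = a⁻¹ * ((a * u) * x) * u⁻¹ := by group
        _ = a⁻¹ * (x * (a * u)) * u⁻¹ := by rw [hcomm]
        _ = a⁻¹ * x * a := by group
    rw [this]
  have h2 : u * x * u⁻¹ * x⁻¹ ∈ NS G S := by
    have h3 : x * u⁻¹ * x⁻¹ ∈ NS G S := hN.conj_mem _ ((NS G S).inv_mem hu) x
    have := (NS G S).mul_mem hu h3
    have h4 : u * (x * u⁻¹ * x⁻¹) = u * x * u⁻¹ * x⁻¹ := by group
    rwa [h4] at this
  have h5 : a⁻¹ * x * a * x⁻¹ ∈ Subgroup.centralizer ({d} : Set G) :=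
    mul_mem (mul_mem (mul_mem (inv_mem ha) hxd) ha) (inv_mem hxd)
  have h6 := hd.cent _ h2 (h1 ▸ h5)
  rw [mul_inv_eq_one, mul_inv_eq_iff_eq_mul] at h6
  exact h6

theorem Hyp.exists_ne_one (h : Hyp G S) : ∃ b ∈ NS G S, b ≠ 1 := by
  obtain ⟨g₀, p, hpS, hp, hpg⟩ := h.nontriv
  have hg₀S : PiNum S (cs g₀) := (h.D g₀).resolve_right (fun hh => hh p hp hpg hpS)
  by_contra hcon
  push Not at hcon
  have h1 : g₀ ∈ Subgroup.center G := by
    rw [Subgroup.mem_center_iff]
    intro g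
    have := hcon _ (comm_mem_NS (AS_sub_KS hg₀S) g).2
    rw [mul_inv_eq_one, mul_inv_eq_iff_eq_mul] at this
    exact this
  rw [← cs_eq_one_iff] at h1
  rw [h1] at hpg
  exact absurd (Nat.dvd_one.mp hpg) hp.one_lt.ne'

/-- `C(d)` is abelian -/
theorem Hyp.H_comm (h : Hyp G S) {d : G} (hd : DHyp G S d) {x y : G}
    (hxd : x ∈ Subgroup.centralizer ({d} : Set G))
    (hyd : y ∈ Subgroup.centralizer ({d} : Set G)) : x * y = y * x := by
  by_cases hxK : x ∈ KS G S
  · have := h.central_of_comm hd hxK hxd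
    rw [Subgroup.mem_center_iff] at this
    exact (this y).symm
  · obtain ⟨b, hbN, hb1⟩ := h.exists_ne_one
    have hCb : Subgroup.centralizer ({b} : Set G) ≤ KS G S := by
      intro g hg
      rw [mem_centralizer_singleton] at hg
      obtain ⟨u, hu, a, ha, rfl⟩ := hd.decomp g
      have hbu : b * u = u * b := h.K_comm (NS_le_KS hbN) (NS_le_KS hu)
      have hba : b * a = a * b := by
        have h1 : u * (b * a) = u * (a * b) := by
          calc u * (b * a) = (u * b) * a := by group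
            _ = (b * u) * a := by rw [hbu]
            _ = b * (u * a) := by group
            _ = u * a * b := hg
            _ = u * (a * b) := by group
        exact mul_left_cancel h1
      by_contra hgK
      have haK : a ∉ KS G S := fun haK => hgK ((KS G S).mul_mem (NS_le_KS hu) haK)
      exact hb1 (h.cent_of_not_mem hd ha haK b hbN hba)
    have hcop : (Subgroup.centralizer ({x} : Set G)).index.Coprime
        (Subgroup.centralizer ({b} : Set G)).index :=
      (PiNum.coprime (h.K_sub_A (NS_le_KS hbN)) (h.compl_of_not_mem hxK)).symm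
    obtain ⟨c, hc, g, hg, rfl⟩ := Cfsg.Agent.Lib.Helper9.exists_mul_of_coprime_index _ _ hcop y
    rw [mem_centralizer_singleton] at hc
    obtain ⟨u, hu, z, hz, rfl⟩ := h.K_decomp hd (hCb hg)
    have hzd : z ∈ Subgroup.centralizer ({d} : Set G) := by
      rw [mem_centralizer_singleton]
      exact (Subgroup.mem_center_iff.mp hz) d
    rw [Subgroup.mem_center_iff] at hz
    have ha : c * (u * z) * z⁻¹ ∈ Subgroup.centralizer ({d} : Set G) :=
      mul_mem hyd (inv_mem hzd)
    have hcc : (c * (u * z) * z⁻¹) * u⁻¹ = c := by group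
    have hu1 : u⁻¹ = 1 := by
      apply h.eq_one_of_comm hd hxd hxK ha ((NS G S).inv_mem hu)
      rw [hcc]; exact hc.symm
    have hu1' : u = 1 := inv_eq_one.mp hu1
    subst hu1'
    calc x * (c * (1 * z)) = (x * c) * z := by group
      _ = (c * x) * z := by rw [hc]
      _ = c * (x * z) := by group
      _ = c * (z * x) := by rw [hz x]
      _ = c * (1 * z) * x := by group

end Cfsg.Agent.Lib.Helper30.CG
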