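/-
helper30: abstract version of the "small classes generate an abelian normal subgroup" argument,
and the Fitting-type decomposition `[N,d] ∩ C(d) = 1` for a single element `d` of coprime order
(towards S4257: connected class-size prime graph has diameter at most 3).
-/
import Mathlib
import Cfsg.Agent.Lib.Helper30.ClassGraphA
import Cfsg.Agent.Lib.Helper30.ClassGraphB
import Cfsg.Agent.S4160
import Cfsg.Agent.Lib.Helper73.ConjUnion

set_option autoImplicit false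
open scoped Pointwise commutatorElement

namespace Cfsg.Agent.Lib.Helper30.CG

variable {G : Type*} [Group G]

/-- the normal subgroup generated by `A` -/
def KA (A : Set G) : Subgroup G := Subgroup.normalClosure A

/-- `[KA A, G]` -/
def NA (A : Set G) : Subgroup G := ⁅KA A, (⊤ : Subgroup G)⁆

instance KA_normal (A : Set G) : (KA A).Normal := Subgroup.normalClosure_normal

instance NA_normal (A : Set G) : (NA A).Normal := Subgroup.commutator_normal _ _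

theorem NA_le_KA (A : Set G) : NA A ≤ KA A := Subgroup.commutator_le_left _ _

theorem sub_KA {A : Set G} {b : G} (hb : b ∈ A) : b ∈ KA A := Subgroup.subset_normalClosure hb

theorem comm_mem_NA {A : Set G} {k : G} (hk : k ∈ KA A) (g : G) :
    k * g * k⁻¹ * g⁻¹ ∈ NA A ∧ g * k * g⁻¹ * k⁻¹ ∈ NA A := by
  constructor
  · rw [← commutatorElement_def]
    exact Subgroup.commutator_mem_commutator hk (Subgroup.mem_top g)
  · rw [← commutatorElement_def, NA, Subgroup.commutator_comm]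
    exact Subgroup.commutator_mem_commutator (Subgroup.mem_top g) hk

/-- every element of `A` has class size smaller than and coprime to that of `c₀`, with the
product condition of `key_mul` -/
structure Small (A : Set G) (c₀ : G) : Prop where
  cop : ∀ b ∈ A, (cs b).Coprime (cs c₀)
  lt : ∀ b ∈ A, cs b < cs c₀
  alt : ∀ b ∈ A, (cs (c₀ * b)).Coprime (cs c₀) ∨ (cs (c₀ * b)).Coprime (cs b)

variable [Finite G] {A : Set G} {c₀ : G}

theorem Small.NA_le_rstab (h : Small A c₀) : NA A ≤ rstab (cl c₀) := by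
  have : (rstab (cl c₀)).Normal := rstab_normal (fun g x hx => conj_mem_cl g hx)
  apply commutator_normalClosure_le
  intro b hb g
  exact (key_mul b c₀ (h.cop b hb) (h.lt b hb) (h.alt b hb)).2 g

theorem Small.card_NA_dvd (h : Small A c₀) : Nat.card (NA A) ∣ cs c₀ := by
  have h1 := Subgroup.card_dvd_of_le h.NA_le_rstab
  have h2 := card_rstab_dvd (cl c₀)
  rw [ncard_cl] at h2
  exact h1.trans h2

theorem Small.NA_le_centralizer (h : Small A c₀) {b : G} (hb : b ∈ A) :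
    NA A ≤ Subgroup.centralizer ({b} : Set G) :=
  le_of_normal_of_coprime _ _ ((h.cop b hb).symm.coprime_dvd_left h.card_NA_dvd)

theorem Small.NA_comm_KA (h : Small A c₀) {u k : G} (hu : u ∈ NA A) (hk : k ∈ KA A) :
    u * k = k * u := by
  have h1 : KA A ≤ Subgroup.centralizer (NA A : Set G) := by
    apply Subgroup.normalClosure_le_normal
    intro b hb
    rw [SetLike.mem_coe, Subgroup.mem_centralizer_iff]
    intro v hv
    have := h.NA_le_centralizer hb hv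
    rw [mem_centralizer_singleton] at this
    exact this.symm
  have h2 := h1 hk
  rw [Subgroup.mem_centralizer_iff] at h2
  exact h2 u hu

theorem Small.KA_le_centralizer (h : Small A c₀) {b : G} (hb : b ∈ A) :
    KA A ≤ Subgroup.centralizer ({b} : Set G) := by
  rw [← Subgroup.relIndex_eq_one]
  have h1 := relIndex_centralizer_dvd_card (KA A) (NA A) b (NA_le_KA A)
    (fun u hu k hk => h.NA_comm_KA hu hk) (fun k hk => (comm_mem_NA hk b).1)
  have h2 := relIndex_dvd_index_of_normal_right (Subgroup.centralizer ({b} : Set G)) (KA A)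
  have h3 : (cs b).Coprime (Nat.card (NA A)) :=
    ((h.cop b hb).symm.coprime_dvd_left h.card_NA_dvd).symm
  exact Nat.eq_one_of_dvd_coprimes h3 h2 h1

theorem Small.KA_comm (h : Small A c₀) {x y : G} (hx : x ∈ KA A) (hy : y ∈ KA A) :
    x * y = y * x := by
  have h1 : KA A ≤ Subgroup.centralizer (KA A : Set G) := by
    apply Subgroup.normalClosure_le_normal
    intro b hb
    rw [SetLike.mem_coe, Subgroup.mem_centralizer_iff]
    intro v hv
    have := h.KA_le_centralizer hb hv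
    rw [mem_centralizer_singleton] at this
    exact this.symm
  have h2 := h1 hy
  rw [Subgroup.mem_centralizer_iff] at h2
  exact h2 x hx

omit [Finite G] in
/-- if `d k d⁻¹ = w k` with `w` commuting with `d`, then `w ^ |d| = 1` -/
theorem pow_trick (N : Subgroup G) (d k w : G) (hw : w ∈ N)
    (hcop : (orderOf d).Coprime (Nat.card N)) (h1 : d * k * d⁻¹ = w * k) (h2 : d * w = w * d) :
    w = 1 := by
  have key : ∀ m : ℕ, d ^ m * k * (d ^ m)⁻¹ = w ^ m * k := by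
    intro m
    induction m with
    | zero => simp
    | succ m ih =>
      have hc : d * w ^ m = w ^ m * d := (Commute.pow_right (show Commute d w from h2) m).eq
      calc d ^ (m + 1) * k * (d ^ (m + 1))⁻¹
          = d * (d ^ m * k * (d ^ m)⁻¹) * d⁻¹ := by
            rw [pow_succ', mul_inv_rev]; simp only [mul_assoc]
        _ = d * (w ^ m * k) * d⁻¹ := by rw [ih]
        _ = (d * w ^ m) * k * d⁻¹ := by simp only [mul_assoc]
        _ = w ^ m * (d * k * d⁻¹) := by rw [hc]; simp only [mul_assoc]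
        _ = w ^ m * (w * k) := by rw [h1]
        _ = w ^ (m + 1) * k := by rw [pow_succ, mul_assoc]
  have h3 := key (orderOf d)
  rw [pow_orderOf_eq_one, inv_one, mul_one, one_mul] at h3
  have h3' : w ^ orderOf d = 1 := by
    have := congrArg (· * k⁻¹) h3
    simp only [mul_inv_cancel, mul_inv_cancel_right] at this
    exact this.symm
  have h4 : orderOf w ∣ orderOf d := orderOf_dvd_of_pow_eq_one h3'
  have h5 : orderOf w ∣ Nat.card N := Subgroup.orderOf_dvd_natCard _ hw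
  exact orderOf_eq_one_iff.mp (Nat.eq_one_of_dvd_coprimes hcop h4 h5)

omit [Finite G] in
theorem psi_mem (B : Subgroup G) [hn : B.Normal] (d : G) {u : G} (hu : u ∈ B) :
    u * d * u⁻¹ * d⁻¹ ∈ B := by
  have h1 : d * u⁻¹ * d⁻¹ ∈ B := hn.conj_mem _ (B.inv_mem hu) d
  have h2 := B.mul_mem hu h1
  have : u * (d * u⁻¹ * d⁻¹) = u * d * u⁻¹ * d⁻¹ := by group
  rwa [this] at h2

omit [Finite G] in
theorem psi_mul (B : Subgroup G) [hn : B.Normal] (hc : ∀ x ∈ B, ∀ y ∈ B, x * y = y * x) (d : G)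
    {u₁ u₂ : G} (h₁ : u₁ ∈ B) (h₂ : u₂ ∈ B) :
    (u₁ * u₂) * d * (u₁ * u₂)⁻¹ * d⁻¹ = (u₁ * d * u₁⁻¹ * d⁻¹) * (u₂ * d * u₂⁻¹ * d⁻¹) := by
  have h3 : d * u₁⁻¹ * d⁻¹ ∈ B := hn.conj_mem _ (B.inv_mem h₁) d
  have h4 := hc _ (psi_mem B d h₂) _ h3
  calc (u₁ * u₂) * d * (u₁ * u₂)⁻¹ * d⁻¹
      = u₁ * ((u₂ * d * u₂⁻¹ * d⁻¹) * (d * u₁⁻¹ * d⁻¹)) := by group
    _ = u₁ * ((d * u₁⁻¹ * d⁻¹) * (u₂ * d * u₂⁻¹ * d⁻¹)) := by rw [h4]
    _ = (u₁ * d * u₁⁻¹ * d⁻¹) * (u₂ * d * u₂⁻¹ * d⁻¹) := by group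

omit [Finite G] in
theorem psi_inv (B : Subgroup G) [hn : B.Normal] (hc : ∀ x ∈ B, ∀ y ∈ B, x * y = y * x) (d : G)
    {u : G} (hu : u ∈ B) :
    (u * d * u⁻¹ * d⁻¹)⁻¹ = u⁻¹ * d * u⁻¹⁻¹ * d⁻¹ := by
  have h3 : d * u * d⁻¹ ∈ B := hn.conj_mem _ hu d
  have h4 := hc _ h3 _ (B.inv_mem hu)
  calc (u * d * u⁻¹ * d⁻¹)⁻¹ = (d * u * d⁻¹) * u⁻¹ := by group
    _ = u⁻¹ * (d * u * d⁻¹) := h4
    _ = u⁻¹ * d * u⁻¹⁻¹ * d⁻¹ := by group

/-- `[N, d]` as the image of `u ↦ [u, d]` on an abelian normal subgroup -/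
def VS (N : Subgroup G) [hn : N.Normal] (hc : ∀ x ∈ N, ∀ y ∈ N, x * y = y * x) (d : G) :
    Subgroup G where
  carrier := {w | ∃ u ∈ N, u * d * u⁻¹ * d⁻¹ = w}
  one_mem' := ⟨1, N.one_mem, by group⟩
  mul_mem' := by
    rintro _ _ ⟨u₁, h₁, rfl⟩ ⟨u₂, h₂, rfl⟩
    exact ⟨u₁ * u₂, N.mul_mem h₁ h₂, psi_mul N hc d h₁ h₂⟩
  inv_mem' := by
    rintro _ ⟨u, hu, rfl⟩
    exact ⟨u⁻¹, N.inv_mem hu, (psi_inv N hc d hu).symm⟩

omit [Finite G] in
theorem mem_VS {N : Subgroup G} [hn : N.Normal] {hc : ∀ x ∈ N, ∀ y ∈ N, x * y = y * x} {d w : G} :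
    w ∈ VS N hc d ↔ ∃ u ∈ N, u * d * u⁻¹ * d⁻¹ = w := Iff.rfl

omit [Finite G] in
theorem VS_le {N : Subgroup G} [hn : N.Normal] (hc : ∀ x ∈ N, ∀ y ∈ N, x * y = y * x) (d : G) :
    VS N hc d ≤ N := by
  rintro _ ⟨u, hu, rfl⟩
  exact psi_mem N d hu

omit [Finite G] in
/-- `[N,d] ∩ C(d) = 1` -/
theorem VS_cent {N : Subgroup G} [hn : N.Normal] (hc : ∀ x ∈ N, ∀ y ∈ N, x * y = y * x) (d : G)
    (hcop : (orderOf d).Coprime (Nat.card N)) {w : G} (hw : w ∈ VS N hc d)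
    (hwd : w * d = d * w) : w = 1 := by
  obtain ⟨u, hu, rfl⟩ := hw
  have hwN := psi_mem N d hu
  apply pow_trick N d u⁻¹ _ hwN hcop _ hwd.symm
  have h4 := hc _ hwN _ (N.inv_mem hu)
  rw [h4]
  group

/-- a version of `surj_comm` for a subgroup merely mapped to itself -/
theorem surj_comm' (V : Subgroup G) (x : G) (hmap : ∀ u ∈ V, u * x * u⁻¹ * x⁻¹ ∈ V)
    (hx : ∀ u ∈ V, u * x = x * u → u = 1) (v : G) (hv : v ∈ V) :
    ∃ u ∈ V, u * x * u⁻¹ * x⁻¹ = v := by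
  let f : V → V := fun u => ⟨(u : G) * x * (u : G)⁻¹ * x⁻¹, hmap u u.2⟩
  have hinj : Function.Injective f := by
    intro u u' huu
    have h1 : (u : G) * x * (u : G)⁻¹ * x⁻¹ = (u' : G) * x * (u' : G)⁻¹ * x⁻¹ :=
      congrArg Subtype.val huu
    have h2 : (u' : G)⁻¹ * u * x = x * ((u' : G)⁻¹ * u) := by
      have h3 : (u : G) * x * (u : G)⁻¹ = (u' : G) * x * (u' : G)⁻¹ := mul_right_cancel h1
      calc (u' : G)⁻¹ * u * x = (u' : G)⁻¹ * ((u : G) * x * (u : G)⁻¹) * u := by group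
        _ = (u' : G)⁻¹ * ((u' : G) * x * (u' : G)⁻¹) * u := by rw [h3]
        _ = x * ((u' : G)⁻¹ * u) := by group
    have h4 := hx _ (V.mul_mem (V.inv_mem u'.2) u.2) h2
    apply Subtype.ext
    exact (inv_mul_eq_one.mp h4).symm
  have hsurj := Finite.injective_iff_surjective.mp hinj
  obtain ⟨u, hu⟩ := hsurj ⟨v, hv⟩
  exact ⟨u, u.2, congrArg Subtype.val hu⟩

/-- elements whose class size is divisible by `p` -/
def XP (G : Type*) [Group G] (p : ℕ) : Set G := {x | p ∣ cs x}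

section core

variable {p : ℕ} [hp : Fact p.Prime]

theorem KA_sup_centralizer (P : Sylow p G) :
    KA (XP G p) ⊔ Subgroup.centralizer ((P : Subgroup G) : Set G) = ⊤ := by
  by_contra hne
  obtain ⟨x, hx⟩ := Cfsg.Agent.Lib.Helper73.exists_not_mem_conj_of_ne_top _ hne
  by_cases hxK : p ∣ cs x
  · apply hx 1
    rw [Cfsg.Agent.Lib.Helper73.mem_conj_smul_iff]
    have : (1 : G)⁻¹ * x * 1 = x := by group
    rw [this]
    exact (le_sup_left : KA (XP G p) ≤ _) (sub_KA hxK)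
  · obtain ⟨g, c, hc, hxg⟩ := Cfsg.Agent.S4160.exists_conj_mem_centralizer P x hxK
    apply hx g
    rw [Cfsg.Agent.Lib.Helper73.mem_conj_smul_iff, hxg]
    have : g⁻¹ * (g * c * g⁻¹) * g = c := by group
    rw [this]
    exact (le_sup_right : Subgroup.centralizer ((P : Subgroup G) : Set G) ≤ _) hc

theorem dvd_cs_of_not_mem (P : Sylow p G)
    (hab : ∀ x ∈ KA (XP G p), ∀ y ∈ KA (XP G p), x * y = y * x) {v : G}
    (hvK : v ∈ KA (XP G p)) (hvL : v ∉ Subgroup.centralizer ((P : Subgroup G) : Set G)) :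
    p ∣ cs v := by
  by_contra hnp
  obtain ⟨c, l, hl, hv⟩ := Cfsg.Agent.S4160.exists_conj_mem_centralizer P v hnp
  have hc : c ∈ KA (XP G p) ⊔ Subgroup.centralizer ((P : Subgroup G) : Set G) :=
    (KA_sup_centralizer P) ▸ Subgroup.mem_top c
  rw [Subgroup.mem_sup_of_normal_left] at hc
  obtain ⟨k, hk, l', hl', rfl⟩ := hc
  apply hvL
  have h1 : k⁻¹ * v * k = v := by
    rw [mul_assoc, hab v hvK k hk, ← mul_assoc, inv_mul_cancel, one_mul]
  have h2 : k⁻¹ * v * k = l' * l * l'⁻¹ := by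
    calc k⁻¹ * v * k = k⁻¹ * (k * l' * l * (k * l')⁻¹) * k := by rw [← hv]
      _ = l' * l * l'⁻¹ := by group
  rw [← h1, h2]
  exact mul_mem (mul_mem hl' hl) (inv_mem hl')

theorem orderOf_coprime_of_mem_sylow (P : Sylow p G) {d : G} (hd : d ∈ (P : Subgroup G)) {m : ℕ}
    (hcop : p.Coprime m) : (orderOf d).Coprime m := by
  obtain ⟨j, hj⟩ := P.isPGroup' ⟨d, hd⟩
  have hj' : d ^ (p ^ j) = 1 := by simpa using congrArg Subtype.val hj
  have h2 : orderOf d ∣ p ^ j := orderOf_dvd_of_pow_eq_one hj'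
  exact (Nat.Coprime.pow_left j hcop).coprime_dvd_left h2

theorem exists_psi_ne_one (P : Sylow p G) (hcop : p.Coprime (Nat.card (NA (XP G p))))
    {x₁ : G} (hx₁ : p ∣ cs x₁) :
    ∃ d ∈ (P : Subgroup G), ∃ u ∈ NA (XP G p), u * d * u⁻¹ * d⁻¹ ≠ 1 := by
  by_contra hcon
  push Not at hcon
  have h1 : (P : Subgroup G) ≤ Subgroup.centralizer ({x₁} : Set G) := by
    intro d hd
    rw [mem_centralizer_singleton]
    have hwN : d * x₁ * d⁻¹ * x₁⁻¹ ∈ NA (XP G p) :=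
      (comm_mem_NA (sub_KA (A := XP G p) (show x₁ ∈ XP G p from hx₁)) d).2
    have hwd : d * (d * x₁ * d⁻¹ * x₁⁻¹) = (d * x₁ * d⁻¹ * x₁⁻¹) * d := by
      have := hcon d hd _ hwN
      rw [mul_inv_eq_one, mul_inv_eq_iff_eq_mul] at this
      exact this.symm
    have h3 := pow_trick (NA (XP G p)) d x₁ _ hwN (orderOf_coprime_of_mem_sylow P hd hcop)
      (by group) hwd
    rw [mul_inv_eq_one, mul_inv_eq_iff_eq_mul] at h3
    exact h3.symm
  exact P.not_dvd_index (hx₁.trans (Subgroup.index_dvd_of_le h1))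

/-- the closed neighbourhood of `p` is closed under adjacency, under the distance-4 hypothesis -/
theorem nbhd_closed {q : ℕ}
    (H4 : ∀ s t : ℕ, s.Prime → t.Prime → (∃ x : G, p ∣ cs x ∧ s ∣ cs x) →
      (∃ y : G, q ∣ cs y ∧ t ∣ cs y) → s ≠ t ∧ ∀ g : G, ¬ (s * t ∣ cs g))
    {x₁ : G} (hx₁ : p ∣ cs x₁) {y₀ : G} (hy₀ : q ∣ cs y₀)
    (hmax : ∀ x : G, p ∣ cs x → cs x < cs y₀)
    {a r : ℕ} (ha : a.Prime) (haN : ∃ x : G, p ∣ cs x ∧ a ∣ cs x)
    {g : G} (hag : a ∣ cs g) (hrg : r ∣ cs g) : ∃ w : G, p ∣ cs w ∧ r ∣ cs w := by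
  have hpp : p.Prime := hp.out
  by_cases hpg : p ∣ cs g
  · exact ⟨g, hpg, hrg⟩
  have hsmall : Small (XP G p) y₀ := by
    refine ⟨?_, hmax, ?_⟩
    · intro b hb
      apply Nat.coprime_of_dvd
      intro s hs hsb hsy
      exact (H4 s s hs hs ⟨b, hb, hsb⟩ ⟨y₀, hy₀, hsy⟩).1 rfl
    · intro b hb
      by_contra hcon
      push Not at hcon
      obtain ⟨h1, h2⟩ := hcon
      obtain ⟨t, ht, ht1, ht2⟩ := Nat.Prime.not_coprime_iff_dvd.mp h1
      obtain ⟨s, hs, hs1, hs2⟩ := Nat.Prime.not_coprime_iff_dvd.mp h2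
      have h3 := H4 s t hs ht ⟨b, hb, hs2⟩ ⟨y₀, hy₀, ht2⟩
      exact h3.2 (y₀ * b)
        (((Nat.coprime_primes hs ht).mpr h3.1).mul_dvd_of_dvd_of_dvd hs1 ht1)
  have hab : ∀ x ∈ KA (XP G p), ∀ y ∈ KA (XP G p), x * y = y * x :=
    fun x hx y hy => hsmall.KA_comm hx hy
  have hNK : NA (XP G p) ≤ KA (XP G p) := NA_le_KA _
  have hNab : ∀ x ∈ NA (XP G p), ∀ y ∈ NA (XP G p), x * y = y * x :=
    fun x hx y hy => hab x (hNK hx) y (hNK hy)
  have hpy₀ : ¬ p ∣ cs y₀ := fun hh =>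
    (H4 p p hpp hpp ⟨x₁, hx₁, hx₁⟩ ⟨y₀, hy₀, hh⟩).1 rfl
  have hcopN : p.Coprime (Nat.card (NA (XP G p))) :=
    ((Nat.Prime.coprime_iff_not_dvd hpp).mpr hpy₀).coprime_dvd_right hsmall.card_NA_dvd
  obtain ⟨P⟩ : Nonempty (Sylow p G) := inferInstance
  obtain ⟨d, hdP, u₀, hu₀N, hne⟩ := exists_psi_ne_one P hcopN hx₁
  have hcopd : (orderOf d).Coprime (Nat.card (NA (XP G p))) :=
    orderOf_coprime_of_mem_sylow P hdP hcopN
  have hLd : ∀ l ∈ Subgroup.centralizer ((P : Subgroup G) : Set G), d * l = l * d :=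
    fun l hl => (Subgroup.mem_centralizer_iff.mp hl) d hdP
  -- the subgroup V = [N, d]
  have hVN : VS (NA (XP G p)) hNab d ≤ NA (XP G p) := VS_le hNab d
  have hVcent : ∀ w ∈ VS (NA (XP G p)) hNab d, w * d = d * w → w = 1 :=
    fun w hw hwd => VS_cent hNab d hcopd hw hwd
  have hVmap : ∀ w ∈ VS (NA (XP G p)) hNab d, w * d * w⁻¹ * d⁻¹ ∈ VS (NA (XP G p)) hNab d :=
    fun w hw => ⟨w, hVN hw, rfl⟩
  have hsurj := surj_comm' (VS (NA (XP G p)) hNab d) d hVmap hVcent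
  -- [K, d] ≤ V
  have hKV : ∀ k ∈ KA (XP G p), k * d * k⁻¹ * d⁻¹ ∈ VS (NA (XP G p)) hNab d := by
    intro k hk
    have hbN : k * d * k⁻¹ * d⁻¹ ∈ NA (XP G p) := (comm_mem_NA hk d).1
    obtain ⟨w, hwV, hw⟩ := hsurj _ ⟨_, hbN, rfl⟩
    obtain ⟨b₂, hb₂, hwb₂⟩ := hwV
    -- c := w⁻¹ * b commutes with d
    have hcd : (w⁻¹ * (k * d * k⁻¹ * d⁻¹)) * d = d * (w⁻¹ * (k * d * k⁻¹ * d⁻¹)) := by
      have h3 : w * d * w⁻¹ = (k * d * k⁻¹ * d⁻¹) * d * (k * d * k⁻¹ * d⁻¹)⁻¹ :=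
        mul_right_cancel hw
      calc (w⁻¹ * (k * d * k⁻¹ * d⁻¹)) * d
          = w⁻¹ * ((k * d * k⁻¹ * d⁻¹) * d * (k * d * k⁻¹ * d⁻¹)⁻¹) * (k * d * k⁻¹ * d⁻¹) := by
            group
        _ = w⁻¹ * (w * d * w⁻¹) * (k * d * k⁻¹ * d⁻¹) := by rw [h3]
        _ = d * (w⁻¹ * (k * d * k⁻¹ * d⁻¹)) := by group
    have hwN : w ∈ NA (XP G p) := hwb₂ ▸ psi_mem _ d hb₂
    have hcN : w⁻¹ * (k * d * k⁻¹ * d⁻¹) ∈ NA (XP G p) := mul_mem (inv_mem hwN) hbN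
    -- ψ (k * b₂⁻¹) = c
    have e1 := psi_mul (KA (XP G p)) hab d hk (inv_mem (hNK hb₂))
    have e2 := psi_inv (KA (XP G p)) hab d (hNK hb₂)
    rw [← e2, hwb₂] at e1
    have e3 : (k * d * k⁻¹ * d⁻¹) * w⁻¹ = w⁻¹ * (k * d * k⁻¹ * d⁻¹) :=
      hNab _ hbN _ (inv_mem hwN)
    rw [e3] at e1
    -- power trick on k' = (k * b₂⁻¹)⁻¹
    have hk' : k * b₂⁻¹ ∈ KA (XP G p) := mul_mem hk (inv_mem (hNK hb₂))
    have e4 : d * (k * b₂⁻¹)⁻¹ * d⁻¹ = (w⁻¹ * (k * d * k⁻¹ * d⁻¹)) * (k * b₂⁻¹)⁻¹ := by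
      rw [← e1]
      have e5 := hab _ (psi_mem (KA (XP G p)) d hk') _ (inv_mem hk')
      rw [e5]
      group
    have hc1 := pow_trick (NA (XP G p)) d _ _ hcN hcopd e4 hcd.symm
    have : k * d * k⁻¹ * d⁻¹ = w := by
      rw [inv_mul_eq_one] at hc1
      exact hc1.symm
    rw [this]
    exact ⟨b₂, hb₂, hwb₂⟩
  -- G = V · C(d)
  have hGV : ∀ c : G, ∃ u ∈ VS (NA (XP G p)) hNab d, ∃ h : G, d * h = h * d ∧ c = u * h := by
    intro c
    have hc : c ∈ KA (XP G p) ⊔ Subgroup.centralizer ((P : Subgroup G) : Set G) :=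
      (KA_sup_centralizer P) ▸ Subgroup.mem_top c
    rw [Subgroup.mem_sup_of_normal_left] at hc
    obtain ⟨k, hk, l, hl, rfl⟩ := hc
    have hld := hLd l hl
    have hld' : l * d * l⁻¹ = d := by rw [← hld]; group
    have e1 : (k * l) * d * (k * l)⁻¹ * d⁻¹ = k * d * k⁻¹ * d⁻¹ := by
      calc (k * l) * d * (k * l)⁻¹ * d⁻¹ = k * (l * d * l⁻¹) * k⁻¹ * d⁻¹ := by group
        _ = _ := by rw [hld']
    obtain ⟨u, hu, huc⟩ := hsurj _ (hKV k hk)
    rw [← e1] at huc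
    refine ⟨u, hu, u⁻¹ * (k * l), ?_, by group⟩
    have h3 : u * d * u⁻¹ = (k * l) * d * (k * l)⁻¹ := mul_right_cancel huc
    calc d * (u⁻¹ * (k * l)) = u⁻¹ * (u * d * u⁻¹) * (k * l) := by group
      _ = u⁻¹ * ((k * l) * d * (k * l)⁻¹) * (k * l) := by rw [h3]
      _ = u⁻¹ * (k * l) * d := by group
  -- V is normalized by C(d)
  have hVnorm : ∀ h : G, d * h = h * d → ∀ w ∈ VS (NA (XP G p)) hNab d,
      h * w * h⁻¹ ∈ VS (NA (XP G p)) hNab d := by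
    rintro h hh _ ⟨u, hu, rfl⟩
    have hN : (NA (XP G p)).Normal := inferInstance
    refine ⟨h * u * h⁻¹, hN.conj_mem _ hu h, ?_⟩
    have hh' : h⁻¹ * d * h = d := by rw [mul_assoc, hh]; group
    calc h * u * h⁻¹ * d * (h * u * h⁻¹)⁻¹ * d⁻¹
        = h * u * (h⁻¹ * d * h) * u⁻¹ * (h⁻¹ * d * h)⁻¹ * h⁻¹ := by
          rw [hh']; 
          have : h⁻¹ * d⁻¹ = d⁻¹ * h⁻¹ := by
            rw [← mul_inv_rev, ← mul_inv_rev, hh]
          calc h * u * h⁻¹ * d * (h * u * h⁻¹)⁻¹ * d⁻¹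
              = h * u * (h⁻¹ * d * h) * u⁻¹ * (h⁻¹ * d⁻¹) := by group
            _ = h * u * d * u⁻¹ * (d⁻¹ * h⁻¹) := by rw [hh', this]
            _ = h * u * d * u⁻¹ * d⁻¹ * h⁻¹ := by group
      _ = h * (u * d * u⁻¹ * d⁻¹) * h⁻¹ := by rw [hh']; group
  -- move g into C(P)
  obtain ⟨c, g', hg', hgc⟩ := Cfsg.Agent.S4160.exists_conj_mem_centralizer P g hpg
  have hcs : cs g' = cs g := by rw [hgc, cs_conj]
  have hg'd : d * g' = g' * d := hLd g' hg'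
  -- g' centralizes N
  have hg'N : NA (XP G p) ≤ Subgroup.centralizer ({g'} : Set G) := by
    apply le_of_normal_of_coprime
    apply Nat.coprime_of_dvd
    intro t ht htN htg
    have hty : t ∣ cs y₀ := htN.trans hsmall.card_NA_dvd
    have h3 := H4 a t ha ht haN ⟨y₀, hy₀, hty⟩
    apply h3.2 g'
    have htg' : t ∣ cs g' := htg
    rw [hcs] at htg' ⊢
    exact ((Nat.coprime_primes ha ht).mpr h3.1).mul_dvd_of_dvd_of_dvd hag htg'
  have hg'N' : ∀ n ∈ NA (XP G p), g' * n = n * g' := by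
    intro n hn
    exact mem_centralizer_singleton.mp (hg'N hn)
  -- the element v
  have hvV : u₀ * d * u₀⁻¹ * d⁻¹ ∈ VS (NA (XP G p)) hNab d := ⟨u₀, hu₀N, rfl⟩
  have hvN := hVN hvV
  have hvL : u₀ * d * u₀⁻¹ * d⁻¹ ∉ Subgroup.centralizer ((P : Subgroup G) : Set G) := by
    intro hvL
    exact hne (hVcent _ hvV (hLd _ hvL).symm)
  have hpv : p ∣ cs (u₀ * d * u₀⁻¹ * d⁻¹) := dvd_cs_of_not_mem P hab (hNK hvN) hvL
  -- centralizer of v * g'
  have hcent : Subgroup.centralizer ({(u₀ * d * u₀⁻¹ * d⁻¹) * g'} : Set G) ≤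
      Subgroup.centralizer ({u₀ * d * u₀⁻¹ * d⁻¹} : Set G) ⊓
        Subgroup.centralizer ({g'} : Set G) := by
    intro c' hc'
    rw [mem_centralizer_singleton] at hc'
    obtain ⟨u, hu, h, hh, rfl⟩ := hGV c'
    have huN := hVN hu
    have hN : (NA (XP G p)).Normal := inferInstance
    -- v' := h v h⁻¹ ∈ V,  g'' := h g' h⁻¹
    have hv'V := hVnorm h hh _ hvV
    have hv'N := hVN hv'V
    have hg''N : ∀ n ∈ NA (XP G p), (h * g' * h⁻¹) * n = n * (h * g' * h⁻¹) := by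
      intro n hn
      have h1 : h⁻¹ * n * h ∈ NA (XP G p) := by
        have := hN.conj_mem _ hn h⁻¹
        rwa [inv_inv] at this
      have h2 := hg'N' _ h1
      calc (h * g' * h⁻¹) * n = h * (g' * (h⁻¹ * n * h)) * h⁻¹ := by group
        _ = h * ((h⁻¹ * n * h) * g') * h⁻¹ := by rw [h2]
        _ = n * (h * g' * h⁻¹) := by group
    -- conjugating: v' g'' = v g'
    have e1 : (h * (u₀ * d * u₀⁻¹ * d⁻¹) * h⁻¹) * (h * g' * h⁻¹) =
        (u₀ * d * u₀⁻¹ * d⁻¹) * g' := by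
      have h1 : (u * h) * ((u₀ * d * u₀⁻¹ * d⁻¹) * g') * (u * h)⁻¹ =
          (u₀ * d * u₀⁻¹ * d⁻¹) * g' := by
        rw [← hc']; group
      have h2 := hg''N _ (inv_mem huN)
      have h3 := hNab _ huN _ hv'N
      calc (h * (u₀ * d * u₀⁻¹ * d⁻¹) * h⁻¹) * (h * g' * h⁻¹)
          = ((h * (u₀ * d * u₀⁻¹ * d⁻¹) * h⁻¹) * u) * u⁻¹ * (h * g' * h⁻¹) := by group
        _ = (u * (h * (u₀ * d * u₀⁻¹ * d⁻¹) * h⁻¹)) * (u⁻¹ * (h * g' * h⁻¹)) := by
            rw [h3]; group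
        _ = (u * (h * (u₀ * d * u₀⁻¹ * d⁻¹) * h⁻¹)) * ((h * g' * h⁻¹) * u⁻¹) := by rw [h2]
        _ = (u * h) * ((u₀ * d * u₀⁻¹ * d⁻¹) * g') * (u * h)⁻¹ := by group
        _ = _ := h1
    -- v⁻¹ v' = g' g''⁻¹ commutes with d and lies in V
    have e2 : (u₀ * d * u₀⁻¹ * d⁻¹)⁻¹ * (h * (u₀ * d * u₀⁻¹ * d⁻¹) * h⁻¹) =
        g' * (h * g' * h⁻¹)⁻¹ := by
      calc (u₀ * d * u₀⁻¹ * d⁻¹)⁻¹ * (h * (u₀ * d * u₀⁻¹ * d⁻¹) * h⁻¹)
          = (u₀ * d * u₀⁻¹ * d⁻¹)⁻¹ * ((h * (u₀ * d * u₀⁻¹ * d⁻¹) * h⁻¹) * (h * g' * h⁻¹)) *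
              (h * g' * h⁻¹)⁻¹ := by group
        _ = (u₀ * d * u₀⁻¹ * d⁻¹)⁻¹ * ((u₀ * d * u₀⁻¹ * d⁻¹) * g') * (h * g' * h⁻¹)⁻¹ := by
            rw [e1]
        _ = g' * (h * g' * h⁻¹)⁻¹ := by group
    have e3 : (u₀ * d * u₀⁻¹ * d⁻¹)⁻¹ * (h * (u₀ * d * u₀⁻¹ * d⁻¹) * h⁻¹) ∈
        VS (NA (XP G p)) hNab d := mul_mem (inv_mem hvV) hv'V
    have e4 : g' * (h * g' * h⁻¹)⁻¹ ∈ Subgroup.centralizer ({d} : Set G) := by
      have hg'c : g' ∈ Subgroup.centralizer ({d} : Set G) := mem_centralizer_singleton.mpr hg'd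
      have hhc : h ∈ Subgroup.centralizer ({d} : Set G) := mem_centralizer_singleton.mpr hh
      exact mul_mem hg'c (inv_mem (mul_mem (mul_mem hhc hg'c) (inv_mem hhc)))
    rw [← e2, mem_centralizer_singleton] at e4
    have e5 := hVcent _ e3 e4.symm
    have e6 : h * (u₀ * d * u₀⁻¹ * d⁻¹) * h⁻¹ = u₀ * d * u₀⁻¹ * d⁻¹ := by
      rw [inv_mul_eq_one] at e5
      exact e5.symm
    have e7 : h * g' * h⁻¹ = g' := by
      rw [e6] at e1
      exact mul_left_cancel e1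
    rw [Subgroup.mem_inf, mem_centralizer_singleton, mem_centralizer_singleton]
    constructor
    · -- v * (u * h) = (u * h) * v
      have h1 := hNab _ hvN _ huN
      calc (u₀ * d * u₀⁻¹ * d⁻¹) * (u * h) = ((u₀ * d * u₀⁻¹ * d⁻¹) * u) * h := by group
        _ = (u * (u₀ * d * u₀⁻¹ * d⁻¹)) * h := by rw [h1]
        _ = u * (h * (u₀ * d * u₀⁻¹ * d⁻¹) * h⁻¹) * h := by rw [e6]
        _ = (u * h) * (u₀ * d * u₀⁻¹ * d⁻¹) := by group
    · have h1 := hg'N' _ huN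
      calc g' * (u * h) = (g' * u) * h := by group
        _ = (u * g') * h := by rw [h1]
        _ = u * (h * g' * h⁻¹) * h := by rw [e7]
        _ = (u * h) * g' := by group
  have h1 : cs (u₀ * d * u₀⁻¹ * d⁻¹) ∣ cs ((u₀ * d * u₀⁻¹ * d⁻¹) * g') :=
    Subgroup.index_dvd_of_le (hcent.trans inf_le_left)
  have h2 : cs g' ∣ cs ((u₀ * d * u₀⁻¹ * d⁻¹) * g') :=
    Subgroup.index_dvd_of_le (hcent.trans inf_le_right)
  exact ⟨(u₀ * d * u₀⁻¹ * d⁻¹) * g', hpv.trans h1, (hcs ▸ hrg).trans h2⟩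

end core

end Cfsg.Agent.Lib.Helper30.CG
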