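import Mathlib
import Cfsg.Agent.Lib.Helper30.CycSylBasic

/-!
Analysis of a minimal counterexample to S4016: a finite group with a cyclic Sylow `p`-subgroup `P`
all of whose `p'`-subgroups are abelian, such that `P` is not normal, some `p'`-element `h`
normalizes but does not centralize `P`, and every proper subgroup containing `P` has a normal
`p`-complement or normalizes `P`.
-/

set_option autoImplicit false

namespace Cfsg.Agent.Lib.Helper30.CycSyl

open Cfsg

/-- Data of a minimal counterexample. -/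
structure MC (G : Type*) [Group G] [Finite G] (p : ℕ) [Fact p.Prime] where
  P : Sylow p G
  hcyc : IsCyclic (P : Subgroup G)
  hab : ∀ H : Subgroup G, ¬ p ∣ Nat.card H → IsMulCommutative H
  ih : ∀ M : Subgroup G, M ≠ ⊤ → (P : Subgroup G) ≤ M →
      (∃ T : Subgroup G, T ≤ M ∧ M ≤ Subgroup.normalizer (T : Set G) ∧ ¬ p ∣ Nat.card T ∧
        (∀ y ∈ M, (orderOf y).Coprime p → y ∈ T) ∧
        (∀ m ∈ M, ∃ t ∈ T, ∃ x ∈ (P : Subgroup G), m = t * x)) ∨
      M ≤ Subgroup.normalizer ((P : Subgroup G) : Set G)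
  hnn : ¬ (P : Subgroup G).Normal
  h : G
  hN : h ∈ Subgroup.normalizer ((P : Subgroup G) : Set G)
  hcop : (orderOf h).Coprime p
  hnC : h ∉ Subgroup.centralizer ((P : Subgroup G) : Set G)
  x₀ : G
  hx₀ : x₀ ∈ (P : Subgroup G)
  hx₀o : orderOf x₀ = p

namespace MC

variable {G : Type*} [Group G] [Finite G] {p : ℕ} [hp : Fact p.Prime] (X : MC G p)

/-- The normalizer of `P`. -/
abbrev N : Subgroup G := Subgroup.normalizer ((X.P : Subgroup G) : Set G)

/-- The centralizer of `P`. -/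
abbrev C : Subgroup G := Subgroup.centralizer ((X.P : Subgroup G) : Set G)

include X in
theorem P_comm : ∀ a ∈ (X.P : Subgroup G), ∀ b ∈ (X.P : Subgroup G), a * b = b * a := by
  intro a ha b hb
  have hcm : IsMulCommutative (X.P : Subgroup G) := X.hcyc.isMulCommutative
  have := hcm.is_comm.comm ⟨a, ha⟩ ⟨b, hb⟩
  simpa using congrArg Subtype.val this

theorem P_le_C : (X.P : Subgroup G) ≤ X.C := by
  intro x hx
  rw [Subgroup.mem_centralizer_iff]
  intro y hy
  exact X.P_comm y hy x hx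

theorem C_le_N : X.C ≤ X.N := Subgroup.centralizer_le_normalizer _

theorem P_le_N : (X.P : Subgroup G) ≤ X.N := Subgroup.le_normalizer

theorem mem_C_iff (g : G) : g ∈ X.C ↔ ∀ x ∈ (X.P : Subgroup G), x * g = g * x :=
  Subgroup.mem_centralizer_iff

theorem conj_mem_P {n x : G} (hn : n ∈ X.N) (hx : x ∈ (X.P : Subgroup G)) :
    n * x * n⁻¹ ∈ (X.P : Subgroup G) :=
  (Subgroup.mem_normalizer_iff.mp hn x).mp hx

/-- `p`-elements of `N(P)` lie in `P`. -/
theorem pel_N_mem_P {x : G} (hx : x ∈ X.N) (hxp : ∃ k : ℕ, x ^ (p ^ k) = 1) :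
    x ∈ (X.P : Subgroup G) := by
  obtain ⟨k, hk⟩ := hxp
  have hxo : orderOf x ∣ p ^ k := orderOf_dvd_of_pow_eq_one hk
  obtain ⟨j, -, hj⟩ := (Nat.dvd_prime_pow hp.out).mp hxo
  have hpg : IsPGroup p (Subgroup.zpowers x) :=
    IsPGroup.of_card (n := j) (by rw [Nat.card_zpowers, hj])
  have h1 := hpg.inf_normalizer_sylow X.P
  have h2 : x ∈ Subgroup.zpowers x ⊓ Subgroup.normalizer ((X.P : Subgroup G) : Set G) :=
    ⟨Subgroup.mem_zpowers x, hx⟩
  have h3 : x ∈ Subgroup.zpowers x ⊓ (X.P : Subgroup G) := by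
    rw [← h1]; exact h2
  exact h3.2

/-- Every `p`-element is conjugate into `P`. -/
theorem pel_conj {x : G} (hxp : ∃ k : ℕ, x ^ (p ^ k) = 1) :
    ∃ g : G, g * x * g⁻¹ ∈ (X.P : Subgroup G) := by
  obtain ⟨k, hk⟩ := hxp
  have hxo : orderOf x ∣ p ^ k := orderOf_dvd_of_pow_eq_one hk
  obtain ⟨j, -, hj⟩ := (Nat.dvd_prime_pow hp.out).mp hxo
  have hpg : IsPGroup p (Subgroup.zpowers x) :=
    IsPGroup.of_card (n := j) (by rw [Nat.card_zpowers, hj])
  obtain ⟨g, hg⟩ := Cfsg.Agent.Lib.Helper4.exists_conj_mem_sylow X.P hpg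
  exact ⟨g, hg x (Subgroup.mem_zpowers x)⟩

omit [Finite G] hp in
/-- An element that is both a `p`-element and a `p'`-element is trivial. -/
theorem eq_one_of_pel_of_p'el {x : G} (hxp : ∃ k : ℕ, x ^ (p ^ k) = 1)
    (hx' : (orderOf x).Coprime p) : x = 1 := by
  obtain ⟨k, hk⟩ := hxp
  have hxo : orderOf x ∣ p ^ k := orderOf_dvd_of_pow_eq_one hk
  have : orderOf x ∣ 1 := by
    have h2 : Nat.Coprime (orderOf x) (p ^ k) := Nat.Coprime.pow_right k hx'
    rw [← h2.gcd_eq_one]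
    exact Nat.dvd_gcd dvd_rfl hxo
  exact orderOf_eq_one_iff.mp (Nat.dvd_one.mp this)

theorem pel_of_mem_P {x : G} (hx : x ∈ (X.P : Subgroup G)) : ∃ k : ℕ, x ^ (p ^ k) = 1 := by
  obtain ⟨k, hk⟩ := X.P.isPGroup' ⟨x, hx⟩
  exact ⟨k, by simpa using congrArg Subtype.val hk⟩

omit [Finite G] in
/-- Elements of a subgroup of order prime to `p` are `p'`-elements. -/
theorem p'el_of_mem {T : Subgroup G} (hT : ¬ p ∣ Nat.card T) {y : G} (hy : y ∈ T) :
    (orderOf y).Coprime p := by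
  have h1 : orderOf y ∣ Nat.card T := by
    rw [← Subgroup.orderOf_mk y hy]; exact orderOf_dvd_natCard _
  exact Nat.Coprime.coprime_dvd_left h1 ((Nat.Prime.coprime_iff_not_dvd hp.out).mpr hT).symm

/-- `P ∩ T = 1` for a `p'`-subgroup `T`. -/
theorem eq_one_of_mem_P_of_mem {T : Subgroup G} (hT : ¬ p ∣ Nat.card T) {y : G}
    (hyP : y ∈ (X.P : Subgroup G)) (hy : y ∈ T) : y = 1 :=
  eq_one_of_pel_of_p'el (X.pel_of_mem_P hyP) (p'el_of_mem hT hy)

/-- Fixed-point-freeness of `p'`-elements of `N(P) ∖ C(P)`. -/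
theorem fpf {g x : G} (hg : g ∈ X.N) (hgc : (orderOf g).Coprime p) (hgC : g ∉ X.C)
    (hx : x ∈ (X.P : Subgroup G)) (hfix : g * x * g⁻¹ = x) : x = 1 :=
  fpf_of_cyclic (X.P : Subgroup G) X.hcyc X.P.isPGroup' g hg hgc hgC x hx hfix

/-- A `p'`-element of `N(P)` fixing a nontrivial element of `P` centralizes `P`. -/
theorem mem_C_of_fix {g x : G} (hg : g ∈ X.N) (hgc : (orderOf g).Coprime p)
    (hx : x ∈ (X.P : Subgroup G)) (hx1 : x ≠ 1) (hfix : g * x * g⁻¹ = x) : g ∈ X.C := by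
  by_contra hgC
  exact hx1 (X.fpf hg hgc hgC hx hfix)

/-- Surjectivity of `x ↦ x⁻¹ (h x h⁻¹)` on `P`. -/
theorem surj_comm (x : G) (hx : x ∈ (X.P : Subgroup G)) :
    ∃ x' ∈ (X.P : Subgroup G), x'⁻¹ * (X.h * x' * X.h⁻¹) = x := by
  let f : ↥(X.P : Subgroup G) → ↥(X.P : Subgroup G) := fun a =>
    ⟨(a : G)⁻¹ * (X.h * a * X.h⁻¹), Subgroup.mul_mem _ (Subgroup.inv_mem _ a.2) (X.conj_mem_P X.hN a.2)⟩
  have hinj : Function.Injective f := by
    intro a b hab
    have h1 : (a : G)⁻¹ * (X.h * a * X.h⁻¹) = (b : G)⁻¹ * (X.h * b * X.h⁻¹) :=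
      congrArg Subtype.val hab
    have haP := a.2
    have hbP := b.2
    have hha := X.conj_mem_P X.hN haP
    have hhb := X.conj_mem_P X.hN hbP
    -- h (a b⁻¹) h⁻¹ = a b⁻¹
    have h2 : X.h * ((a : G) * (b : G)⁻¹) * X.h⁻¹ = (a : G) * (b : G)⁻¹ := by
      have e1 : X.h * ((a : G) * (b : G)⁻¹) * X.h⁻¹
          = (X.h * a * X.h⁻¹) * (X.h * b * X.h⁻¹)⁻¹ := by group
      rw [e1]
      have e2 : X.h * (a : G) * X.h⁻¹ = (a : G) * ((b : G)⁻¹ * (X.h * b * X.h⁻¹)) := by
        rw [← h1]; group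
      rw [e2]; group
    have h3 : (a : G) * (b : G)⁻¹ = 1 :=
      X.fpf X.hN X.hcop X.hnC (Subgroup.mul_mem _ haP (Subgroup.inv_mem _ hbP)) h2
    apply Subtype.ext
    exact mul_inv_eq_one.mp h3
  have hsurj : Function.Surjective f := Finite.injective_iff_surjective.mp hinj
  obtain ⟨a, ha⟩ := hsurj ⟨x, hx⟩
  exact ⟨a, a.2, congrArg Subtype.val ha⟩

/-- A `p'`-subgroup normalized by `P` and by `h` is centralized by `P`. -/
theorem le_C_of_normalized (T : Subgroup G) (hT : ¬ p ∣ Nat.card T)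
    (hPT : (X.P : Subgroup G) ≤ Subgroup.normalizer (T : Set G))
    (hhT : X.h ∈ Subgroup.normalizer (T : Set G)) : T ≤ X.C := by
  -- T ⊔ ⟨h⟩ is a p'-group, hence abelian
  have hzT : Subgroup.zpowers X.h ≤ Subgroup.normalizer (T : Set G) :=
    (Subgroup.zpowers_le).mpr hhT
  have hcard := Cfsg.Agent.Lib.Helper22.card_sup_dvd_mul_of_le_normalizer hzT
  have hD : ¬ p ∣ Nat.card (T ⊔ Subgroup.zpowers X.h : Subgroup G) := by
    intro hd
    have := hd.trans hcard
    rcases (Nat.Prime.dvd_mul hp.out).mp this with h1 | h1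
    · exact hT h1
    · rw [Nat.card_zpowers] at h1
      have := Nat.Coprime.eq_one_of_dvd X.hcop.symm h1
      exact hp.out.ne_one this
  have hDc := X.hab _ hD
  have hcomm : ∀ t ∈ T, X.h * t = t * X.h := by
    intro t ht
    have h1 : X.h ∈ (T ⊔ Subgroup.zpowers X.h : Subgroup G) :=
      (le_sup_right : Subgroup.zpowers X.h ≤ _) (Subgroup.mem_zpowers _)
    have h2 : t ∈ (T ⊔ Subgroup.zpowers X.h : Subgroup G) := (le_sup_left : T ≤ _) ht
    have := hDc.is_comm.comm ⟨X.h, h1⟩ ⟨t, h2⟩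
    simpa using congrArg Subtype.val this
  intro t ht
  rw [X.mem_C_iff]
  intro x hx
  obtain ⟨x', hx', rfl⟩ := X.surj_comm x hx
  set s := x' * t * x'⁻¹ with hs
  have hsT : s ∈ T := (Subgroup.mem_normalizer_iff.mp (hPT hx') t).mp ht
  have h1 := hcomm s hsT
  have h2 := hcomm t ht
  -- x t x⁻¹ = t
  have key : (x'⁻¹ * (X.h * x' * X.h⁻¹)) * t * (x'⁻¹ * (X.h * x' * X.h⁻¹))⁻¹ = t := by
    have e1 : (x'⁻¹ * (X.h * x' * X.h⁻¹)) * t * (x'⁻¹ * (X.h * x' * X.h⁻¹))⁻¹
        = x'⁻¹ * (X.h * (x' * (X.h⁻¹ * t * X.h) * x'⁻¹) * X.h⁻¹) * x' := by group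
    have e2 : X.h⁻¹ * t * X.h = t := by
      calc X.h⁻¹ * t * X.h = X.h⁻¹ * (t * X.h) := by group
        _ = X.h⁻¹ * (X.h * t) := by rw [h2]
        _ = t := by group
    rw [e1, e2, ← hs]
    have e3 : X.h * s * X.h⁻¹ = s := by rw [h1]; group
    rw [e3, hs]; group
  calc (x'⁻¹ * (X.h * x' * X.h⁻¹)) * t
      = ((x'⁻¹ * (X.h * x' * X.h⁻¹)) * t * (x'⁻¹ * (X.h * x' * X.h⁻¹))⁻¹)
          * (x'⁻¹ * (X.h * x' * X.h⁻¹)) := by group
    _ = t * (x'⁻¹ * (X.h * x' * X.h⁻¹)) := by rw [key]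

omit [Finite G] hp in
theorem isPel_conj {x : G} (g : G) (hxp : ∃ k : ℕ, x ^ (p ^ k) = 1) :
    ∃ k : ℕ, (g * x * g⁻¹) ^ (p ^ k) = 1 := by
  obtain ⟨k, hk⟩ := hxp
  exact ⟨k, by rw [conj_pow, hk]; group⟩

/-- If `M ≤ N(P)` is normal in `G` and contains `P`, then `P` is normal: contradiction. -/
theorem not_normal_le_N (M : Subgroup G) (hMn : M.Normal) (hPM : (X.P : Subgroup G) ≤ M)
    (hMN : M ≤ X.N) : False := by
  apply X.hnn
  rw [← Subgroup.normalizer_eq_top_iff, eq_top_iff]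
  intro g _
  apply mem_normalizer_of_conj_mem
  intro x hx
  apply X.pel_N_mem_P (hMN (hMn.conj_mem x (hPM hx) g))
  exact isPel_conj g (X.pel_of_mem_P hx)

/-- A proper subgroup containing `P` and `h` normalizes `P`. -/
theorem le_N_of_h_mem (M : Subgroup G) (hM : M ≠ ⊤) (hPM : (X.P : Subgroup G) ≤ M)
    (hhM : X.h ∈ M) : M ≤ X.N := by
  rcases X.ih M hM hPM with ⟨T, hTM, hMT, hTp, hTel, -⟩ | hb
  · exfalso
    have hhT : X.h ∈ T := hTel X.h hhM X.hcop
    apply X.hnC
    rw [X.mem_C_iff]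
    intro x hx
    have h1 : X.h * x * X.h⁻¹ * x⁻¹ ∈ T := by
      have e : X.h * x * X.h⁻¹ * x⁻¹ = X.h * (x * X.h⁻¹ * x⁻¹) := by group
      rw [e]
      exact T.mul_mem hhT ((Subgroup.mem_normalizer_iff.mp (hMT (hPM hx)) _).mp (T.inv_mem hhT))
    have h2 : X.h * x * X.h⁻¹ * x⁻¹ ∈ (X.P : Subgroup G) :=
      Subgroup.mul_mem _ (X.conj_mem_P X.hN hx) (Subgroup.inv_mem _ hx)
    have h3 := X.eq_one_of_mem_P_of_mem hTp h2 h1
    calc x * X.h = (X.h * x * X.h⁻¹ * x⁻¹)⁻¹ * (X.h * x) := by group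
      _ = X.h * x := by rw [h3]; group
  · exact hb

/-- No proper normal subgroup contains `P`. -/
theorem no_normal (M : Subgroup G) (hMn : M.Normal) (hPM : (X.P : Subgroup G) ≤ M) : M = ⊤ := by
  by_contra hM
  rcases X.ih M hM hPM with ⟨T, hTM, hMT, hTp, hTel, hTdec⟩ | hb
  · have hTn : ∀ g : G, g ∈ Subgroup.normalizer (T : Set G) := by
      intro g
      apply mem_normalizer_of_conj_mem
      intro t ht
      apply hTel _ (hMn.conj_mem t (hTM ht) g)
      rw [orderOf_conj']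
      exact p'el_of_mem hTp ht
    have hTC : T ≤ X.C := X.le_C_of_normalized T hTp (fun x _ => hTn x) (hTn X.h)
    apply X.not_normal_le_N M hMn hPM
    intro m hm
    obtain ⟨t, ht, x, hx, rfl⟩ := hTdec m hm
    exact Subgroup.mul_mem _ (X.C_le_N (hTC ht)) (X.P_le_N hx)
  · exact X.not_normal_le_N M hMn hPM hb

/-- A normal `p'`-subgroup is centralized by `P`. -/
theorem normal_p'_le_C (T : Subgroup G) (hTn : T.Normal) (hT : ¬ p ∣ Nat.card T) : T ≤ X.C := by
  have : Subgroup.normalizer (T : Set G) = ⊤ := Subgroup.normalizer_eq_top_iff.mpr hTn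
  apply X.le_C_of_normalized T hT
  · rw [this]; exact le_top
  · rw [this]; exact Subgroup.mem_top _

theorem x₀_ne_one : X.x₀ ≠ 1 := by
  intro h1
  have := X.hx₀o
  rw [h1, orderOf_one] at this
  exact hp.out.one_lt.ne this

/-- `Ω₁(P) = ⟨x₀⟩` contains every element of order `p` of `P`. -/
theorem mem_Z {a : G} (ha : a ∈ (X.P : Subgroup G)) (hao : orderOf a = p) :
    a ∈ Subgroup.zpowers X.x₀ := by
  have hA : Subgroup.zpowers a ≤ (X.P : Subgroup G) := (Subgroup.zpowers_le).mpr ha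
  have hB : Subgroup.zpowers X.x₀ ≤ (X.P : Subgroup G) := (Subgroup.zpowers_le).mpr X.hx₀
  have ha1 : a ≠ 1 := by
    intro h1; rw [h1, orderOf_one] at hao; exact hp.out.one_lt.ne hao
  have hA1 : Subgroup.zpowers a ≠ ⊥ := by rw [Ne, Subgroup.zpowers_eq_bot]; exact ha1
  have hB1 : Subgroup.zpowers X.x₀ ≠ ⊥ := by rw [Ne, Subgroup.zpowers_eq_bot]; exact X.x₀_ne_one
  obtain ⟨z, hzA, hzB, hzo⟩ := exists_mem_inf_of_cyclic p (X.P : Subgroup G) X.hcyc X.P.isPGroup'
    hA hB hA1 hB1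
  have h1 : Subgroup.zpowers z = Subgroup.zpowers a := by
    apply Subgroup.eq_of_le_of_card_ge ((Subgroup.zpowers_le).mpr hzA)
    rw [Nat.card_zpowers, Nat.card_zpowers, hzo, hao]
  have h2 : a ∈ Subgroup.zpowers z := by rw [h1]; exact Subgroup.mem_zpowers a
  exact ((Subgroup.zpowers_le).mpr hzB) h2

theorem Z_eq_zpowers {a : G} (ha : a ∈ Subgroup.zpowers X.x₀) (ha1 : a ≠ 1) :
    Subgroup.zpowers a = Subgroup.zpowers X.x₀ := by
  apply Subgroup.eq_of_le_of_card_ge ((Subgroup.zpowers_le).mpr ha)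
  rw [Nat.card_zpowers, Nat.card_zpowers, X.hx₀o]
  have h1 : orderOf a ∣ p := by
    rw [← X.hx₀o]; exact orderOf_dvd_of_mem_zpowers ha
  rcases (Nat.dvd_prime hp.out).mp h1 with h2 | h2
  · exact absurd (orderOf_eq_one_iff.mp h2) ha1
  · exact h2.ge

/-- The normalizer of `Ω₁(P)` normalizes `P`. -/
theorem normalizer_Z_le :
    Subgroup.normalizer ((Subgroup.zpowers X.x₀ : Subgroup G) : Set G) ≤ X.N := by
  set Z := Subgroup.zpowers X.x₀ with hZ
  have hZP : Z ≤ (X.P : Subgroup G) := (Subgroup.zpowers_le).mpr X.hx₀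
  have hPM : (X.P : Subgroup G) ≤ Subgroup.normalizer (Z : Set G) := by
    intro x hx
    apply mem_normalizer_of_conj_mem
    intro z hz
    have : x * z * x⁻¹ = z := by
      rw [X.P_comm x hx z (hZP hz)]; group
    rw [this]; exact hz
  have hhM : X.h ∈ Subgroup.normalizer (Z : Set G) := by
    apply mem_normalizer_of_conj_mem
    intro z hz
    obtain ⟨k, rfl⟩ := Subgroup.mem_zpowers_iff.mp hz
    rw [← conj_zpow]
    apply Subgroup.zpow_mem
    apply X.mem_Z (X.conj_mem_P X.hN X.hx₀)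
    rw [orderOf_conj', X.hx₀o]
  by_cases hM : Subgroup.normalizer (Z : Set G) = ⊤
  · exfalso
    have hZn : Z.Normal := Subgroup.normalizer_eq_top_iff.mp hM
    have hC1 : (Subgroup.centralizer (Z : Set G)).Normal := Subgroup.normal_centralizer
    have hPC1 : (X.P : Subgroup G) ≤ Subgroup.centralizer (Z : Set G) := by
      intro x hx
      rw [Subgroup.mem_centralizer_iff]
      intro z hz
      exact X.P_comm z (hZP hz) x hx
    have htop := X.no_normal _ hC1 hPC1
    have hh : X.h ∈ Subgroup.centralizer (Z : Set G) := by rw [htop]; exact Subgroup.mem_top _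
    have h1 := Subgroup.mem_centralizer_iff.mp hh X.x₀ (Subgroup.mem_zpowers _)
    have h2 : X.h * X.x₀ * X.h⁻¹ = X.x₀ := by rw [← h1]; group
    exact X.x₀_ne_one (X.fpf X.hN X.hcop X.hnC X.hx₀ h2)
  · exact X.le_N_of_h_mem _ hM hPM hhM

/-- `P` is a TI-subgroup. -/
theorem TI {x g : G} (hx : x ∈ (X.P : Subgroup G)) (hx1 : x ≠ 1)
    (hgx : g * x * g⁻¹ ∈ (X.P : Subgroup G)) : g ∈ X.N := by
  apply X.normalizer_Z_le
  have hzx : Subgroup.zpowers x ≤ (X.P : Subgroup G) := (Subgroup.zpowers_le).mpr hx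
  have hne : Subgroup.zpowers x ≠ ⊥ := by rw [Ne, Subgroup.zpowers_eq_bot]; exact hx1
  obtain ⟨a, haz, hao⟩ := exists_orderOf_eq_of_ne_bot p (X.P.isPGroup'.to_le hzx) hne
  have haP : a ∈ (X.P : Subgroup G) := hzx haz
  have haZ : a ∈ Subgroup.zpowers X.x₀ := X.mem_Z haP hao
  have ha1 : a ≠ 1 := by
    intro h1; rw [h1, orderOf_one] at hao; exact hp.out.one_lt.ne hao
  have hgaP : g * a * g⁻¹ ∈ (X.P : Subgroup G) := by
    obtain ⟨j, rfl⟩ := Subgroup.mem_zpowers_iff.mp haz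
    rw [← conj_zpow]
    exact Subgroup.zpow_mem _ hgx j
  have hgaZ : g * a * g⁻¹ ∈ Subgroup.zpowers X.x₀ := by
    apply X.mem_Z hgaP
    rw [orderOf_conj', hao]
  apply mem_normalizer_of_conj_mem
  intro z hz
  rw [← X.Z_eq_zpowers haZ ha1] at hz
  obtain ⟨i, rfl⟩ := Subgroup.mem_zpowers_iff.mp hz
  rw [← conj_zpow]
  exact Subgroup.zpow_mem _ hgaZ i

/-- The centralizer of a nontrivial element of `P` is `C(P)`. -/
theorem cent_mem_C {x g : G} (hx : x ∈ (X.P : Subgroup G)) (hx1 : x ≠ 1)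
    (hgx : g * x = x * g) : g ∈ X.C := by
  have hgN : g ∈ X.N := by
    apply X.TI hx hx1
    have : g * x * g⁻¹ = x := by rw [hgx]; group
    rw [this]; exact hx
  obtain ⟨u, v, huv, hu, hv, hup, hvc⟩ := exists_parts p g
  have hzN : Subgroup.zpowers g ≤ X.N := (Subgroup.zpowers_le).mpr hgN
  have huP : u ∈ (X.P : Subgroup G) := X.pel_N_mem_P (hzN hu) hup
  have hvx : v * x * v⁻¹ = x := by
    obtain ⟨k, rfl⟩ := Subgroup.mem_zpowers_iff.mp hv
    have hc : Commute g x := hgx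
    have := (hc.zpow_left k).eq
    rw [this]; group
  have hvC : v ∈ X.C := X.mem_C_of_fix (hzN hv) hvc hx hx1 hvx
  rw [← huv]
  exact Subgroup.mul_mem _ (X.P_le_C huP) hvC

/-- `N(P)` is a maximal subgroup. -/
theorem N_max (M : Subgroup G) (hM : M ≠ ⊤) (hNM : X.N ≤ M) : M ≤ X.N :=
  X.le_N_of_h_mem M hM (X.P_le_N.trans hNM) (hNM X.hN)

include X in
/-- A subgroup of prime-power order `q ^ k` with `q ≠ p` is abelian. -/
theorem comm_of_qgroup {q : ℕ} (hq : q.Prime) (hqp : q ≠ p) (Q : Subgroup G)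
    (hQ : IsPGroup q Q) : IsMulCommutative Q := by
  apply X.hab
  have : Fact q.Prime := ⟨hq⟩
  obtain ⟨k, hk⟩ := hQ.exists_card_eq
  rw [hk]
  intro hd
  exact hqp ((Nat.prime_dvd_prime_iff_eq hp.out hq).mp (hp.out.dvd_of_dvd_pow hd)).symm

omit [Finite G] in
theorem mul_comm_of_comm {Q : Subgroup G} (hQ : IsMulCommutative Q) {a b : G} (ha : a ∈ Q)
    (hb : b ∈ Q) : a * b = b * a := by
  have := hQ.is_comm.comm ⟨a, ha⟩ ⟨b, hb⟩
  simpa using congrArg Subtype.val this

/-- Elements of `P` have order prime to any prime `q ≠ p`. -/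
theorem coprime_of_mem_P {q : ℕ} (hq : q.Prime) (hqp : q ≠ p) {x : G}
    (hx : x ∈ (X.P : Subgroup G)) : (orderOf x).Coprime q := by
  obtain ⟨k, hk⟩ := X.pel_of_mem_P hx
  have h1 : orderOf x ∣ p ^ k := orderOf_dvd_of_pow_eq_one hk
  apply Nat.Coprime.coprime_dvd_left h1
  apply Nat.Coprime.pow_left
  exact (Nat.coprime_primes hp.out hq).mpr hqp.symm

include X in
/-- A proper normal subgroup cannot contain all `q'`-elements, for a prime `q ≠ p`. -/
theorem no_normal_q' {q : ℕ} (hq : q.Prime) (hqp : q ≠ p) (M : Subgroup G) (hMn : M.Normal)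
    (hM : M ≠ ⊤) (hel : ∀ x : G, (orderOf x).Coprime q → x ∈ M) : False :=
  hM (X.no_normal M hMn (fun _ hx => hel _ (X.coprime_of_mem_P hq hqp hx)))

/-- A power of prime order extracted from a nontrivial `p'`-element. -/
theorem exists_prime_pow_of_p'el {y : G} (hy1 : y ≠ 1) (hyc : (orderOf y).Coprime p) :
    ∃ (q : ℕ) (j : ℕ), q.Prime ∧ q ≠ p ∧ orderOf (y ^ j) = q := by
  have hne : orderOf y ≠ 1 := fun h => hy1 (orderOf_eq_one_iff.mp h)
  obtain ⟨q, hq, hqd⟩ := Nat.exists_prime_and_dvd hne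
  refine ⟨q, orderOf y / q, hq, ?_, orderOf_pow_orderOf_div (orderOf_pos y).ne' hqd⟩
  rintro rfl
  have := Nat.Coprime.eq_one_of_dvd hyc.symm hqd
  exact hq.ne_one this

include X in
/-- There are no nontrivial central `p'`-elements. -/
theorem no_central {z : G} (hz : z ∈ Subgroup.center G) (hzc : (orderOf z).Coprime p) :
    z = 1 := by
  by_contra hz1
  obtain ⟨q, j, hq, hqp, hzo⟩ := exists_prime_pow_of_p'el hz1 hzc
  have : Fact q.Prime := ⟨hq⟩
  set z' := z ^ j with hz'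
  have hz'c : z' ∈ Subgroup.center G := Subgroup.pow_mem _ hz j
  have hz'1 : z' ≠ 1 := by
    intro h1; rw [h1, orderOf_one] at hzo; exact hq.one_lt.ne hzo
  have hpg : IsPGroup q (Subgroup.zpowers z') :=
    IsPGroup.of_card (n := 1) (by rw [Nat.card_zpowers, hzo, pow_one])
  obtain ⟨Q, hQ⟩ := hpg.exists_le_sylow
  have hQc := X.comm_of_qgroup hq hqp (Q : Subgroup G) Q.isPGroup'
  obtain ⟨M, hMn, hM, hel⟩ := transfer_central_sub Q hQc z' hz'c (hQ (Subgroup.mem_zpowers _)) hz'1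
  exact X.no_normal_q' hq hqp M hMn hM hel

/-- The normal `p`-complement `K` of `C(P)`. -/
theorem exists_K : ∃ K : Subgroup G, K ≤ X.C ∧ X.N ≤ Subgroup.normalizer (K : Set G) ∧
    ¬ p ∣ Nat.card K ∧ ∀ y ∈ X.C, (orderOf y).Coprime p → y ∈ K := by
  have hnpc : HasNormalPComplement p X.C := by
    apply Cfsg.Agent.Lib.Helper2.hasNormalPComplement_of_normalizer_le_centralizer
      (X.P.subtype X.P_le_C)
    intro c _
    rw [Subgroup.mem_centralizer_iff]
    intro y hy
    have hy' : (y : G) ∈ (X.P : Subgroup G) := by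
      have : y ∈ ((X.P.subtype X.P_le_C : Sylow p X.C) : Subgroup X.C) := hy
      rw [Sylow.coe_subtype, Subgroup.mem_subgroupOf] at this
      exact this
    apply Subtype.ext
    have := (X.mem_C_iff c).mp c.2 y hy'
    simpa using this
  obtain ⟨T, hTC, hCT, hTp, hTel⟩ := npc_internal X.C hnpc
  refine ⟨T, hTC, ?_, hTp, hTel⟩
  intro n hn
  apply mem_normalizer_of_conj_mem
  intro t ht
  apply hTel
  · rw [X.mem_C_iff]
    intro x hx
    have hx' : n⁻¹ * x * n ∈ (X.P : Subgroup G) := by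
      have := X.conj_mem_P (Subgroup.inv_mem _ hn) hx
      simpa using this
    have := (X.mem_C_iff t).mp (hTC ht) _ hx'
    calc x * (n * t * n⁻¹) = n * ((n⁻¹ * x * n) * t) * n⁻¹ := by group
      _ = n * (t * (n⁻¹ * x * n)) * n⁻¹ := by rw [this]
      _ = n * t * n⁻¹ * x := by group
  · rw [orderOf_conj']
    exact p'el_of_mem hTp ht

/-- `N(P)` centralizes every `p'`-element of `C(P)`. -/
theorem N_comm_of_mem_C {y n : G} (hy : y ∈ X.C) (hyc : (orderOf y).Coprime p) (hn : n ∈ X.N) :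
    n * y = y * n := by
  obtain ⟨K, hKC, hNK, hKp, hKel⟩ := X.exists_K
  have hyK : y ∈ K := hKel y hy hyc
  obtain ⟨u, v, huv, hu, hv, hup, hvc⟩ := exists_parts p n
  have hzN : Subgroup.zpowers n ≤ X.N := (Subgroup.zpowers_le).mpr hn
  have huP : u ∈ (X.P : Subgroup G) := X.pel_N_mem_P (hzN hu) hup
  have h1 : u * y = y * u := (X.mem_C_iff y).mp hy u huP
  have h2 : v * y = y * v := by
    have hzK : Subgroup.zpowers v ≤ Subgroup.normalizer (K : Set G) :=
      (Subgroup.zpowers_le).mpr (hNK (hzN hv))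
    have hcard := Cfsg.Agent.Lib.Helper22.card_sup_dvd_mul_of_le_normalizer hzK
    have hD : ¬ p ∣ Nat.card (K ⊔ Subgroup.zpowers v : Subgroup G) := by
      intro hd
      rcases (Nat.Prime.dvd_mul hp.out).mp (hd.trans hcard) with h1 | h1
      · exact hKp h1
      · rw [Nat.card_zpowers] at h1
        exact hp.out.ne_one (Nat.Coprime.eq_one_of_dvd hvc.symm h1)
    have hDc := X.hab _ hD
    exact mul_comm_of_comm hDc ((le_sup_right : Subgroup.zpowers v ≤ _) (Subgroup.mem_zpowers _))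
      ((le_sup_left : K ≤ _) hyK)
  rw [← huv]
  calc u * v * y = u * (v * y) := by group
    _ = u * (y * v) := by rw [h2]
    _ = (u * y) * v := by group
    _ = (y * u) * v := by rw [h1]
    _ = y * (u * v) := by group

/-- The centralizer of a nontrivial `p'`-element of `C(P)` is `N(P)`. -/
theorem cent_eq_N {y : G} (hy : y ∈ X.C) (hyc : (orderOf y).Coprime p) (hy1 : y ≠ 1) :
    Subgroup.centralizer ({y} : Set G) = X.N := by
  have h1 : X.N ≤ Subgroup.centralizer ({y} : Set G) := by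
    intro n hn
    rw [Subgroup.mem_centralizer_singleton_iff]
    exact X.N_comm_of_mem_C hy hyc hn
  apply le_antisymm _ h1
  apply X.N_max _ _ h1
  intro htop
  apply hy1
  apply X.no_central _ hyc
  rw [Subgroup.mem_center_iff]
  intro g
  have : g ∈ Subgroup.centralizer ({y} : Set G) := by rw [htop]; exact Subgroup.mem_top _
  exact Subgroup.mem_centralizer_singleton_iff.mp this

/-- Control of fusion of `p'`-elements of `C(P)`. -/
theorem control {y g : G} (hy : y ∈ X.C) (hyc : (orderOf y).Coprime p) (hy1 : y ≠ 1)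
    (hgy : g * y * g⁻¹ ∈ X.C) : g ∈ X.N := by
  have hgyc : (orderOf (g * y * g⁻¹)).Coprime p := by rw [orderOf_conj']; exact hyc
  have hgy1 : g * y * g⁻¹ ≠ 1 := by
    intro h1
    apply hy1
    calc y = g⁻¹ * (g * y * g⁻¹) * g := by group
      _ = 1 := by rw [h1]; group
  have hc := X.cent_eq_N hgy hgyc hgy1
  apply mem_normalizer_of_conj_mem
  intro x hx
  apply X.pel_N_mem_P _ (isPel_conj g (X.pel_of_mem_P hx))
  rw [← hc, Subgroup.mem_centralizer_singleton_iff]
  have := (X.mem_C_iff y).mp hy x hx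
  calc g * x * g⁻¹ * (g * y * g⁻¹) = g * (x * y) * g⁻¹ := by group
    _ = g * (y * x) * g⁻¹ := by rw [this]
    _ = g * y * g⁻¹ * (g * x * g⁻¹) := by group

include X in
/-- Burnside: no nontrivial Sylow `q`-subgroup (`q ≠ p`) is central in its normalizer. -/
theorem burnside_q {q : ℕ} [hq : Fact q.Prime] (hqp : q ≠ p) (Q : Sylow q G)
    (hQ1 : (Q : Subgroup G) ≠ ⊥) :
    ¬ Subgroup.normalizer ((Q : Subgroup G) : Set G) ≤
      Subgroup.centralizer ((Q : Subgroup G) : Set G) := by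
  intro h
  obtain ⟨M, hMn, hM, hel⟩ := burnside_normal_sub Q hQ1 h
  exact X.no_normal_q' hq.out hqp M hMn hM hel

include X in
/-- The normalizer of a nontrivial Sylow `q`-subgroup (`q ≠ p`) has order divisible by `p`. -/
theorem p_dvd_card_normalizer {q : ℕ} [hq : Fact q.Prime] (hqp : q ≠ p) (Q : Sylow q G)
    (hQ1 : (Q : Subgroup G) ≠ ⊥) :
    p ∣ Nat.card (Subgroup.normalizer ((Q : Subgroup G) : Set G)) := by
  by_contra hnd
  have hc := X.hab _ hnd
  apply X.burnside_q hqp Q hQ1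
  intro n hn
  rw [Subgroup.mem_centralizer_iff]
  intro a ha
  exact mul_comm_of_comm hc (Subgroup.le_normalizer ha) hn

/-! ### The case `C(P) = P` -/

section K1

variable (hK1 : ∀ y ∈ X.C, (orderOf y).Coprime p → y = 1)
include hK1

theorem C_le_P : X.C ≤ (X.P : Subgroup G) := by
  intro g hg
  obtain ⟨u, v, huv, hu, hv, hup, hvc⟩ := exists_parts p g
  have hzC : Subgroup.zpowers g ≤ X.C := (Subgroup.zpowers_le).mpr hg
  have huP : u ∈ (X.P : Subgroup G) := X.pel_N_mem_P (X.C_le_N (hzC hu)) hup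
  have hv1 : v = 1 := hK1 v (hzC hv) hvc
  rw [← huv, hv1, mul_one]
  exact huP

theorem cent_mem_P {x g : G} (hx : x ∈ (X.P : Subgroup G)) (hx1 : x ≠ 1)
    (hgx : g * x = x * g) : g ∈ (X.P : Subgroup G) :=
  X.C_le_P hK1 (X.cent_mem_C hx hx1 hgx)

/-- A `p`-element commuting with a nontrivial `p'`-element is trivial. -/
theorem pel_comm_eq_one {x y : G} (hy1 : y ≠ 1) (hyc : (orderOf y).Coprime p)
    (hxy : x * y = y * x) (hxp : ∃ k : ℕ, x ^ (p ^ k) = 1) : x = 1 := by
  by_contra hx1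
  obtain ⟨g, hg⟩ := X.pel_conj hxp
  have hgx1 : g * x * g⁻¹ ≠ 1 := by
    intro h1
    apply hx1
    calc x = g⁻¹ * (g * x * g⁻¹) * g := by group
      _ = 1 := by rw [h1]; group
  have hcomm : (g * y * g⁻¹) * (g * x * g⁻¹) = (g * x * g⁻¹) * (g * y * g⁻¹) := by
    calc (g * y * g⁻¹) * (g * x * g⁻¹) = g * (y * x) * g⁻¹ := by group
      _ = g * (x * y) * g⁻¹ := by rw [hxy]
      _ = (g * x * g⁻¹) * (g * y * g⁻¹) := by group
  have h1 : g * y * g⁻¹ ∈ (X.P : Subgroup G) := X.cent_mem_P hK1 hg hgx1 hcomm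
  have h2 : g * y * g⁻¹ = 1 := by
    apply eq_one_of_pel_of_p'el (X.pel_of_mem_P h1)
    rw [orderOf_conj']; exact hyc
  apply hy1
  calc y = g⁻¹ * (g * y * g⁻¹) * g := by group
    _ = 1 := by rw [h2]; group

/-- Centralizers of nontrivial `p'`-elements are `p'`-groups. -/
theorem cent_p' {y : G} (hy1 : y ≠ 1) (hyc : (orderOf y).Coprime p) :
    ¬ p ∣ Nat.card (Subgroup.centralizer ({y} : Set G)) := by
  intro hd
  obtain ⟨x, hx⟩ := exists_prime_orderOf_dvd_card' p hd
  have hxo : orderOf (x : G) = p := by rw [Subgroup.orderOf_coe]; exact hx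
  have hcomm : (x : G) * y = y * x := Subgroup.mem_centralizer_singleton_iff.mp x.2
  have h1 : (x : G) = 1 := by
    apply X.pel_comm_eq_one hK1 hy1 hyc hcomm
    exact ⟨1, by rw [pow_one, ← hxo, pow_orderOf_eq_one]⟩
  rw [h1, orderOf_one] at hxo
  exact hp.out.one_lt.ne hxo

theorem cent_comm {y : G} (hy1 : y ≠ 1) (hyc : (orderOf y).Coprime p) :
    IsMulCommutative (Subgroup.centralizer ({y} : Set G)) :=
  X.hab _ (X.cent_p' hK1 hy1 hyc)

/-- Commuting nontrivial `p'`-elements have the same centralizer. -/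
theorem cent_eq_of_comm {y z : G} (hy1 : y ≠ 1) (hyc : (orderOf y).Coprime p) (hz1 : z ≠ 1)
    (hzc : (orderOf z).Coprime p) (hyz : y * z = z * y) :
    Subgroup.centralizer ({y} : Set G) = Subgroup.centralizer ({z} : Set G) := by
  have key : ∀ {a b : G}, a ≠ 1 → (orderOf a).Coprime p → a * b = b * a →
      Subgroup.centralizer ({a} : Set G) ≤ Subgroup.centralizer ({b} : Set G) := by
    intro a b ha1 hac hab g hg
    rw [Subgroup.mem_centralizer_singleton_iff]
    have hb : b ∈ Subgroup.centralizer ({a} : Set G) := by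
      rw [Subgroup.mem_centralizer_singleton_iff]; exact hab.symm
    exact mul_comm_of_comm (X.cent_comm hK1 ha1 hac) hg hb
  exact le_antisymm (key hy1 hyc hyz) (key hz1 hzc hyz.symm)

/-- `|C(y)| ≡ 1 mod p` for a nontrivial `p'`-element `y`. -/
theorem cent_modEq_one {y : G} (hy1 : y ≠ 1) (hyc : (orderOf y).Coprime p) :
    Nat.card (Subgroup.centralizer ({y} : Set G)) ≡ 1 [MOD p] := by
  obtain ⟨q, j, hq, hqp, hyo⟩ := exists_prime_pow_of_p'el hy1 hyc
  have : Fact q.Prime := ⟨hq⟩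
  set y' := y ^ j with hy'
  have hy'1 : y' ≠ 1 := by
    intro h1; rw [h1, orderOf_one] at hyo; exact hq.one_lt.ne hyo
  have hy'c : (orderOf y').Coprime p := by
    rw [hyo]; exact (Nat.coprime_primes hq hp.out).mpr hqp
  have hcomm : y * y' = y' * y := by
    rw [hy']; exact ((Commute.refl y).pow_right j).eq
  rw [X.cent_eq_of_comm hK1 hy1 hyc hy'1 hy'c hcomm]
  set A := Subgroup.centralizer ({y'} : Set G) with hA
  have hpg : IsPGroup q (Subgroup.zpowers y') :=
    IsPGroup.of_card (n := 1) (by rw [Nat.card_zpowers, hyo, pow_one])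
  obtain ⟨Q, hQ⟩ := hpg.exists_le_sylow
  have hy'Q : y' ∈ (Q : Subgroup G) := hQ (Subgroup.mem_zpowers _)
  have hQc := X.comm_of_qgroup hq hqp (Q : Subgroup G) Q.isPGroup'
  have hQ1 : (Q : Subgroup G) ≠ ⊥ := by
    intro hb; rw [hb, Subgroup.mem_bot] at hy'Q; exact hy'1 hy'Q
  obtain ⟨x, hx⟩ := exists_prime_orderOf_dvd_card' p (X.p_dvd_card_normalizer hqp Q hQ1)
  have hxo : orderOf (x : G) = p := by rw [Subgroup.orderOf_coe]; exact hx
  -- x normalizes A
  have hxy' : (x : G) * y' * (x : G)⁻¹ ∈ (Q : Subgroup G) :=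
    (Subgroup.mem_normalizer_iff.mp x.2 y').mp hy'Q
  have hxy'1 : (x : G) * y' * (x : G)⁻¹ ≠ 1 := by
    intro h1
    apply hy'1
    calc y' = (x : G)⁻¹ * ((x : G) * y' * (x : G)⁻¹) * (x : G) := by group
      _ = 1 := by rw [h1]; group
  have hxy'c : (orderOf ((x : G) * y' * (x : G)⁻¹)).Coprime p := by
    rw [orderOf_conj']; exact hy'c
  have hAeq : A = Subgroup.centralizer ({(x : G) * y' * (x : G)⁻¹} : Set G) :=
    X.cent_eq_of_comm hK1 hy'1 hy'c hxy'1 hxy'c (mul_comm_of_comm hQc hy'Q hxy')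
  have hxA : (x : G) ∈ Subgroup.normalizer (A : Set G) := by
    apply mem_normalizer_of_conj_mem
    intro a ha
    rw [hAeq, Subgroup.mem_centralizer_singleton_iff]
    have := Subgroup.mem_centralizer_singleton_iff.mp ha
    calc (x : G) * a * (x : G)⁻¹ * ((x : G) * y' * (x : G)⁻¹)
        = (x : G) * (a * y') * (x : G)⁻¹ := by group
      _ = (x : G) * (y' * a) * (x : G)⁻¹ := by rw [this]
      _ = (x : G) * y' * (x : G)⁻¹ * ((x : G) * a * (x : G)⁻¹) := by group
  apply card_modEq_one_of_fpf A (x : G) hxo hxA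
  intro a ha hfix
  by_contra ha1
  have hac : (orderOf a).Coprime p := p'el_of_mem (X.cent_p' hK1 hy'1 hy'c) ha
  have hcomm' : (x : G) * a = a * (x : G) := by
    calc (x : G) * a = ((x : G) * a * (x : G)⁻¹) * (x : G) := by group
      _ = a * (x : G) := by rw [hfix]
  have h1 : (x : G) = 1 :=
    X.pel_comm_eq_one hK1 ha1 hac hcomm' ⟨1, by rw [pow_one, ← hxo, pow_orderOf_eq_one]⟩
  rw [h1, orderOf_one] at hxo
  exact hp.out.one_lt.ne hxo

/-- An element of prime order `r` in `C(y)` whose centralizer is `C(y)`. -/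
theorem exists_cent_elt {y : G} (hy1 : y ≠ 1) (hyc : (orderOf y).Coprime p) {r : ℕ}
    (hr : r.Prime) (hrd : r ∣ Nat.card (Subgroup.centralizer ({y} : Set G))) :
    r ≠ p ∧ ∃ a : G, orderOf a = r ∧ a ≠ 1 ∧ (orderOf a).Coprime p ∧
      Subgroup.centralizer ({a} : Set G) = Subgroup.centralizer ({y} : Set G) := by
  have : Fact r.Prime := ⟨hr⟩
  have hrp : r ≠ p := by
    rintro rfl; exact X.cent_p' hK1 hy1 hyc hrd
  refine ⟨hrp, ?_⟩
  obtain ⟨a, ha⟩ := exists_prime_orderOf_dvd_card' r hrd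
  have hao : orderOf (a : G) = r := by rw [Subgroup.orderOf_coe]; exact ha
  have ha1 : (a : G) ≠ 1 := by
    intro h1; rw [h1, orderOf_one] at hao; exact hr.one_lt.ne hao
  have hac : (orderOf (a : G)).Coprime p := by
    rw [hao]; exact (Nat.coprime_primes hr hp.out).mpr hrp
  refine ⟨a, hao, ha1, hac, ?_⟩
  apply X.cent_eq_of_comm hK1 ha1 hac hy1 hyc
  exact Subgroup.mem_centralizer_singleton_iff.mp a.2

/-- `C(y)` contains a Sylow `r`-subgroup of `G` for each prime `r` dividing its order. -/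
theorem cent_hall {y : G} (hy1 : y ≠ 1) (hyc : (orderOf y).Coprime p) {r : ℕ}
    [hr : Fact r.Prime] (hrd : r ∣ Nat.card (Subgroup.centralizer ({y} : Set G))) :
    ∃ R : Sylow r G, (R : Subgroup G) ≤ Subgroup.centralizer ({y} : Set G) := by
  obtain ⟨hrp, a, hao, ha1, hac, hca⟩ := X.exists_cent_elt hK1 hy1 hyc hr.out hrd
  have hpg : IsPGroup r (Subgroup.zpowers a) :=
    IsPGroup.of_card (n := 1) (by rw [Nat.card_zpowers, hao, pow_one])
  obtain ⟨R, hR⟩ := hpg.exists_le_sylow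
  refine ⟨R, ?_⟩
  rw [← hca]
  intro b hb
  rw [Subgroup.mem_centralizer_singleton_iff]
  exact mul_comm_of_comm (X.comm_of_qgroup hr.out hrp (R : Subgroup G) R.isPGroup') hb
    (hR (Subgroup.mem_zpowers a))

theorem cent_factorization {y : G} (hy1 : y ≠ 1) (hyc : (orderOf y).Coprime p) {r : ℕ}
    (hr : r.Prime) (hrd : r ∣ Nat.card (Subgroup.centralizer ({y} : Set G))) :
    (Nat.card (Subgroup.centralizer ({y} : Set G))).factorization r
      = (Nat.card G).factorization r := by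
  have : Fact r.Prime := ⟨hr⟩
  obtain ⟨R, hR⟩ := X.cent_hall hK1 hy1 hyc hrd
  apply le_antisymm
  · exact (Nat.factorization_le_iff_dvd Nat.card_pos.ne' Nat.card_pos.ne').mpr
      (Subgroup.card_subgroup_dvd_card _) r
  · have h1 : r ^ (Nat.card G).factorization r ∣
        Nat.card (Subgroup.centralizer ({y} : Set G)) := by
      rw [← R.card_eq_multiplicity]
      exact Subgroup.card_dvd_of_le hR
    exact (hr.pow_dvd_iff_le_factorization Nat.card_pos.ne').mp h1

/-- Centralizers of nontrivial `p'`-elements sharing a prime divisor have the same order. -/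
theorem cent_card_eq {y z : G} (hy1 : y ≠ 1) (hyc : (orderOf y).Coprime p) (hz1 : z ≠ 1)
    (hzc : (orderOf z).Coprime p) {r : ℕ} (hr : r.Prime)
    (hry : r ∣ Nat.card (Subgroup.centralizer ({y} : Set G)))
    (hrz : r ∣ Nat.card (Subgroup.centralizer ({z} : Set G))) :
    Nat.card (Subgroup.centralizer ({y} : Set G))
      = Nat.card (Subgroup.centralizer ({z} : Set G)) := by
  have : Fact r.Prime := ⟨hr⟩
  obtain ⟨hrp, a, hao, ha1, hac, hca⟩ := X.exists_cent_elt hK1 hy1 hyc hr hry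
  obtain ⟨R, hR⟩ := X.cent_hall hK1 hz1 hzc hrz
  have hpg : IsPGroup r (Subgroup.zpowers a) :=
    IsPGroup.of_card (n := 1) (by rw [Nat.card_zpowers, hao, pow_one])
  obtain ⟨g, hg⟩ := Cfsg.Agent.Lib.Helper4.exists_conj_mem_sylow R hpg
  have hga : g * a * g⁻¹ ∈ Subgroup.centralizer ({z} : Set G) := hR (hg a (Subgroup.mem_zpowers a))
  have hga1 : g * a * g⁻¹ ≠ 1 := by
    intro h1
    apply ha1
    calc a = g⁻¹ * (g * a * g⁻¹) * g := by group
      _ = 1 := by rw [h1]; group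
  have hgac : (orderOf (g * a * g⁻¹)).Coprime p := by rw [orderOf_conj']; exact hac
  have h2 : Subgroup.centralizer ({g * a * g⁻¹} : Set G) = Subgroup.centralizer ({z} : Set G) :=
    X.cent_eq_of_comm hK1 hga1 hgac hz1 hzc (Subgroup.mem_centralizer_singleton_iff.mp hga)
  rw [← hca, ← h2, card_centralizer_conj]

end K1

theorem P_ne_bot : (X.P : Subgroup G) ≠ ⊥ := by
  intro hb
  have := X.hx₀
  rw [hb, Subgroup.mem_bot] at this
  exact X.x₀_ne_one this

/-- `[N(P) : C(P)]` divides `p - 1`. -/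
theorem relIndex_C_N_dvd : X.C.relIndex X.N ∣ p - 1 := by
  obtain ⟨θ, hθ⟩ := exists_theta X.P X.hcyc X.P_ne_bot
  have h1 : θ.ker.index = Nat.card θ.range := Subgroup.index_ker θ
  have h2 : Nat.card θ.range ∣ Nat.card (ZMod p)ˣ := Subgroup.card_subgroup_dvd_card _
  have h3 : Nat.card (ZMod p)ˣ = p - 1 := by
    rw [Nat.card_eq_fintype_card, ZMod.card_units]
  rw [hθ] at h1
  have h4 : (X.C.subgroupOf X.N).index = X.C.relIndex X.N := rfl
  rw [← h4, h1, ← h3]
  exact h2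

/-- The case `C(P) = P` is impossible. -/
theorem case_K1 (hK1 : ∀ y ∈ X.C, (orderOf y).Coprime p → y = 1) : False := by
  classical
  have : Fintype G := Fintype.ofFinite G
  let S : Finset G := Finset.univ.filter (fun y => y ≠ 1 ∧ (orderOf y).Coprime p)
  let 𝒜 : Finset ℕ := S.image (fun y => Nat.card (Subgroup.centralizer ({y} : Set G)))
  have hmemS : ∀ y, y ∈ S ↔ y ≠ 1 ∧ (orderOf y).Coprime p := by
    intro y; simp [S]
  obtain ⟨k, hk⟩ := X.P.isPGroup'.exists_card_eq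
  have hcardG : Nat.card (X.P : Subgroup G) * (X.P : Subgroup G).index = Nat.card G :=
    Subgroup.card_mul_index _
  have hidx0 : (X.P : Subgroup G).index ≠ 0 := Subgroup.index_ne_zero_of_finite
  have hpidx : ¬ p ∣ (X.P : Subgroup G).index := X.P.not_dvd_index
  have hidx : (X.P : Subgroup G).index ≡ 1 [MOD p] := by
    apply modEq_one_of_hall_cover 𝒜 _ p hidx0
    · intro n hn
      obtain ⟨y, hyS, rfl⟩ := Finset.mem_image.mp hn
      obtain ⟨hy1, hyc⟩ := (hmemS y).mp hyS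
      exact X.cent_modEq_one hK1 hy1 hyc
    · intro n hn
      obtain ⟨y, hyS, rfl⟩ := Finset.mem_image.mp hn
      obtain ⟨hy1, hyc⟩ := (hmemS y).mp hyS
      have h1 : Nat.card (Subgroup.centralizer ({y} : Set G)) ∣
          Nat.card (X.P : Subgroup G) * (X.P : Subgroup G).index := by
        rw [hcardG]; exact Subgroup.card_subgroup_dvd_card _
      have h2 : Nat.Coprime (Nat.card (Subgroup.centralizer ({y} : Set G)))
          (Nat.card (X.P : Subgroup G)) := by
        rw [hk]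
        apply Nat.Coprime.pow_right
        exact ((Nat.Prime.coprime_iff_not_dvd hp.out).mpr (X.cent_p' hK1 hy1 hyc)).symm
      exact h2.dvd_of_dvd_mul_left h1
    · intro n hn r hr hrn
      obtain ⟨y, hyS, rfl⟩ := Finset.mem_image.mp hn
      obtain ⟨hy1, hyc⟩ := (hmemS y).mp hyS
      rw [X.cent_factorization hK1 hy1 hyc hr hrn, ← hcardG,
        Nat.factorization_mul Nat.card_pos.ne' hidx0, Finsupp.add_apply]
      have hrp : r ≠ p := by
        rintro rfl; exact X.cent_p' hK1 hy1 hyc hrn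
      have : (Nat.card (X.P : Subgroup G)).factorization r = 0 := by
        apply Nat.factorization_eq_zero_of_not_dvd
        rw [hk]
        intro hd
        exact hrp ((Nat.prime_dvd_prime_iff_eq hr hp.out).mp (hr.dvd_of_dvd_pow hd))
      rw [this, zero_add]
    · intro n hn n' hn' hne
      obtain ⟨y, hyS, rfl⟩ := Finset.mem_image.mp hn
      obtain ⟨z, hzS, rfl⟩ := Finset.mem_image.mp hn'
      obtain ⟨hy1, hyc⟩ := (hmemS y).mp hyS
      obtain ⟨hz1, hzc⟩ := (hmemS z).mp hzS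
      by_contra hnc
      obtain ⟨r, hr, hry, hrz⟩ := Nat.Prime.not_coprime_iff_dvd.mp hnc
      exact hne (X.cent_card_eq hK1 hy1 hyc hz1 hzc hr hry hrz)
    · intro r hr hrd
      have : Fact r.Prime := ⟨hr⟩
      have hrG : r ∣ Nat.card G := by rw [← hcardG]; exact dvd_mul_of_dvd_right hrd _
      obtain ⟨y, hy⟩ := exists_prime_orderOf_dvd_card' r hrG
      have hrp : r ≠ p := by
        rintro rfl; exact hpidx hrd
      have hy1 : y ≠ 1 := by
        intro h1; rw [h1, orderOf_one] at hy; exact hr.one_lt.ne hy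
      have hyc : (orderOf y).Coprime p := by
        rw [hy]; exact (Nat.coprime_primes hr hp.out).mpr hrp
      refine ⟨_, Finset.mem_image.mpr ⟨y, (hmemS y).mpr ⟨hy1, hyc⟩, rfl⟩, ?_⟩
      have hmem : y ∈ Subgroup.centralizer ({y} : Set G) := by
        rw [Subgroup.mem_centralizer_singleton_iff]
      rw [← hy, ← Subgroup.orderOf_mk y hmem]
      exact orderOf_dvd_natCard _
  -- the index of P is e * n_p
  have hsplit : (X.P : Subgroup G).relIndex X.N * X.N.index = (X.P : Subgroup G).index :=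
    Subgroup.relIndex_mul_index X.P_le_N
  have hnp : X.N.index ≡ 1 [MOD p] := by
    have h1 := card_sylow_modEq_one p G
    rwa [X.P.card_eq_index_normalizer] at h1
  have he : (X.P : Subgroup G).relIndex X.N ≡ 1 [MOD p] := by
    have h1 : (X.P : Subgroup G).relIndex X.N * X.N.index ≡
        (X.P : Subgroup G).relIndex X.N * 1 [MOD p] := Nat.ModEq.mul_left _ hnp
    rw [hsplit, mul_one] at h1
    exact h1.symm.trans hidx
  have hCP : X.C = (X.P : Subgroup G) := le_antisymm (X.C_le_P hK1) X.P_le_C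
  have hdvd : (X.P : Subgroup G).relIndex X.N ∣ p - 1 := by
    have := X.relIndex_C_N_dvd
    rwa [hCP] at this
  have hne1 : (X.P : Subgroup G).relIndex X.N ≠ 1 := by
    intro h1
    rw [Subgroup.relIndex_eq_one] at h1
    exact X.hnC (X.P_le_C (h1 X.hN))
  have hp2 : 2 ≤ p := hp.out.two_le
  have hle : (X.P : Subgroup G).relIndex X.N ≤ p - 1 := Nat.le_of_dvd (by omega) hdvd
  have hpos : 0 < (X.P : Subgroup G).relIndex X.N := by
    rcases Nat.eq_zero_or_pos ((X.P : Subgroup G).relIndex X.N) with h0 | h0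
    · rw [h0] at hdvd; have := Nat.eq_zero_of_zero_dvd hdvd; omega
    · exact h0
  unfold Nat.ModEq at he
  rw [Nat.mod_eq_of_lt (by omega), Nat.mod_eq_of_lt (by omega)] at he
  exact hne1 he

end MC

end Cfsg.Agent.Lib.Helper30.CycSyl
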