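import Mathlib
import Cfsg.Agent.Lib.Helper30.CycSylMain

/-!
Minimal counterexample to S4016, the case `C(P) ≠ P`: reduction to `p = 3`, Sylow `2`-subgroups
four-groups, `C(t) = N(P)` for a central involution `t` of `N(P)`.
-/

set_option autoImplicit false

namespace Cfsg.Agent.Lib.Helper30.CycSyl

open Cfsg

namespace MC

variable {G : Type*} [Group G] [Finite G] {p : ℕ} [hp : Fact p.Prime] (X : MC G p)

/-- The action of `N(P)` on `Ω₁(P)` has cyclic image: elements killed by a prime `q`. -/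
theorem exists_pow_mul_mem_C {q : ℕ} (hq : q.Prime) {a b : G} (ha : a ∈ X.N) (hb : b ∈ X.N)
    (haq : a ^ q = 1) (hbq : b ^ q = 1) (haC : a ∉ X.C) : ∃ k : ℕ, b * a ^ k ∈ X.C := by
  obtain ⟨θ, hθ⟩ := exists_theta X.P X.hcyc X.P_ne_bot
  have hker : ∀ g : X.N, θ g = 1 ↔ (g : G) ∈ X.C := by
    intro g
    rw [← MonoidHom.mem_ker, hθ, Subgroup.mem_subgroupOf]
  have h1 : (⟨a, ha⟩ : X.N) ^ q = 1 := by
    apply Subtype.ext; simpa using haq
  have h2 : (⟨b, hb⟩ : X.N) ^ q = 1 := by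
    apply Subtype.ext; simpa using hbq
  have h3 : θ ⟨a, ha⟩ ≠ 1 := fun h => haC ((hker _).mp h)
  obtain ⟨k, hk⟩ := exists_pow_mul_map_eq_one θ q hq ⟨a, ha⟩ ⟨b, hb⟩ h1 h2 h3
  refine ⟨k, ?_⟩
  have := (hker _).mp hk
  simpa using this

/-- A prime `q` such that some element of `N(P) ∖ C(P)` is killed by `q` divides `p - 1`. -/
theorem prime_dvd_p_sub_one {q : ℕ} (hq : q.Prime) {a : G} (ha : a ∈ X.N) (haq : a ^ q = 1)
    (haC : a ∉ X.C) : q ∣ p - 1 := by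
  obtain ⟨θ, hθ⟩ := exists_theta X.P X.hcyc X.P_ne_bot
  have hker : ∀ g : X.N, θ g = 1 ↔ (g : G) ∈ X.C := by
    intro g
    rw [← MonoidHom.mem_ker, hθ, Subgroup.mem_subgroupOf]
  have h1 : (θ ⟨a, ha⟩) ^ q = 1 := by
    rw [← map_pow]
    have : (⟨a, ha⟩ : X.N) ^ q = 1 := by apply Subtype.ext; simpa using haq
    rw [this, map_one]
  have h3 : θ ⟨a, ha⟩ ≠ 1 := fun h => haC ((hker _).mp h)
  have h4 : orderOf (θ ⟨a, ha⟩) = q := orderOf_eq_prime (hp := ⟨hq⟩) h1 h3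
  have h5 : Nat.card (ZMod p)ˣ = p - 1 := by
    rw [Nat.card_eq_fintype_card, ZMod.card_units]
  rw [← h4, ← h5]
  exact orderOf_dvd_natCard _

/-- For `p = 3`, `C(P)` has index at most two in `N(P)`. -/
theorem mul_inv_mem_C_of_three (hp3 : p = 3) {a b : G} (ha : a ∈ X.N) (hb : b ∈ X.N)
    (haC : a ∉ X.C) (hbC : b ∉ X.C) : a * b⁻¹ ∈ X.C := by
  obtain ⟨θ, hθ⟩ := exists_theta X.P X.hcyc X.P_ne_bot
  have hker : ∀ g : X.N, θ g = 1 ↔ (g : G) ∈ X.C := by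
    intro g
    rw [← MonoidHom.mem_ker, hθ, Subgroup.mem_subgroupOf]
  have h5 : Nat.card (ZMod p)ˣ = 2 := by
    rw [Nat.card_eq_fintype_card, ZMod.card_units, hp3]
  obtain ⟨u, -, hu⟩ := (Nat.card_eq_two_iff' (1 : (ZMod p)ˣ)).mp h5
  have h1 : θ ⟨a, ha⟩ = u := hu _ (fun h => haC ((hker _).mp h))
  have h2 : θ ⟨b, hb⟩ = u := hu _ (fun h => hbC ((hker _).mp h))
  have h3 : θ (⟨a, ha⟩ * ⟨b, hb⟩⁻¹) = 1 := by
    rw [map_mul, map_inv, h1, h2, mul_inv_cancel]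
  have := (hker _).mp h3
  simpa using this

/-- Data for the case `C(P) ≠ P`: an element `y` of prime order `q` in `C(P)` and a Sylow
`q`-subgroup containing it. -/
structure K2A (X : MC G p) where
  q : ℕ
  hq : q.Prime
  hqp : q ≠ p
  y : G
  hy : y ∈ X.C
  hyo : orderOf y = q
  Q : Sylow q G
  hyQ : y ∈ (Q : Subgroup G)

namespace K2A

variable {X} (D : K2A X)

theorem y_ne_one : D.y ≠ 1 := by
  intro h1
  have := D.hyo
  rw [h1, orderOf_one] at this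
  exact D.hq.one_lt.ne this

theorem y_p'el : (orderOf D.y).Coprime p := by
  rw [D.hyo]; exact (Nat.coprime_primes D.hq hp.out).mpr D.hqp

theorem y_pow_q : D.y ^ D.q = 1 := by
  rw [← D.hyo]; exact pow_orderOf_eq_one _

theorem Q_comm : IsMulCommutative (D.Q : Subgroup G) :=
  X.comm_of_qgroup D.hq D.hqp (D.Q : Subgroup G) D.Q.isPGroup'

theorem p'el_of_mem_Q {a : G} (ha : a ∈ (D.Q : Subgroup G)) : (orderOf a).Coprime p := by
  have : Fact D.q.Prime := ⟨D.hq⟩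
  obtain ⟨k, hk⟩ := D.Q.isPGroup'.exists_card_eq
  have h1 : orderOf a ∣ D.q ^ k := by
    rw [← hk, ← Subgroup.orderOf_mk a ha]; exact orderOf_dvd_natCard _
  apply Nat.Coprime.coprime_dvd_left h1
  apply Nat.Coprime.pow_left
  exact (Nat.coprime_primes D.hq hp.out).mpr D.hqp

theorem Q_le_N : (D.Q : Subgroup G) ≤ X.N := by
  intro a ha
  rw [← X.cent_eq_N D.hy D.y_p'el D.y_ne_one, Subgroup.mem_centralizer_singleton_iff]
  exact mul_comm_of_comm D.Q_comm ha D.hyQ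

theorem Q_ne_bot : (D.Q : Subgroup G) ≠ ⊥ := by
  intro hb
  have := D.hyQ
  rw [hb, Subgroup.mem_bot] at this
  exact D.y_ne_one this

theorem Q_not_le_C : ¬ (D.Q : Subgroup G) ≤ X.C := by
  intro hQC
  have : Fact D.q.Prime := ⟨D.hq⟩
  apply X.burnside_q D.hqp D.Q D.Q_ne_bot
  intro g hg
  have hgy : g * D.y * g⁻¹ ∈ (D.Q : Subgroup G) := (Subgroup.mem_normalizer_iff.mp hg _).mp D.hyQ
  have hgN : g ∈ X.N := X.control D.hy D.y_p'el D.y_ne_one (hQC hgy)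
  rw [Subgroup.mem_centralizer_iff]
  intro a ha
  exact (X.N_comm_of_mem_C (hQC ha) (D.p'el_of_mem_Q ha) hgN).symm

theorem exists_h' : ∃ h' ∈ (D.Q : Subgroup G), h' ∉ X.C := by
  by_contra hcon
  push Not at hcon
  exact D.Q_not_le_C hcon

/-- `P ∩ N(Q) = 1`. -/
theorem P_inf_normalizer_Q {x : G} (hx : x ∈ (X.P : Subgroup G))
    (hxL : x ∈ Subgroup.normalizer ((D.Q : Subgroup G) : Set G)) : x = 1 := by
  obtain ⟨h', hh'Q, hh'C⟩ := D.exists_h'
  have hh'N : h' ∈ X.N := D.Q_le_N hh'Q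
  have h1 : x * h' * x⁻¹ * h'⁻¹ ∈ (D.Q : Subgroup G) :=
    Subgroup.mul_mem _ ((Subgroup.mem_normalizer_iff.mp hxL _).mp hh'Q) (Subgroup.inv_mem _ hh'Q)
  have h2 : x * h' * x⁻¹ * h'⁻¹ ∈ (X.P : Subgroup G) := by
    have e : x * h' * x⁻¹ * h'⁻¹ = x * (h' * x⁻¹ * h'⁻¹) := by group
    rw [e]
    exact Subgroup.mul_mem _ hx (X.conj_mem_P hh'N (Subgroup.inv_mem _ hx))
  have h3 : x * h' * x⁻¹ * h'⁻¹ = 1 :=
    eq_one_of_pel_of_p'el (X.pel_of_mem_P h2) (D.p'el_of_mem_Q h1)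
  have h4 : h' * x * h'⁻¹ = x := by
    calc h' * x * h'⁻¹ = (x * h' * x⁻¹ * h'⁻¹)⁻¹ * x := by group
      _ = x := by rw [h3]; group
  exact X.fpf hh'N (D.p'el_of_mem_Q hh'Q) hh'C hx h4

theorem exists_x₁ : ∃ x₁ ∈ Subgroup.normalizer ((D.Q : Subgroup G) : Set G), orderOf x₁ = p := by
  have : Fact D.q.Prime := ⟨D.hq⟩
  obtain ⟨x, hx⟩ := exists_prime_orderOf_dvd_card' p (X.p_dvd_card_normalizer D.hqp D.Q D.Q_ne_bot)
  exact ⟨x, x.2, by rw [Subgroup.orderOf_coe]; exact hx⟩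

end K2A

/-- The data of `K2A` together with an element of order `p` normalizing `Q`. -/
structure K2B (X : MC G p) extends K2A X where
  x₁ : G
  hx₁L : x₁ ∈ Subgroup.normalizer ((Q : Subgroup G) : Set G)
  hx₁o : orderOf x₁ = p

namespace K2B

variable {X} (D : K2B X)

theorem x₁_pow_not_mem_N {i : ℕ} (hi : ¬ p ∣ i) : D.x₁ ^ i ∉ X.N := by
  intro hN
  have h1 : D.x₁ ^ i ∈ (X.P : Subgroup G) := by
    apply X.pel_N_mem_P hN
    refine ⟨1, ?_⟩
    have hxp : D.x₁ ^ p = 1 := by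
      have := pow_orderOf_eq_one D.x₁
      rwa [D.hx₁o] at this
    rw [pow_one, ← pow_mul, mul_comm, pow_mul, hxp, one_pow]
  have h2 : D.x₁ ^ i = 1 :=
    D.toK2A.P_inf_normalizer_Q h1 (Subgroup.pow_mem _ D.hx₁L i)
  have h3 : orderOf D.x₁ ∣ i := orderOf_dvd_of_pow_eq_one h2
  rw [D.hx₁o] at h3
  exact hi h3

/-- Conjugation by `x₁ ^ i`. -/
def cj (i : ℕ) (a : G) : G := D.x₁ ^ i * a * (D.x₁ ^ i)⁻¹

theorem cj_mem_Q {i : ℕ} {a : G} (ha : a ∈ (D.Q : Subgroup G)) : D.cj i a ∈ (D.Q : Subgroup G) :=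
  (Subgroup.mem_normalizer_iff.mp (Subgroup.pow_mem _ D.hx₁L i) a).mp ha

theorem cj_pow (i : ℕ) (a : G) (k : ℕ) : (D.cj i a) ^ k = D.cj i (a ^ k) := by
  unfold cj; rw [conj_pow]

theorem cj_mul (i : ℕ) (a b : G) : D.cj i (a * b) = D.cj i a * D.cj i b := by
  unfold cj; group

theorem cj_inv (i : ℕ) (a : G) : D.cj i a⁻¹ = (D.cj i a)⁻¹ := by
  unfold cj; group

theorem cj_add (i j : ℕ) (a : G) : D.cj (i + j) a = D.cj i (D.cj j a) := by
  unfold cj; rw [pow_add]; group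

theorem cj_ne_one {i : ℕ} {a : G} (ha : a ≠ 1) : D.cj i a ≠ 1 := by
  intro h1
  apply ha
  unfold cj at h1
  calc a = (D.x₁ ^ i)⁻¹ * (D.x₁ ^ i * a * (D.x₁ ^ i)⁻¹) * D.x₁ ^ i := by group
    _ = 1 := by rw [h1]; group

theorem cj_injective (i : ℕ) {a b : G} (h : D.cj i a = D.cj i b) : a = b := by
  unfold cj at h
  calc a = (D.x₁ ^ i)⁻¹ * (D.x₁ ^ i * a * (D.x₁ ^ i)⁻¹) * D.x₁ ^ i := by group
    _ = (D.x₁ ^ i)⁻¹ * (D.x₁ ^ i * b * (D.x₁ ^ i)⁻¹) * D.x₁ ^ i := by rw [h]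
    _ = b := by group

/-- A nontrivial `p'`-element of `C(P)` is moved out of `C(P)` by `x₁ ^ i`, `p ∤ i`. -/
theorem cj_not_mem_C {i : ℕ} (hi : ¬ p ∣ i) {a : G} (ha : a ∈ X.C)
    (hac : (orderOf a).Coprime p) (ha1 : a ≠ 1) : D.cj i a ∉ X.C := by
  intro h
  exact D.x₁_pow_not_mem_N hi (X.control ha hac ha1 h)

theorem not_p_dvd_one : ¬ p ∣ 1 := fun h => hp.out.one_lt.ne' (Nat.dvd_one.mp h)

theorem yi_mem_Q (i : ℕ) : D.cj i D.y ∈ (D.Q : Subgroup G) := D.cj_mem_Q D.hyQ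

theorem yi_pow_q (i : ℕ) : (D.cj i D.y) ^ D.q = 1 := by
  rw [D.cj_pow, D.toK2A.y_pow_q]; unfold cj; group

theorem yi_not_mem_C {i : ℕ} (hi : ¬ p ∣ i) : D.cj i D.y ∉ X.C :=
  D.cj_not_mem_C hi D.hy D.toK2A.y_p'el D.toK2A.y_ne_one

/-- The elements of order dividing `q` in `Q ∩ C(P)` are the powers of `y`. -/
theorem mem_zpowers_y {a : G} (haQ : a ∈ (D.Q : Subgroup G)) (haC : a ∈ X.C)
    (haq : a ^ D.q = 1) : a ∈ Subgroup.zpowers D.y := by
  have h1 : (D.cj 1 a) ^ D.q = 1 := by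
    rw [D.cj_pow, haq]; unfold cj; group
  obtain ⟨k, hk⟩ := X.exists_pow_mul_mem_C D.hq (D.toK2A.Q_le_N (D.yi_mem_Q 1))
    (D.toK2A.Q_le_N (D.cj_mem_Q haQ)) (D.yi_pow_q 1) h1 (D.yi_not_mem_C not_p_dvd_one)
  have e : D.cj 1 a * (D.cj 1 D.y) ^ k = D.cj 1 (a * D.y ^ k) := by
    rw [D.cj_pow, D.cj_mul]
  rw [e] at hk
  have hmem : a * D.y ^ k ∈ X.C := Subgroup.mul_mem _ haC (Subgroup.pow_mem _ D.hy k)
  have hQm : a * D.y ^ k ∈ (D.Q : Subgroup G) :=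
    Subgroup.mul_mem _ haQ (Subgroup.pow_mem _ D.hyQ k)
  have h2 : a * D.y ^ k = 1 := by
    by_contra hne
    exact D.cj_not_mem_C not_p_dvd_one hmem (D.toK2A.p'el_of_mem_Q hQm) hne hk
  have h3 : a = (D.y ^ k)⁻¹ := eq_inv_of_mul_eq_one_left h2
  rw [h3]
  exact Subgroup.inv_mem _ (Subgroup.pow_mem _ (Subgroup.mem_zpowers _) k)

/-- Each `y_i` (`p ∤ i`) has a power in the coset `y₁ ⟨y⟩`. -/
theorem exists_pow_eq {i : ℕ} (hi : ¬ p ∣ i) :
    ∃ k : ℕ, (D.cj 1 D.y)⁻¹ * (D.cj i D.y) ^ k ∈ Subgroup.zpowers D.y ∧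
      (D.cj i D.y) ^ k ∉ X.C := by
  have hb : ((D.cj 1 D.y)⁻¹) ^ D.q = 1 := by rw [inv_pow, D.yi_pow_q, inv_one]
  obtain ⟨k, hk⟩ := X.exists_pow_mul_mem_C D.hq (D.toK2A.Q_le_N (D.yi_mem_Q i))
    (D.toK2A.Q_le_N (Subgroup.inv_mem _ (D.yi_mem_Q 1))) (D.yi_pow_q i) hb (D.yi_not_mem_C hi)
  refine ⟨k, ?_, ?_⟩
  · have hQm : (D.cj 1 D.y)⁻¹ * (D.cj i D.y) ^ k ∈ (D.Q : Subgroup G) :=
      Subgroup.mul_mem _ (Subgroup.inv_mem _ (D.yi_mem_Q 1)) (Subgroup.pow_mem _ (D.yi_mem_Q i) k)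
    apply D.mem_zpowers_y hQm hk
    have hcm : Commute ((D.cj 1 D.y)⁻¹) ((D.cj i D.y) ^ k) :=
      mul_comm_of_comm D.toK2A.Q_comm (Subgroup.inv_mem _ (D.yi_mem_Q 1))
        (Subgroup.pow_mem _ (D.yi_mem_Q i) k)
    rw [hcm.mul_pow, hb, one_mul, ← pow_mul, mul_comm, pow_mul, D.yi_pow_q, one_pow]
  · intro hC
    apply D.yi_not_mem_C not_p_dvd_one
    have : D.cj 1 D.y = (D.cj i D.y) ^ k * ((D.cj 1 D.y)⁻¹ * (D.cj i D.y) ^ k)⁻¹ := by group
    rw [this]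
    exact Subgroup.mul_mem _ hC (Subgroup.inv_mem _ hk)

theorem pigeon_aux {i j k k' : ℕ} (hij : i < j) (hj : j ≤ p - 1)
    (heq : (D.cj i D.y) ^ k = (D.cj j D.y) ^ k') (hnC : (D.cj j D.y) ^ k' ∉ X.C) : False := by
  obtain ⟨d, rfl⟩ := Nat.exists_eq_add_of_lt hij
  have hp2 := hp.out.two_le
  have hd : ¬ p ∣ (d + 1) := Nat.not_dvd_of_pos_of_lt (by omega) (by omega)
  rw [D.cj_pow, D.cj_pow, show i + d + 1 = i + (d + 1) by ring, D.cj_add] at heq
  have h1 := D.cj_injective i heq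
  have hne : D.y ^ k' ≠ 1 := by
    intro h
    apply hnC
    rw [D.cj_pow, h]
    unfold cj
    have : D.x₁ ^ (i + d + 1) * 1 * (D.x₁ ^ (i + d + 1))⁻¹ = 1 := by group
    rw [this]; exact Subgroup.one_mem _
  have hC : D.y ^ k' ∈ X.C := Subgroup.pow_mem _ D.hy k'
  have hc : (orderOf (D.y ^ k')).Coprime p :=
    D.toK2A.p'el_of_mem_Q (Subgroup.pow_mem _ D.hyQ k')
  apply D.cj_not_mem_C hd hC hc hne
  rw [← h1]
  exact Subgroup.pow_mem _ D.hy k

/-- `p - 1 ≤ q`. -/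
theorem p_sub_one_le_q : p - 1 ≤ D.q := by
  classical
  by_contra hlt
  push Not at hlt
  have hV : ∀ i : ℕ, ¬ p ∣ i → ∃ k : ℕ,
      (D.cj 1 D.y)⁻¹ * (D.cj i D.y) ^ k ∈ Subgroup.zpowers D.y ∧ (D.cj i D.y) ^ k ∉ X.C :=
    fun i hi => D.exists_pow_eq hi
  choose! kf hkf using hV
  let f : ℕ → G := fun i => (D.cj 1 D.y)⁻¹ * (D.cj i D.y) ^ (kf i)
  let T : Finset G := (Finset.range D.q).image (fun l => D.y ^ l)
  have hp2 := hp.out.two_le
  have hnd : ∀ i ∈ Finset.Icc 1 (p - 1), ¬ p ∣ i := by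
    intro i hi
    rw [Finset.mem_Icc] at hi
    exact Nat.not_dvd_of_pos_of_lt (by omega) (by omega)
  have hmaps : ∀ i ∈ Finset.Icc 1 (p - 1), f i ∈ T := by
    intro i hi
    have := (hkf i (hnd i hi)).1
    rw [mem_zpowers_iff_mem_range_orderOf, D.hyo] at this
    exact this
  have hcard : T.card < (Finset.Icc 1 (p - 1)).card := by
    have h1 : T.card ≤ D.q := by
      calc T.card ≤ (Finset.range D.q).card := Finset.card_image_le
        _ = D.q := Finset.card_range _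
    have h2 : (Finset.Icc 1 (p - 1)).card = p - 1 := by
      rw [Nat.card_Icc]; omega
    omega
  obtain ⟨i, hi, j, hj, hij, hfij⟩ := Finset.exists_ne_map_eq_of_card_lt_of_maps_to hcard hmaps
  have heq : (D.cj i D.y) ^ (kf i) = (D.cj j D.y) ^ (kf j) := mul_left_cancel hfij
  rw [Finset.mem_Icc] at hi hj
  rcases lt_or_gt_of_ne hij with h | h
  · exact D.pigeon_aux h hj.2 heq (hkf j (hnd j (Finset.mem_Icc.mpr hj))).2
  · exact D.pigeon_aux h hi.2 heq.symm (hkf i (hnd i (Finset.mem_Icc.mpr hi))).2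

/-- `q ∣ p - 1`. -/
theorem q_dvd_p_sub_one : D.q ∣ p - 1 :=
  X.prime_dvd_p_sub_one D.hq (D.toK2A.Q_le_N (D.yi_mem_Q 1)) (D.yi_pow_q 1)
    (D.yi_not_mem_C not_p_dvd_one)

/-- The configuration forces `p = 3` and `q = 2`. -/
theorem p_eq_three_and_q_eq_two : p = 3 ∧ D.q = 2 := by
  have h1 := D.p_sub_one_le_q
  have h2 := D.q_dvd_p_sub_one
  have hp2 := hp.out.two_le
  have h3 : D.q ≤ p - 1 := Nat.le_of_dvd (by omega) h2
  have h4 : p = D.q + 1 := by omega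
  rcases D.hq.eq_two_or_odd' with h5 | h5
  · exact ⟨by omega, h5⟩
  · exfalso
    have h6 : Even p := by rw [h4]; exact h5.add_one
    have h7 := (hp.out.even_iff).mp h6
    have := D.hq.two_le
    omega

/-! ### The structure of `Q` when `p = 3` -/

/-- `Q ∩ C(P) = {1, y}`. -/
theorem Q_inf_C (hp3 : p = 3) {a : G} (haQ : a ∈ (D.Q : Subgroup G)) (haC : a ∈ X.C) :
    a = 1 ∨ a = D.y := by
  by_cases ha1 : a = 1
  · exact Or.inl ha1
  right
  have h1 : D.cj 1 a ∉ X.C :=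
    D.cj_not_mem_C not_p_dvd_one haC (D.toK2A.p'el_of_mem_Q haQ) ha1
  have h2 := X.mul_inv_mem_C_of_three hp3 (D.toK2A.Q_le_N (D.cj_mem_Q haQ))
    (D.toK2A.Q_le_N (D.yi_mem_Q 1)) h1 (D.yi_not_mem_C not_p_dvd_one)
  have e : D.cj 1 a * (D.cj 1 D.y)⁻¹ = D.cj 1 (a * D.y⁻¹) := by
    rw [D.cj_mul, D.cj_inv]
  rw [e] at h2
  have hmem : a * D.y⁻¹ ∈ X.C := Subgroup.mul_mem _ haC (Subgroup.inv_mem _ D.hy)
  have hQm : a * D.y⁻¹ ∈ (D.Q : Subgroup G) :=
    Subgroup.mul_mem _ haQ (Subgroup.inv_mem _ D.hyQ)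
  have h3 : a * D.y⁻¹ = 1 := by
    by_contra hne
    exact D.cj_not_mem_C not_p_dvd_one hmem (D.toK2A.p'el_of_mem_Q hQm) hne h2
  exact mul_inv_eq_one.mp h3

/-- `Q = {1, y, s, y s}` with `s = x₁ y x₁⁻¹`. -/
theorem Q_elts (hp3 : p = 3) {a : G} (haQ : a ∈ (D.Q : Subgroup G)) :
    a = 1 ∨ a = D.y ∨ a = D.cj 1 D.y ∨ a = D.y * D.cj 1 D.y := by
  by_cases haC : a ∈ X.C
  · rcases D.Q_inf_C hp3 haQ haC with h | h
    · exact Or.inl h
    · exact Or.inr (Or.inl h)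
  · have h2 := X.mul_inv_mem_C_of_three hp3 (D.toK2A.Q_le_N haQ)
      (D.toK2A.Q_le_N (D.yi_mem_Q 1)) haC (D.yi_not_mem_C not_p_dvd_one)
    have hQm : a * (D.cj 1 D.y)⁻¹ ∈ (D.Q : Subgroup G) :=
      Subgroup.mul_mem _ haQ (Subgroup.inv_mem _ (D.yi_mem_Q 1))
    rcases D.Q_inf_C hp3 hQm h2 with h | h
    · right; right; left
      exact mul_inv_eq_one.mp h
    · right; right; right
      calc a = (a * (D.cj 1 D.y)⁻¹) * D.cj 1 D.y := by group
        _ = D.y * D.cj 1 D.y := by rw [h]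

end K2B

namespace K2B

variable {X} (D : K2B X)

theorem y_mul_self (hq2 : D.q = 2) : D.y * D.y = 1 := by
  have := D.toK2A.y_pow_q
  rw [hq2, pow_two] at this
  exact this

theorem s_mul_self (hq2 : D.q = 2) : D.cj 1 D.y * D.cj 1 D.y = 1 := by
  have := D.yi_pow_q 1
  rw [hq2, pow_two] at this
  exact this

theorem y_s_comm : D.y * D.cj 1 D.y = D.cj 1 D.y * D.y :=
  mul_comm_of_comm D.toK2A.Q_comm D.hyQ (D.yi_mem_Q 1)

theorem s_ne_y : D.cj 1 D.y ≠ D.y := fun h =>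
  D.yi_not_mem_C not_p_dvd_one (by rw [h]; exact D.hy)

theorem s_ne_one : D.cj 1 D.y ≠ 1 := D.cj_ne_one D.toK2A.y_ne_one

/-- Every element of `Q` squares to `1`. -/
theorem Q_sq (hp3 : p = 3) (hq2 : D.q = 2) {a : G} (ha : a ∈ (D.Q : Subgroup G)) :
    a * a = 1 := by
  rcases D.Q_elts hp3 ha with rfl | rfl | rfl | rfl
  · simp
  · exact D.y_mul_self hq2
  · exact D.s_mul_self hq2
  · calc D.y * D.cj 1 D.y * (D.y * D.cj 1 D.y)
        = D.y * (D.cj 1 D.y * D.y) * D.cj 1 D.y := by group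
      _ = D.y * (D.y * D.cj 1 D.y) * D.cj 1 D.y := by rw [← D.y_s_comm]
      _ = (D.y * D.y) * (D.cj 1 D.y * D.cj 1 D.y) := by group
      _ = 1 := by rw [D.y_mul_self hq2, D.s_mul_self hq2, one_mul]

omit hp in
theorem not_three_dvd_two (hp3 : p = 3) : ¬ p ∣ 2 := by
  rw [hp3]; norm_num

/-- `x₁² y x₁⁻² = y s`. -/
theorem y₂_eq (hp3 : p = 3) : D.cj 2 D.y = D.y * D.cj 1 D.y := by
  rcases D.Q_elts hp3 (D.yi_mem_Q 2) with h | h | h | h
  · exact absurd h (D.cj_ne_one D.toK2A.y_ne_one)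
  · exfalso
    apply D.yi_not_mem_C (not_three_dvd_two hp3)
    rw [h]; exact D.hy
  · exfalso
    rw [show (2 : ℕ) = 1 + 1 from rfl, D.cj_add] at h
    exact D.s_ne_y (D.cj_injective 1 h)
  · exact h

/-- Every involution is conjugate to `y`. -/
theorem conj_to_y (hp3 : p = 3) (hq2 : D.q = 2) {v : G} (hv : orderOf v = 2) :
    ∃ g : G, g * v * g⁻¹ = D.y := by
  have : Fact D.q.Prime := ⟨D.hq⟩
  have hpg : IsPGroup D.q (Subgroup.zpowers v) :=
    IsPGroup.of_card (n := 1) (by rw [Nat.card_zpowers, hv, hq2, pow_one])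
  obtain ⟨g, hg⟩ := Cfsg.Agent.Lib.Helper4.exists_conj_mem_sylow D.Q hpg
  have hgv := hg v (Subgroup.mem_zpowers v)
  have hv1 : v ≠ 1 := by
    intro h1; rw [h1, orderOf_one] at hv; norm_num at hv
  rcases D.Q_elts hp3 hgv with h | h | h | h
  · exfalso
    apply hv1
    calc v = g⁻¹ * (g * v * g⁻¹) * g := by group
      _ = 1 := by rw [h]; group
  · exact ⟨g, h⟩
  · refine ⟨(D.x₁ ^ 1)⁻¹ * g, ?_⟩
    have e : (D.x₁ ^ 1)⁻¹ * g * v * ((D.x₁ ^ 1)⁻¹ * g)⁻¹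
        = (D.x₁ ^ 1)⁻¹ * (g * v * g⁻¹) * (D.x₁ ^ 1) := by group
    rw [e, h]; unfold cj; group
  · refine ⟨(D.x₁ ^ 2)⁻¹ * g, ?_⟩
    have e : (D.x₁ ^ 2)⁻¹ * g * v * ((D.x₁ ^ 2)⁻¹ * g)⁻¹
        = (D.x₁ ^ 2)⁻¹ * (g * v * g⁻¹) * (D.x₁ ^ 2) := by group
    rw [e, h, ← D.y₂_eq hp3]; unfold cj; group

/-- `2`-elements square to `1`. -/
theorem sq_of_two_elt (hp3 : p = 3) (hq2 : D.q = 2) {a : G} (ha : ∃ k : ℕ, a ^ (2 ^ k) = 1) :
    a ^ 2 = 1 := by
  have : Fact D.q.Prime := ⟨D.hq⟩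
  obtain ⟨k, hk⟩ := ha
  have hao : orderOf a ∣ 2 ^ k := orderOf_dvd_of_pow_eq_one hk
  obtain ⟨j, -, hj⟩ := (Nat.dvd_prime_pow Nat.prime_two).mp hao
  have hpg : IsPGroup D.q (Subgroup.zpowers a) :=
    IsPGroup.of_card (n := j) (by rw [Nat.card_zpowers, hj, hq2])
  obtain ⟨g, hg⟩ := Cfsg.Agent.Lib.Helper4.exists_conj_mem_sylow D.Q hpg
  have h1 := D.Q_sq hp3 hq2 (hg a (Subgroup.mem_zpowers a))
  rw [pow_two]
  calc a * a = g⁻¹ * ((g * a * g⁻¹) * (g * a * g⁻¹)) * g := by group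
    _ = 1 := by rw [h1]; group

/-- Three pairwise commuting distinct involutions: the product of two is the third. -/
theorem syl_V4 (hp3 : p = 3) (hq2 : D.q = 2) {a b c : G} (ha : orderOf a = 2)
    (hb : orderOf b = 2) (hc : orderOf c = 2) (hab : a * b = b * a) (hac : a * c = c * a)
    (hbc : b * c = c * b) (hne1 : a ≠ b) (hne2 : a ≠ c) (hne3 : b ≠ c) : a * b = c := by
  classical
  have : Fact D.q.Prime := ⟨D.hq⟩
  have hpa : IsPGroup D.q (Subgroup.zpowers a) :=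
    IsPGroup.of_card (n := 1) (by rw [Nat.card_zpowers, ha, hq2, pow_one])
  have hpb : IsPGroup D.q (Subgroup.zpowers b) :=
    IsPGroup.of_card (n := 1) (by rw [Nat.card_zpowers, hb, hq2, pow_one])
  have hpc : IsPGroup D.q (Subgroup.zpowers c) :=
    IsPGroup.of_card (n := 1) (by rw [Nat.card_zpowers, hc, hq2, pow_one])
  have hnab : Subgroup.zpowers a ≤ Subgroup.normalizer ((Subgroup.zpowers b : Subgroup G) : Set G) := by
    rw [Subgroup.zpowers_le]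
    apply Subgroup.centralizer_le_normalizer
    rw [Subgroup.mem_centralizer_iff]
    intro x hx
    obtain ⟨k, rfl⟩ := Subgroup.mem_zpowers_iff.mp hx
    have : Commute b a := hab.symm
    exact (this.zpow_left k).eq
  have hpab : IsPGroup D.q (Subgroup.zpowers a ⊔ Subgroup.zpowers b : Subgroup G) :=
    IsPGroup.to_sup_of_normal_right' hpa hpb hnab
  have hnabc : (Subgroup.zpowers a ⊔ Subgroup.zpowers b : Subgroup G) ≤
      Subgroup.normalizer ((Subgroup.zpowers c : Subgroup G) : Set G) := by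
    apply le_trans _ (Subgroup.centralizer_le_normalizer _)
    rw [sup_le_iff, Subgroup.zpowers_le, Subgroup.zpowers_le]
    constructor
    · rw [Subgroup.mem_centralizer_iff]
      intro x hx
      obtain ⟨k, rfl⟩ := Subgroup.mem_zpowers_iff.mp hx
      have : Commute c a := hac.symm
      exact (this.zpow_left k).eq
    · rw [Subgroup.mem_centralizer_iff]
      intro x hx
      obtain ⟨k, rfl⟩ := Subgroup.mem_zpowers_iff.mp hx
      have : Commute c b := hbc.symm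
      exact (this.zpow_left k).eq
  have hpabc : IsPGroup D.q
      ((Subgroup.zpowers a ⊔ Subgroup.zpowers b) ⊔ Subgroup.zpowers c : Subgroup G) :=
    IsPGroup.to_sup_of_normal_right' hpab hpc hnabc
  obtain ⟨g, hg⟩ := Cfsg.Agent.Lib.Helper4.exists_conj_mem_sylow D.Q hpabc
  have hga := hg a (le_sup_left (a := Subgroup.zpowers a ⊔ Subgroup.zpowers b)
    (le_sup_left (a := Subgroup.zpowers a) (Subgroup.mem_zpowers a)))
  have hgb := hg b (le_sup_left (a := Subgroup.zpowers a ⊔ Subgroup.zpowers b)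
    (le_sup_right (a := Subgroup.zpowers a) (Subgroup.mem_zpowers b)))
  have hgc := hg c (le_sup_right (a := Subgroup.zpowers a ⊔ Subgroup.zpowers b)
    (Subgroup.mem_zpowers c))
  have hinj : ∀ {u v : G}, g * u * g⁻¹ = g * v * g⁻¹ → u = v := by
    intro u v h
    calc u = g⁻¹ * (g * u * g⁻¹) * g := by group
      _ = g⁻¹ * (g * v * g⁻¹) * g := by rw [h]
      _ = v := by group
  have hne : ∀ {u : G}, orderOf u = 2 → g * u * g⁻¹ ≠ 1 := by
    intro u hu h1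
    have : u = 1 := by
      calc u = g⁻¹ * (g * u * g⁻¹) * g := by group
        _ = 1 := by rw [h1]; group
    rw [this, orderOf_one] at hu; norm_num at hu
  set a' := g * a * g⁻¹ with ha'
  set b' := g * b * g⁻¹ with hb'
  set c' := g * c * g⁻¹ with hc'
  have ha'1 : a' ≠ 1 := hne ha
  have hb'1 : b' ≠ 1 := hne hb
  have hc'1 : c' ≠ 1 := hne hc
  have hab' : a' ≠ b' := fun h => hne1 (hinj h)
  have hac' : a' ≠ c' := fun h => hne2 (hinj h)
  have hbc' : b' ≠ c' := fun h => hne3 (hinj h)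
  -- the three nonidentity elements of Q
  let T : Finset G := {D.y, D.cj 1 D.y, D.y * D.cj 1 D.y}
  have hT : ∀ {u : G}, u ∈ (D.Q : Subgroup G) → u ≠ 1 → u ∈ T := by
    intro u hu hu1
    rcases D.Q_elts hp3 hu with h | h | h | h
    · exact absurd h hu1
    · rw [h]; simp [T]
    · rw [h]; simp [T]
    · rw [h]; simp [T]
  have hTcard : T.card ≤ 3 := Finset.card_le_three
  let S : Finset G := {a', b', c'}
  have hScard : S.card = 3 := by
    simp only [S]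
    rw [Finset.card_insert_of_notMem, Finset.card_insert_of_notMem, Finset.card_singleton]
    · simpa using hbc'
    · simp only [Finset.mem_insert, Finset.mem_singleton, not_or]
      exact ⟨hab', hac'⟩
  have hST : S ⊆ T := by
    intro u hu
    simp only [S, Finset.mem_insert, Finset.mem_singleton] at hu
    rcases hu with rfl | rfl | rfl
    · exact hT hga ha'1
    · exact hT hgb hb'1
    · exact hT hgc hc'1
  have hSeq : S = T := Finset.eq_of_subset_of_card_le hST (by rw [hScard]; exact hTcard)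
  -- a' b' is a nonidentity element of Q different from a', b'
  have hb'sq : b' * b' = 1 := D.Q_sq hp3 hq2 hgb
  have ha'sq : a' * a' = 1 := D.Q_sq hp3 hq2 hga
  have hprod : a' * b' ∈ (D.Q : Subgroup G) := Subgroup.mul_mem _ hga hgb
  have hprod1 : a' * b' ≠ 1 := by
    intro h
    apply hab'
    calc a' = a' * (b' * b') := by rw [hb'sq, mul_one]
      _ = (a' * b') * b' := by group
      _ = b' := by rw [h, one_mul]
  have hmem : a' * b' ∈ S := by rw [hSeq]; exact hT hprod hprod1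
  simp only [S, Finset.mem_insert, Finset.mem_singleton] at hmem
  rcases hmem with h | h | h
  · exfalso
    apply hb'1
    calc b' = a'⁻¹ * (a' * b') := by group
      _ = 1 := by rw [h]; group
  · exfalso
    apply ha'1
    calc a' = (a' * b') * b'⁻¹ := by group
      _ = 1 := by rw [h]; group
  · apply hinj
    rw [← hc', ← h, ha', hb']; group

end K2B

/-- The `p'`-elements of `C(P)` are `1` and `y`. -/
theorem K2B.K_elts {X : MC G p} (D : K2B X) (hp3 : p = 3) (hq2 : D.q = 2) {a : G} (ha : a ∈ X.C)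
    (hac : (orderOf a).Coprime p) : a = 1 ∨ a = D.y := by
  by_cases ha1 : a = 1
  · exact Or.inl ha1
  -- every prime dividing the order of `a` is `2`
  have h2 : ∀ {r : ℕ}, r.Prime → r ∣ orderOf a → r = 2 := by
    intro r hr hrd
    have hrp : r ≠ p := by
      rintro rfl
      exact hr.ne_one (Nat.Coprime.eq_one_of_dvd hac.symm hrd)
    have : Fact r.Prime := ⟨hr⟩
    have hao : orderOf (a ^ (orderOf a / r)) = r :=
      orderOf_pow_orderOf_div (orderOf_pos a).ne' hrd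
    have hpg : IsPGroup r (Subgroup.zpowers (a ^ (orderOf a / r))) :=
      IsPGroup.of_card (n := 1) (by rw [Nat.card_zpowers, hao, pow_one])
    obtain ⟨Q', hQ'⟩ := hpg.exists_le_sylow
    let D₁ : K2A X := ⟨r, hr, hrp, a ^ (orderOf a / r), Subgroup.pow_mem _ ha _, hao, Q',
      hQ' (Subgroup.mem_zpowers _)⟩
    obtain ⟨x₁, hL, ho⟩ := D₁.exists_x₁
    let D₂ : K2B X := ⟨D₁, x₁, hL, ho⟩
    exact D₂.p_eq_three_and_q_eq_two.2
  have hao : orderOf a = 2 ^ (orderOf a).primeFactorsList.length :=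
    Nat.eq_prime_pow_of_unique_prime_dvd (orderOf_pos a).ne' (fun hd hdd => h2 hd hdd)
  have hyo : orderOf D.y = 2 := D.hyo.trans hq2
  have hcomm : a * D.y = D.y * a := X.N_comm_of_mem_C D.hy D.toK2A.y_p'el (X.C_le_N ha)
  have hpa : IsPGroup 2 (Subgroup.zpowers a) :=
    IsPGroup.of_card (n := (orderOf a).primeFactorsList.length) (by rw [Nat.card_zpowers]; exact hao)
  have hpy : IsPGroup 2 (Subgroup.zpowers D.y) :=
    IsPGroup.of_card (n := 1) (by rw [Nat.card_zpowers, hyo, pow_one])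
  have hn : Subgroup.zpowers a ≤ Subgroup.normalizer ((Subgroup.zpowers D.y : Subgroup G) : Set G) := by
    rw [Subgroup.zpowers_le]
    apply Subgroup.centralizer_le_normalizer
    rw [Subgroup.mem_centralizer_iff]
    intro x hx
    obtain ⟨k, rfl⟩ := Subgroup.mem_zpowers_iff.mp hx
    have : Commute D.y a := hcomm.symm
    exact (this.zpow_left k).eq
  have hpay : IsPGroup 2 (Subgroup.zpowers a ⊔ Subgroup.zpowers D.y : Subgroup G) :=
    IsPGroup.to_sup_of_normal_right' hpa hpy hn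
  obtain ⟨Q', hQ'⟩ := hpay.exists_le_sylow
  have h2p : (2 : ℕ) ≠ p := by rw [hp3]; norm_num
  let D₁ : K2A X := ⟨2, Nat.prime_two, h2p, D.y, D.hy, hyo, Q',
    hQ' ((le_sup_right : Subgroup.zpowers D.y ≤ _) (Subgroup.mem_zpowers _))⟩
  obtain ⟨x₁, hL, ho⟩ := D₁.exists_x₁
  let D₂ : K2B X := ⟨D₁, x₁, hL, ho⟩
  have haQ : a ∈ (D₂.Q : Subgroup G) :=
    hQ' ((le_sup_left : Subgroup.zpowers a ≤ _) (Subgroup.mem_zpowers _))
  exact D₂.Q_inf_C hp3 haQ ha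

/-- The final configuration: `p = 3`, four-group Sylow `2`-subgroups, `C(t) = N(P)`. -/
structure Phantom (X : MC G p) where
  hp3 : p = 3
  t : G
  htC : t ∈ X.C
  hto : orderOf t = 2
  hK : ∀ a ∈ X.C, (orderOf a).Coprime p → a = 1 ∨ a = t
  s : G
  hso : orderOf s = 2
  hsN : s ∈ X.N
  hsC : s ∉ X.C
  hconj : ∀ v : G, orderOf v = 2 → ∃ g : G, g * v * g⁻¹ = t
  hsyl : ∀ a b c : G, orderOf a = 2 → orderOf b = 2 → orderOf c = 2 → a * b = b * a →
    a * c = c * a → b * c = c * b → a ≠ b → a ≠ c → b ≠ c → a * b = c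
  hsq : ∀ a : G, (∃ k : ℕ, a ^ (2 ^ k) = 1) → a ^ 2 = 1

/-- In the case `C(P) ≠ P` the final configuration arises. -/
theorem exists_phantom (hK2 : ∃ y ∈ X.C, (orderOf y).Coprime p ∧ y ≠ 1) :
    Nonempty (Phantom X) := by
  obtain ⟨y₀, hy₀C, hy₀c, hy₀1⟩ := hK2
  obtain ⟨q, j, hq, hqp, hyo⟩ := exists_prime_pow_of_p'el hy₀1 hy₀c
  have : Fact q.Prime := ⟨hq⟩
  have hpg : IsPGroup q (Subgroup.zpowers (y₀ ^ j)) :=
    IsPGroup.of_card (n := 1) (by rw [Nat.card_zpowers, hyo, pow_one])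
  obtain ⟨Q, hQ⟩ := hpg.exists_le_sylow
  let D₁ : K2A X := ⟨q, hq, hqp, y₀ ^ j, Subgroup.pow_mem _ hy₀C _, hyo, Q,
    hQ (Subgroup.mem_zpowers _)⟩
  obtain ⟨x₁, hL, ho⟩ := D₁.exists_x₁
  let D : K2B X := ⟨D₁, x₁, hL, ho⟩
  obtain ⟨hp3, hq2⟩ := D.p_eq_three_and_q_eq_two
  have hyo2 : orderOf D.y = 2 := D.hyo.trans hq2
  refine ⟨⟨hp3, D.y, D.hy, hyo2, fun a ha hac => D.K_elts hp3 hq2 ha hac, D.cj 1 D.y, ?_,
    D.toK2A.Q_le_N (D.yi_mem_Q 1), D.yi_not_mem_C K2B.not_p_dvd_one,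
    fun v hv => D.conj_to_y hp3 hq2 hv,
    fun a b c ha hb hc hab hac hbc h1 h2 h3 => D.syl_V4 hp3 hq2 ha hb hc hab hac hbc h1 h2 h3,
    fun a ha => D.sq_of_two_elt hp3 hq2 ha⟩⟩
  show orderOf (D.x₁ ^ 1 * D.y * (D.x₁ ^ 1)⁻¹) = 2
  rw [orderOf_conj', hyo2]

end MC

end Cfsg.Agent.Lib.Helper30.CycSyl
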