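import Mathlib

/-!
Regular friendship graphs of degree at least three do not exist (the trace argument over `ZMod p`
from the friendship theorem of Erdős–Rényi–Sós, written out following the well-known proof).
-/

set_option autoImplicit false

namespace Cfsg.Agent.Lib.Helper30.FriendGraph

noncomputable section

open Finset SimpleGraph Matrix

universe u v

variable {V : Type u} {R : Type v} [Semiring R]

section FriendshipDef

variable (G : SimpleGraph V)

open scoped Classical in
/-- This property of a graph is the hypothesis of the friendship theorem:
every pair of nonadjacent vertices has exactly one common friend,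
a vertex to which both are adjacent.
-/
def Friendship [Fintype V] : Prop :=
  ∀ ⦃v w : V⦄, v ≠ w → Fintype.card (G.commonNeighbors v w) = 1

/-- A politician is a vertex that is adjacent to all other vertices.
-/
def ExistsPolitician : Prop :=
  ∃ v : V, ∀ w : V, v ≠ w → G.Adj v w

end FriendshipDef

variable [Fintype V] {G : SimpleGraph V} {d : ℕ} (hG : Friendship G)

namespace Friendship

variable (R)

set_option backward.isDefEq.respectTransparency false in
open scoped Classical in
include hG in
/-- One characterization of a friendship graph is that there is exactly one walk of length 2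
  between distinct vertices. These walks are counted in off-diagonal entries of the square of
  the adjacency matrix, so for a friendship graph, those entries are all 1. -/
theorem adjMatrix_sq_of_ne {v w : V} (hvw : v ≠ w) :
    (G.adjMatrix R ^ 2 : Matrix V V R) v w = 1 := by
  rw [sq, ← Nat.cast_one, ← hG hvw]
  simp only [mul_adjMatrix_apply, neighborFinset_eq_filter, adjMatrix_apply,
    sum_boole, filter_filter, and_comm, commonNeighbors,
    Fintype.card_ofFinset (s := filter (fun x ↦ x ∈ G.neighborSet v ∩ G.neighborSet w) univ),
    Set.mem_inter_iff, mem_neighborSet]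

open scoped Classical in
include hG in
/-- This calculation amounts to counting the number of length 3 walks between nonadjacent vertices.
  We use it to show that nonadjacent vertices have equal degrees. -/
theorem adjMatrix_pow_three_of_not_adj {v w : V} (non_adj : ¬G.Adj v w) :
    (G.adjMatrix R ^ 3 : Matrix V V R) v w = degree G v := by
  rw [pow_succ', adjMatrix_mul_apply, degree, card_eq_sum_ones, Nat.cast_sum]
  apply sum_congr rfl
  intro x hx
  rw [adjMatrix_sq_of_ne _ hG, Nat.cast_one]
  rintro ⟨rfl⟩
  rw [mem_neighborFinset] at hx
  exact non_adj hx

variable {R}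

open scoped Classical in
include hG in
/-- As `v` and `w` not being adjacent implies
  `degree G v = ((G.adjMatrix R) ^ 3) v w` and `degree G w = ((G.adjMatrix R) ^ 3) v w`,
  the degrees are equal if `((G.adjMatrix R) ^ 3) v w = ((G.adjMatrix R) ^ 3) w v`

  This is true as the adjacency matrix is symmetric. -/
theorem degree_eq_of_not_adj {v w : V} (hvw : ¬G.Adj v w) : degree G v = degree G w := by
  rw [← Nat.cast_id (G.degree v), ← Nat.cast_id (G.degree w),
    ← adjMatrix_pow_three_of_not_adj ℕ hG hvw,
    ← adjMatrix_pow_three_of_not_adj ℕ hG fun h ↦ hvw h.symm]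
  conv_lhs => rw [← transpose_adjMatrix]
  simp only [pow_succ _ 2, sq, ← transpose_mul, transpose_apply]
  simp only [mul_assoc]

open scoped Classical in
include hG in
/-- Let `A` be the adjacency matrix of a graph `G`.
  If `G` is a friendship graph, then all of the off-diagonal entries of `A^2` are 1.
  If `G` is `d`-regular, then all of the diagonal entries of `A^2` are `d`.
  Putting these together determines `A^2` exactly for a `d`-regular friendship graph. -/
theorem adjMatrix_sq_of_regular (hd : G.IsRegularOfDegree d) :
    G.adjMatrix R ^ 2 = of fun v w => if v = w then (d : R) else (1 : R) := by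
  ext (v w); by_cases h : v = w
  · rw [h, sq, adjMatrix_mul_self_apply_self, hd]; simp
  · rw [adjMatrix_sq_of_ne R hG h, of_apply, if_neg h]

open scoped Classical in
include hG in
theorem adjMatrix_sq_mod_p_of_regular {p : ℕ} (dmod : (d : ZMod p) = 1)
    (hd : G.IsRegularOfDegree d) : G.adjMatrix (ZMod p) ^ 2 = of fun _ _ => 1 := by
  simp [adjMatrix_sq_of_regular hG hd, dmod]

section Nonempty

variable [Nonempty V]

open scoped Classical in
include hG in
/-- If `G` is a friendship graph without a politician (a vertex adjacent to all others), then
  it is regular. We have shown that nonadjacent vertices of a friendship graph have the same degree,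
  and if there isn't a politician, we can show this for adjacent vertices by finding a vertex
  neither is adjacent to, and then using transitivity. -/
theorem isRegularOf_not_existsPolitician (hG' : ¬ExistsPolitician G) :
    ∃ d : ℕ, G.IsRegularOfDegree d := by
  have v := Classical.arbitrary V
  use G.degree v
  intro x
  by_cases hvx : G.Adj v x; swap; · exact (degree_eq_of_not_adj hG hvx).symm
  dsimp only [ExistsPolitician] at hG'
  push Not at hG'
  rcases hG' v with ⟨w, hvw', hvw⟩
  rcases hG' x with ⟨y, hxy', hxy⟩
  by_cases hxw : G.Adj x w
  swap; · rw [degree_eq_of_not_adj hG hvw]; exact degree_eq_of_not_adj hG hxw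
  rw [degree_eq_of_not_adj hG hxy]
  by_cases hvy : G.Adj v y
  swap; · exact (degree_eq_of_not_adj hG hvy).symm
  rw [degree_eq_of_not_adj hG hvw]
  apply degree_eq_of_not_adj hG
  intro hcontra
  rcases Finset.card_eq_one.mp (hG hvw') with ⟨⟨a, ha⟩, h⟩
  have key : ∀ {x}, x ∈ G.commonNeighbors v w → x = a := by
    intro x hx
    have h' : ⟨x, hx⟩ ∈ (univ : Finset (G.commonNeighbors v w)) := mem_univ (Subtype.mk x hx)
    rw [h, mem_singleton] at h'
    injection h'
  apply hxy'
  rw [key ((mem_commonNeighbors G).mpr ⟨hvx, hxw.symm⟩),
    key ((mem_commonNeighbors G).mpr ⟨hvy, hcontra.symm⟩)]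

open scoped Classical in
include hG in
set_option backward.isDefEq.respectTransparency.types false in
/-- Let `A` be the adjacency matrix of a `d`-regular friendship graph, and let `v` be a vector
  all of whose components are `1`. Then `v` is an eigenvector of `A ^ 2`, and we can compute
  the eigenvalue to be `d * d`, or as `d + (Fintype.card V - 1)`, so those quantities must be equal.

  This essentially means that the graph has `d ^ 2 - d + 1` vertices. -/
theorem card_of_regular (hd : G.IsRegularOfDegree d) : d + (Fintype.card V - 1) = d * d := by
  have v := Classical.arbitrary V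
  trans ((G.adjMatrix ℕ ^ 2) *ᵥ (fun _ => 1)) v
  · rw [adjMatrix_sq_of_regular hG hd, mulVec, dotProduct, ← insert_erase (mem_univ v)]
    simp only [sum_insert, mul_one, if_true, Nat.cast_id, mem_erase, not_true,
      Ne, not_false_iff, add_right_inj, false_and, of_apply]
    rw [Finset.sum_const_nat, card_erase_of_mem (mem_univ v), mul_one]; · rfl
    intro x hx; simp [(ne_of_mem_erase hx).symm]
  · rw [sq, ← mulVec_mulVec]
    simp only [adjMatrix_mulVec_const_apply_of_regular hd, neighborFinset,
      card_neighborSet_eq_degree, hd v, Function.const_def, adjMatrix_mulVec_apply _ _ (mulVec _ _),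
      mul_one, sum_const, Set.toFinset_card, smul_eq_mul, Nat.cast_id]

open scoped Classical in
include hG in
/-- The size of a `d`-regular friendship graph is `1 mod (d-1)`, and thus `1 mod p` for a
  factor `p ∣ d-1`. -/
theorem card_mod_p_of_regular {p : ℕ} (dmod : (d : ZMod p) = 1) (hd : G.IsRegularOfDegree d) :
    (Fintype.card V : ZMod p) = 1 := by
  have hpos : 0 < Fintype.card V := Fintype.card_pos_iff.mpr inferInstance
  rw [← Nat.succ_pred_eq_of_pos hpos, Nat.succ_eq_add_one, Nat.pred_eq_sub_one]
  simp only [add_eq_right, Nat.cast_add, Nat.cast_one]
  have h := congr_arg (fun n : ℕ => (n : ZMod p)) (card_of_regular hG hd)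
  revert h; simp [dmod]

end Nonempty

open scoped Classical in
theorem adjMatrix_sq_mul_const_one_of_regular (hd : G.IsRegularOfDegree d) :
    G.adjMatrix R * of (fun _ _ => 1) = of (fun _ _ => (d : R)) := by
  ext x
  simp only [← hd x, degree, adjMatrix_mul_apply, sum_const, Nat.smul_one_eq_cast,
    of_apply]

open scoped Classical in
theorem adjMatrix_mul_const_one_mod_p_of_regular {p : ℕ} (dmod : (d : ZMod p) = 1)
    (hd : G.IsRegularOfDegree d) :
    G.adjMatrix (ZMod p) * of (fun _ _ => 1) = of (fun _ _ => 1) := by
  rw [adjMatrix_sq_mul_const_one_of_regular hd, dmod]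

open scoped Classical in
include hG in
/-- Modulo a factor of `d-1`, the square and all higher powers of the adjacency matrix
  of a `d`-regular friendship graph reduce to the matrix whose entries are all 1. -/
theorem adjMatrix_pow_mod_p_of_regular {p : ℕ} (dmod : (d : ZMod p) = 1)
    (hd : G.IsRegularOfDegree d) {k : ℕ} (hk : 2 ≤ k) :
    G.adjMatrix (ZMod p) ^ k = of (fun _ _ => 1) := by
  match k with
  | 0 | 1 => exfalso; linarith
  | k + 2 =>
    induction k with
    | zero => exact adjMatrix_sq_mod_p_of_regular hG dmod hd
    | succ k hind =>
      rw [pow_succ', hind (Nat.le_add_left 2 k)]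
      exact adjMatrix_mul_const_one_mod_p_of_regular dmod hd

variable [Nonempty V]

open scoped Classical in
include hG in
/-- This is the main proof. Assuming that `3 ≤ d`, we take `p` to be a prime factor of `d-1`.
  Then the `p`th power of the adjacency matrix of a `d`-regular friendship graph must have trace 1
  mod `p`, but we can also show that the trace must be the `p`th power of the trace of the original
  adjacency matrix, which is 0, a contradiction.
-/
theorem false_of_three_le_degree (hd : G.IsRegularOfDegree d) (h : 3 ≤ d) : False := by
  -- get a prime factor of d - 1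
  let p : ℕ := (d - 1).minFac
  have p_dvd_d_pred := (ZMod.natCast_eq_zero_iff _ _).mpr (d - 1).minFac_dvd
  have dpos : 1 ≤ d := by lia
  have d_cast : ↑(d - 1) = (d : ℤ) - 1 := by norm_cast
  have : Fact p.Prime := ⟨Nat.minFac_prime (by lia)⟩
  have hp2 : 2 ≤ p := (Fact.out (p := p.Prime)).two_le
  have dmod : (d : ZMod p) = 1 := by
    rw [← Nat.succ_pred_eq_of_pos dpos, Nat.succ_eq_add_one, Nat.pred_eq_sub_one]
    simp only [add_eq_right, Nat.cast_add, Nat.cast_one]
    exact p_dvd_d_pred
  have Vmod := card_mod_p_of_regular hG dmod hd
  -- now we reduce to a trace calculation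
  have := ZMod.trace_pow_card (G.adjMatrix (ZMod p))
  contrapose! this; clear this
  -- the trace is 0 mod p when computed one way
  rw [trace_adjMatrix, zero_pow this.out.ne_zero]
  -- but the trace is 1 mod p when computed the other way
  rw [adjMatrix_pow_mod_p_of_regular hG dmod hd hp2]
  dsimp only [Fintype.card] at Vmod
  simp only [Matrix.trace, Matrix.diag, mul_one, nsmul_eq_mul, sum_const,
    of_apply, Ne]
  rw [Vmod, ← Nat.cast_one (R := ZMod (Nat.minFac (d - 1))), ZMod.natCast_eq_zero_iff,
    Nat.dvd_one, Nat.minFac_eq_one_iff]
  lia


end Friendship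

end

end Cfsg.Agent.Lib.Helper30.FriendGraph
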