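import Mathlib
import Cfsg.Agent.Lib.Helper30.CycSylK2
import Cfsg.Agent.Lib.Helper30.FriendGraph

/-!
Minimal counterexample to S4016, the final configuration: the commuting graph on involutions is a
regular friendship graph of degree at least three, which does not exist.
-/

set_option autoImplicit false

namespace Cfsg.Agent.Lib.Helper30.CycSyl

open Cfsg

namespace MC

variable {G : Type*} [Group G] [Finite G] {p : ℕ} [hp : Fact p.Prime] {X : MC G p}

namespace Phantom

variable (F : Phantom X)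

theorem t_ne_one : F.t ≠ 1 := by
  intro h1
  have := F.hto
  rw [h1, orderOf_one] at this
  norm_num at this

include F in
theorem two_coprime_p : Nat.Coprime 2 p := by
  rw [F.hp3]; norm_num

theorem t_p'el : (orderOf F.t).Coprime p := by
  rw [F.hto]; exact F.two_coprime_p

theorem cent_t : Subgroup.centralizer ({F.t} : Set G) = X.N :=
  X.cent_eq_N F.htC F.t_p'el F.t_ne_one

omit [Finite G] hp in
theorem inv_mul_self {v : G} (hv : orderOf v = 2) : v * v = 1 := by
  have := pow_orderOf_eq_one v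
  rw [hv, pow_two] at this
  exact this

omit [Finite G] hp in
theorem inv_inv_eq {v : G} (hv : orderOf v = 2) : v⁻¹ = v :=
  inv_eq_of_mul_eq_one_left (inv_mul_self hv)

omit [Finite G] hp in
theorem inv_ne_one {v : G} (hv : orderOf v = 2) : v ≠ 1 := by
  intro h1
  rw [h1, orderOf_one] at hv
  norm_num at hv

omit [Finite G] hp in
theorem orderOf_eq_two {c : G} (h1 : c ≠ 1) (h2 : c * c = 1) : orderOf c = 2 :=
  orderOf_eq_prime (hp := ⟨Nat.prime_two⟩) (by rw [pow_two]; exact h2) h1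

include F in
/-- Any two distinct involutions have exactly one common commuting involution. -/
theorem common {v w : G} (hv : orderOf v = 2) (hw : orderOf w = 2) (hvw : v ≠ w) :
    ∃ c : G, orderOf c = 2 ∧ c ≠ v ∧ c ≠ w ∧ c * v = v * c ∧ c * w = w * c ∧
      ∀ c' : G, orderOf c' = 2 → c' ≠ v → c' ≠ w → c' * v = v * c' → c' * w = w * c' →
        c' = c := by
  have hvv := inv_mul_self hv
  have hww := inv_mul_self hw
  have hvi := inv_inv_eq hv
  have hwi := inv_inv_eq hw
  set z := v * w with hz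
  have hzinv : z⁻¹ = w * v := by rw [hz, mul_inv_rev, hvi, hwi]
  have hvz : v * z * v⁻¹ = z⁻¹ := by
    rw [hzinv, hz, hvi]
    calc v * (v * w) * v = (v * v) * w * v := by group
      _ = w * v := by rw [hvv, one_mul]
  have hwz : w * z * w⁻¹ = z⁻¹ := by
    rw [hzinv, hz, hwi]
    calc w * (v * w) * w = w * v * (w * w) := by group
      _ = w * v := by rw [hww, mul_one]
  -- elements of ⟨z⟩ are inverted by v and w
  have hinvv : ∀ e ∈ Subgroup.zpowers z, v * e * v⁻¹ = e⁻¹ := by
    intro e he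
    obtain ⟨k, rfl⟩ := Subgroup.mem_zpowers_iff.mp he
    rw [← conj_zpow, hvz, inv_zpow]
  have hinvw : ∀ e ∈ Subgroup.zpowers z, w * e * w⁻¹ = e⁻¹ := by
    intro e he
    obtain ⟨k, rfl⟩ := Subgroup.mem_zpowers_iff.mp he
    rw [← conj_zpow, hwz, inv_zpow]
  obtain ⟨u', v', huv, hu', hv', hup, hvc⟩ := exists_parts p z
  by_cases hu1 : u' = 1
  · -- z is a p'-element: ⟨z, v⟩ is a p'-group, hence abelian
    have hzc : (orderOf z).Coprime p := by
      rw [← huv, hu1, one_mul]; exact hvc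
    have hn : Subgroup.zpowers v ≤ Subgroup.normalizer ((Subgroup.zpowers z : Subgroup G) : Set G) := by
      rw [Subgroup.zpowers_le]
      apply mem_normalizer_of_conj_mem
      intro e he
      rw [hinvv e he]
      exact Subgroup.inv_mem _ he
    have hcard := Cfsg.Agent.Lib.Helper22.card_sup_dvd_mul_of_le_normalizer hn
    have hD : ¬ p ∣ Nat.card (Subgroup.zpowers z ⊔ Subgroup.zpowers v : Subgroup G) := by
      intro hd
      rcases (Nat.Prime.dvd_mul hp.out).mp (hd.trans hcard) with h1 | h1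
      · rw [Nat.card_zpowers] at h1
        exact hp.out.ne_one (Nat.Coprime.eq_one_of_dvd hzc.symm h1)
      · rw [Nat.card_zpowers, hv] at h1
        exact hp.out.ne_one (Nat.Coprime.eq_one_of_dvd F.two_coprime_p.symm h1)
    have hDc := X.hab _ hD
    have hcomm : v * z = z * v := mul_comm_of_comm hDc
      ((le_sup_right : Subgroup.zpowers v ≤ _) (Subgroup.mem_zpowers _))
      ((le_sup_left : Subgroup.zpowers z ≤ _) (Subgroup.mem_zpowers _))
    have hzz : z = z⁻¹ := by
      calc z = v * z * v⁻¹ := by rw [hcomm]; group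
        _ = z⁻¹ := hvz
    have hvw' : v * w = w * v := by rw [← hzinv, ← hzz]
    have hz1 : z ≠ 1 := by
      intro h1
      apply hvw
      calc v = v * (w * w) := by rw [hww, mul_one]
        _ = (v * w) * w := by group
        _ = w := by rw [← hz, h1, one_mul]
    have hzsq : z * z = 1 := by
      calc z * z = z * z⁻¹ := by rw [← hzz]
        _ = 1 := mul_inv_cancel z
    refine ⟨z, orderOf_eq_two hz1 hzsq, ?_, ?_, ?_, ?_, ?_⟩
    · intro h
      apply inv_ne_one hw
      calc w = v⁻¹ * (v * w) := by group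
        _ = v⁻¹ * v := by rw [← hz, h]
        _ = 1 := by group
    · intro h
      apply inv_ne_one hv
      calc v = (v * w) * w⁻¹ := by group
        _ = w * w⁻¹ := by rw [← hz, h]
        _ = 1 := by group
    · exact hcomm.symm
    · rw [hz]
      calc v * w * w = v * (w * w) := by group
        _ = w * (v * w) := by rw [hww, hvw', mul_one]; rw [← mul_assoc, hww, one_mul]
    · intro c' hc' hc'v hc'w hcv hcw
      exact (F.hsyl v w c' hv hw hc' hvw' hcv.symm hcw.symm hvw hc'v.symm hc'w.symm).symm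
  · -- the p-part of z is nontrivial
    obtain ⟨g, hg⟩ := X.pel_conj hup
    set x := g * u' * g⁻¹ with hx
    have hx1 : x ≠ 1 := by
      intro h1
      apply hu1
      calc u' = g⁻¹ * (g * u' * g⁻¹) * g := by group
        _ = 1 := by rw [← hx, h1]; group
    -- involutions inverting u' are conjugated into N by g
    have hinN : ∀ {a : G}, a * u' * a⁻¹ = u'⁻¹ → g * a * g⁻¹ ∈ X.N := by
      intro a ha
      apply X.TI hg hx1
      have : g * a * g⁻¹ * x * (g * a * g⁻¹)⁻¹ = x⁻¹ := by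
        rw [hx]
        calc g * a * g⁻¹ * (g * u' * g⁻¹) * (g * a * g⁻¹)⁻¹ = g * (a * u' * a⁻¹) * g⁻¹ := by group
          _ = g * u'⁻¹ * g⁻¹ := by rw [ha]
          _ = (g * u' * g⁻¹)⁻¹ := by group
      rw [this]
      exact Subgroup.inv_mem _ hg
    have hcommt : ∀ {a : G}, a * u' * a⁻¹ = u'⁻¹ → (g⁻¹ * F.t * g) * a = a * (g⁻¹ * F.t * g) := by
      intro a ha
      have h1 := X.N_comm_of_mem_C F.htC F.t_p'el (hinN ha)
      calc (g⁻¹ * F.t * g) * a = g⁻¹ * (F.t * (g * a * g⁻¹)) * g := by group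
        _ = g⁻¹ * ((g * a * g⁻¹) * F.t) * g := by rw [h1]
        _ = a * (g⁻¹ * F.t * g) := by group
    have hco : orderOf (g⁻¹ * F.t * g) = 2 := by
      have := orderOf_conj' g⁻¹ F.t
      rw [inv_inv] at this
      rw [this, F.hto]
    -- t commutes with x
    have htx : x * F.t = F.t * x := (X.mem_C_iff F.t).mp F.htC x hg
    have hne : ∀ {a : G}, a * u' * a⁻¹ = u'⁻¹ → g⁻¹ * F.t * g ≠ a := by
      intro a ha hca
      have h1 : F.t * x * F.t⁻¹ = x⁻¹ := by
        have : g * a * g⁻¹ = F.t := by rw [← hca]; group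
        rw [← this, hx]
        calc g * a * g⁻¹ * (g * u' * g⁻¹) * (g * a * g⁻¹)⁻¹ = g * (a * u' * a⁻¹) * g⁻¹ := by group
          _ = g * u'⁻¹ * g⁻¹ := by rw [ha]
          _ = (g * u' * g⁻¹)⁻¹ := by group
      have h2 : F.t * x * F.t⁻¹ = x := by rw [← htx]; group
      have h3 : x * x = 1 := by
        calc x * x = x * (F.t * x * F.t⁻¹) := by rw [h2]
          _ = x * x⁻¹ := by rw [h1]
          _ = 1 := mul_inv_cancel x
      apply hx1
      apply eq_one_of_pel_of_p'el (X.pel_of_mem_P hg)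
      have : orderOf x ∣ 2 := orderOf_dvd_of_pow_eq_one (by rw [pow_two]; exact h3)
      exact Nat.Coprime.coprime_dvd_left this F.two_coprime_p
    refine ⟨g⁻¹ * F.t * g, hco, hne (hinvv u' hu'), hne (hinvw u' hu'), hcommt (hinvv u' hu'),
      hcommt (hinvw u' hu'), ?_⟩
    intro c' hc' _ _ hcv hcw
    have hcz : Commute c' z := by
      show c' * z = z * c'
      rw [hz]
      calc c' * (v * w) = (c' * v) * w := by group
        _ = (v * c') * w := by rw [hcv]
        _ = v * (c' * w) := by group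
        _ = v * (w * c') := by rw [hcw]
        _ = v * w * c' := by group
    have hcu : c' * u' = u' * c' := by
      obtain ⟨k, rfl⟩ := Subgroup.mem_zpowers_iff.mp hu'
      exact (hcz.zpow_right k).eq
    have h1 : g * c' * g⁻¹ ∈ X.C := by
      apply X.cent_mem_C hg hx1
      rw [hx]
      calc g * c' * g⁻¹ * (g * u' * g⁻¹) = g * (c' * u') * g⁻¹ := by group
        _ = g * (u' * c') * g⁻¹ := by rw [hcu]
        _ = g * u' * g⁻¹ * (g * c' * g⁻¹) := by group
    have h2 : (orderOf (g * c' * g⁻¹)).Coprime p := by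
      rw [orderOf_conj', hc']; exact F.two_coprime_p
    rcases F.hK _ h1 h2 with h3 | h3
    · exfalso
      apply inv_ne_one hc'
      calc c' = g⁻¹ * (g * c' * g⁻¹) * g := by group
        _ = 1 := by rw [h3]; group
    · calc c' = g⁻¹ * (g * c' * g⁻¹) * g := by group
        _ = g⁻¹ * F.t * g := by rw [h3]

end Phantom

end MC

/-- The commuting graph on the involutions of a group. -/
def invGraph (G : Type*) [Group G] : SimpleGraph {v : G // orderOf v = 2} where
  Adj v w := v ≠ w ∧ (v : G) * w = w * v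
  symm := ⟨fun _ _ h => ⟨h.1.symm, h.2.symm⟩⟩
  loopless := ⟨fun _ h => h.1 rfl⟩

namespace MC

variable {G : Type*} [Group G] [Finite G] {p : ℕ} [hp : Fact p.Prime] {X : MC G p}

namespace Phantom

variable (F : Phantom X)

/-- Three distinct involutions commuting with `t`. -/
theorem three_neighbors : ∃ a b c : G, orderOf a = 2 ∧ orderOf b = 2 ∧ orderOf c = 2 ∧
    a ≠ F.t ∧ b ≠ F.t ∧ c ≠ F.t ∧ F.t * a = a * F.t ∧ F.t * b = b * F.t ∧ F.t * c = c * F.t ∧
    a ≠ b ∧ a ≠ c ∧ b ≠ c := by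
  have hst : F.s * F.t = F.t * F.s := X.N_comm_of_mem_C F.htC F.t_p'el F.hsN
  have hss := inv_mul_self F.hso
  have htt := inv_mul_self F.hto
  have hs1 := inv_ne_one F.hso
  have hsi := inv_inv_eq F.hso
  have hst_ne : F.s ≠ F.t := fun h => F.hsC (h ▸ F.htC)
  have hx₀t : X.x₀ * F.t = F.t * X.x₀ := (X.mem_C_iff F.t).mp F.htC X.x₀ X.hx₀
  refine ⟨F.s, F.t * F.s, X.x₀ * F.s * X.x₀⁻¹, F.hso, ?_, ?_, hst_ne, ?_, ?_, hst.symm, ?_, ?_,
    ?_, ?_, ?_⟩
  · apply orderOf_eq_two
    · intro h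
      apply hst_ne
      calc F.s = F.t⁻¹ * (F.t * F.s) := by group
        _ = F.t⁻¹ := by rw [h, mul_one]
        _ = F.t := inv_inv_eq F.hto
    · calc F.t * F.s * (F.t * F.s) = F.t * (F.s * F.t) * F.s := by group
        _ = F.t * (F.t * F.s) * F.s := by rw [hst]
        _ = (F.t * F.t) * (F.s * F.s) := by group
        _ = 1 := by rw [htt, hss, one_mul]
  · rw [orderOf_conj', F.hso]
  · intro h
    apply hs1
    calc F.s = F.t⁻¹ * (F.t * F.s) := by group
      _ = F.t⁻¹ * F.t := by rw [h]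
      _ = 1 := by group
  · intro h
    apply hst_ne
    calc F.s = X.x₀⁻¹ * (X.x₀ * F.s * X.x₀⁻¹) * X.x₀ := by group
      _ = X.x₀⁻¹ * F.t * X.x₀ := by rw [h]
      _ = X.x₀⁻¹ * (F.t * X.x₀) := by group
      _ = X.x₀⁻¹ * (X.x₀ * F.t) := by rw [hx₀t]
      _ = F.t := by group
  · calc F.t * (F.t * F.s) = F.t * (F.s * F.t) := by rw [hst]
      _ = F.t * F.s * F.t := by group
  · calc F.t * (X.x₀ * F.s * X.x₀⁻¹) = (F.t * X.x₀) * F.s * X.x₀⁻¹ := by group
      _ = (X.x₀ * F.t) * F.s * X.x₀⁻¹ := by rw [hx₀t]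
      _ = X.x₀ * (F.t * F.s) * X.x₀⁻¹ := by group
      _ = X.x₀ * (F.s * F.t) * X.x₀⁻¹ := by rw [hst]
      _ = X.x₀ * F.s * (X.x₀⁻¹ * (X.x₀ * F.t) * X.x₀⁻¹) := by group
      _ = X.x₀ * F.s * (X.x₀⁻¹ * (F.t * X.x₀) * X.x₀⁻¹) := by rw [hx₀t]
      _ = X.x₀ * F.s * X.x₀⁻¹ * F.t := by group
  · intro h
    apply F.t_ne_one
    calc F.t = (F.t * F.s) * F.s⁻¹ := by group
      _ = F.s * F.s⁻¹ := by rw [← h]
      _ = 1 := by group
  · -- s ≠ x₀ s x₀⁻¹, otherwise s centralizes x₀
    intro h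
    apply F.hsC
    apply X.cent_mem_C X.hx₀ X.x₀_ne_one
    calc F.s * X.x₀ = (X.x₀ * F.s * X.x₀⁻¹) * X.x₀ := by rw [← h]
      _ = X.x₀ * F.s := by group
  · -- t s ≠ x₀ s x₀⁻¹, otherwise t ∈ P
    intro h
    apply F.t_ne_one
    have h1 : F.t = X.x₀ * (F.s * X.x₀⁻¹ * F.s⁻¹) := by
      calc F.t = (F.t * F.s) * F.s⁻¹ := by group
        _ = (X.x₀ * F.s * X.x₀⁻¹) * F.s⁻¹ := by rw [h]
        _ = X.x₀ * (F.s * X.x₀⁻¹ * F.s⁻¹) := by group
    have h2 : F.t ∈ (X.P : Subgroup G) := by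
      rw [h1]
      exact Subgroup.mul_mem _ X.hx₀ (X.conj_mem_P F.hsN (Subgroup.inv_mem _ X.hx₀))
    exact eq_one_of_pel_of_p'el (X.pel_of_mem_P h2) F.t_p'el

include F in
open scoped Classical in
/-- The final configuration is impossible. -/
theorem false_of_phantom : False := by
  have : Fintype {v : G // orderOf v = 2} := Fintype.ofFinite _
  have : Nonempty {v : G // orderOf v = 2} := ⟨⟨F.t, F.hto⟩⟩
  have hfr : FriendGraph.Friendship (invGraph G) := by
    intro v w hvw
    have hvw' : (v : G) ≠ w := fun h => hvw (Subtype.ext h)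
    obtain ⟨c, hco, hcv, hcw, hcommv, hcommw, huniq⟩ := F.common v.2 w.2 hvw'
    rw [Fintype.card_eq_one_iff]
    refine ⟨⟨⟨c, hco⟩, ?_⟩, ?_⟩
    · rw [SimpleGraph.mem_commonNeighbors]
      exact ⟨⟨fun h => hcv (congrArg Subtype.val h).symm, hcommv.symm⟩,
        ⟨fun h => hcw (congrArg Subtype.val h).symm, hcommw.symm⟩⟩
    · rintro ⟨⟨c', hc'⟩, hmem⟩
      rw [SimpleGraph.mem_commonNeighbors] at hmem
      obtain ⟨⟨h1, h2⟩, ⟨h3, h4⟩⟩ := hmem
      have : c' = c := huniq c' hc' (fun h => h1 (Subtype.ext h.symm))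
        (fun h => h3 (Subtype.ext h.symm)) h2.symm h4.symm
      apply Subtype.ext
      apply Subtype.ext
      exact this
  have hreg : (invGraph G).IsRegularOfDegree ((invGraph G).degree ⟨F.t, F.hto⟩) := by
    intro v
    obtain ⟨g, hg⟩ := F.hconj v v.2
    rw [← (invGraph G).card_neighborSet_eq_degree v,
      ← (invGraph G).card_neighborSet_eq_degree ⟨F.t, F.hto⟩]
    refine Fintype.card_congr ⟨fun u => ⟨⟨g * u.1 * g⁻¹, ?_⟩, ?_⟩,
      fun u => ⟨⟨g⁻¹ * u.1 * g, ?_⟩, ?_⟩, ?_, ?_⟩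
    · rw [orderOf_conj']; exact u.1.2
    · have hu := u.2
      rw [SimpleGraph.mem_neighborSet] at hu ⊢
      obtain ⟨h1, h2⟩ := hu
      refine ⟨?_, ?_⟩
      · intro h
        apply h1
        apply Subtype.ext
        have h' : F.t = g * (u.1 : G) * g⁻¹ := congrArg Subtype.val h
        calc (v : G) = g⁻¹ * (g * v * g⁻¹) * g := by group
          _ = g⁻¹ * (g * (u.1 : G) * g⁻¹) * g := by rw [hg, h']
          _ = u.1 := by group
      · show F.t * (g * (u.1 : G) * g⁻¹) = g * (u.1 : G) * g⁻¹ * F.t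
        rw [← hg]
        calc g * v * g⁻¹ * (g * (u.1 : G) * g⁻¹) = g * ((v : G) * u.1) * g⁻¹ := by group
          _ = g * ((u.1 : G) * v) * g⁻¹ := by rw [h2]
          _ = g * (u.1 : G) * g⁻¹ * (g * v * g⁻¹) := by group
    · have := orderOf_conj' g⁻¹ (u.1 : G)
      rw [inv_inv] at this
      rw [this]; exact u.1.2
    · have hu := u.2
      rw [SimpleGraph.mem_neighborSet] at hu ⊢
      obtain ⟨h1, h2⟩ := hu
      have h2' : F.t * (u.1 : G) = (u.1 : G) * F.t := h2
      refine ⟨?_, ?_⟩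
      · intro h
        apply h1
        apply Subtype.ext
        have h' : (v : G) = g⁻¹ * (u.1 : G) * g := congrArg Subtype.val h
        calc F.t = g * v * g⁻¹ := hg.symm
          _ = g * (g⁻¹ * (u.1 : G) * g) * g⁻¹ := by rw [← h']
          _ = u.1 := by group
      · show (v : G) * (g⁻¹ * (u.1 : G) * g) = g⁻¹ * (u.1 : G) * g * v
        have hv' : (v : G) = g⁻¹ * F.t * g := by rw [← hg]; group
        rw [hv']
        calc g⁻¹ * F.t * g * (g⁻¹ * (u.1 : G) * g) = g⁻¹ * (F.t * (u.1 : G)) * g := by group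
          _ = g⁻¹ * ((u.1 : G) * F.t) * g := by rw [h2']
          _ = g⁻¹ * (u.1 : G) * g * (g⁻¹ * F.t * g) := by group
    · intro u
      apply Subtype.ext
      apply Subtype.ext
      show g⁻¹ * (g * (u.1 : G) * g⁻¹) * g = u.1
      group
    · intro u
      apply Subtype.ext
      apply Subtype.ext
      show g * (g⁻¹ * (u.1 : G) * g) * g⁻¹ = u.1
      group
  have h3 : 3 ≤ (invGraph G).degree ⟨F.t, F.hto⟩ := by
    obtain ⟨a, b, c, ha, hb, hc, hat, hbt, hct, hta, htb, htc, hab, hac, hbc⟩ := F.three_neighbors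
    show 2 < ((invGraph G).neighborFinset ⟨F.t, F.hto⟩).card
    rw [Finset.two_lt_card_iff]
    refine ⟨⟨a, ha⟩, ⟨b, hb⟩, ⟨c, hc⟩, ?_, ?_, ?_, ?_, ?_, ?_⟩
    · rw [SimpleGraph.mem_neighborFinset]
      exact ⟨fun h => hat (congrArg Subtype.val h).symm, hta⟩
    · rw [SimpleGraph.mem_neighborFinset]
      exact ⟨fun h => hbt (congrArg Subtype.val h).symm, htb⟩
    · rw [SimpleGraph.mem_neighborFinset]
      exact ⟨fun h => hct (congrArg Subtype.val h).symm, htc⟩
    · exact fun h => hab (congrArg Subtype.val h)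
    · exact fun h => hac (congrArg Subtype.val h)
    · exact fun h => hbc (congrArg Subtype.val h)
  exact FriendGraph.Friendship.false_of_three_le_degree hfr hreg h3

end Phantom

end MC

end Cfsg.Agent.Lib.Helper30.CycSyl
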