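import Mathlib
import Cfsg.Agent.Lib.Helper76.GOut.QFDefs
import Cfsg.Agent.Lib.Helper76.GOut.PLDefs

/-!
# GOUT block PL, module [PL-STAB2] (helper30): the stability group of a normal series of length two
is abelian; a perfect group acting trivially on `M` and on `Q/M` acts trivially on `Q`.
-/

set_option autoImplicit false
set_option linter.unusedSectionVars false

namespace Cfsg.Agent.Lib.Helper76.GOut

open scoped commutatorElement

/-- `u⁻¹ φ u` commutes with `M`. -/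
theorem stab2_comm_aux30 {Q : Type*} [Group Q] (M : Subgroup Q) [hMn : M.Normal] (φ : MulAut Q)
    (hφM : ∀ m ∈ M, φ m = m) (u m : Q) (hm : m ∈ M) :
    m⁻¹ * (u⁻¹ * φ u) * m = u⁻¹ * φ u := by
  have hm' : u * m * u⁻¹ ∈ M := hMn.conj_mem m hm u
  have h2 : φ u * m = (u * m * u⁻¹) * φ u := by
    calc φ u * m = φ u * φ m := by rw [hφM m hm]
      _ = φ (u * m) := (map_mul φ u m).symm
      _ = φ ((u * m * u⁻¹) * u) := by congr 1; group
      _ = φ (u * m * u⁻¹) * φ u := map_mul φ _ _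
      _ = (u * m * u⁻¹) * φ u := by rw [hφM _ hm']
  calc m⁻¹ * (u⁻¹ * φ u) * m = m⁻¹ * u⁻¹ * (φ u * m) := by group
    _ = m⁻¹ * u⁻¹ * ((u * m * u⁻¹) * φ u) := by rw [h2]
    _ = u⁻¹ * φ u := by group

/-- If the automorphisms `φ, ψ` of `Q` fix the normal subgroup `M` pointwise and act trivially on `Q/M`,
then they commute. -/
theorem stab2_comm {Q : Type*} [Group Q] (M : Subgroup Q) [M.Normal] (φ ψ : MulAut Q)
    (hφM : ∀ m ∈ M, φ m = m) (hψM : ∀ m ∈ M, ψ m = m)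
    (hφQ : ∀ u : Q, u⁻¹ * φ u ∈ M) (hψQ : ∀ u : Q, u⁻¹ * ψ u ∈ M) : φ * ψ = ψ * φ := by
  ext u
  show φ (ψ u) = ψ (φ u)
  have hb := hφQ u
  have hc := hψQ u
  have e1 : ψ u = u * (u⁻¹ * ψ u) := by group
  have e2 : φ u = u * (u⁻¹ * φ u) := by group
  have hcomm : (u⁻¹ * φ u) * (u⁻¹ * ψ u) = (u⁻¹ * ψ u) * (u⁻¹ * φ u) := by
    have := stab2_comm_aux30 M φ hφM u (u⁻¹ * ψ u) hc
    calc (u⁻¹ * φ u) * (u⁻¹ * ψ u)
        = (u⁻¹ * ψ u) * ((u⁻¹ * ψ u)⁻¹ * (u⁻¹ * φ u) * (u⁻¹ * ψ u)) := by group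
      _ = (u⁻¹ * ψ u) * (u⁻¹ * φ u) := by rw [this]
  calc φ (ψ u) = φ (u * (u⁻¹ * ψ u)) := by rw [← e1]
    _ = φ u * φ (u⁻¹ * ψ u) := map_mul φ _ _
    _ = φ u * (u⁻¹ * ψ u) := by rw [hφM _ hc]
    _ = u * ((u⁻¹ * φ u) * (u⁻¹ * ψ u)) := by group
    _ = u * ((u⁻¹ * ψ u) * (u⁻¹ * φ u)) := by rw [hcomm]
    _ = ψ u * (u⁻¹ * φ u) := by group
    _ = ψ u * ψ (u⁻¹ * φ u) := by rw [hψM _ hb]
    _ = ψ (u * (u⁻¹ * φ u)) := (map_mul ψ _ _).symm
    _ = ψ (φ u) := by rw [← e2]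

/-- Hence a perfect group acting trivially on `M` and on `Q/M` acts trivially on `Q`. -/
theorem trivial_of_stab2 {Q R : Type*} [Group Q] [Group R] (α : R →* MulAut Q)
    (hperf : commutator R = ⊤) (M : Subgroup Q) [M.Normal]
    (hM : ∀ r : R, ∀ m ∈ M, α r m = m) (hQ : ∀ (r : R) (u : Q), u⁻¹ * α r u ∈ M) :
    ∀ (r : R) (u : Q), α r u = u := by
  have hker : commutator R ≤ α.ker := by
    rw [commutator_eq_closure, Subgroup.closure_le]
    rintro g ⟨a, b, rfl⟩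
    rw [SetLike.mem_coe, MonoidHom.mem_ker, map_commutatorElement,
      commutatorElement_eq_one_iff_commute]
    exact stab2_comm M (α a) (α b) (hM a) (hM b) (hQ a) (hQ b)
  intro r u
  have hr : r ∈ α.ker := hker (by rw [hperf]; exact Subgroup.mem_top r)
  rw [MonoidHom.mem_ker] at hr
  rw [hr]
  rfl

end Cfsg.Agent.Lib.Helper76.GOut
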