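import Mathlib
import Cfsg.Agent.Lib.Helper76.GOut.QFDefs
import Cfsg.Agent.Lib.Helper76.GOut.PLDefs
import Cfsg.Agent.Lib.Helper30.GOutPLStab2

/-!
# GOUT block PL, module [PL-COMM] (helper30): `[Q, R] = Q`.
-/

set_option autoImplicit false
set_option linter.unusedSectionVars false

namespace Cfsg.Agent.Lib.Helper76.GOut

open scoped commutatorElement

section core

universe u v

variable {Q : Type u} {R : Type v} [Group Q] [Finite Q] [Group R] {α : R →* MulAut Q}

/-- The generating set of `[Q, R]`. -/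
def commSet30 (α : R →* MulAut Q) : Set Q := {x : Q | ∃ (r : R) (u : Q), x = u⁻¹ * α r u}

omit [Finite Q] in
theorem commClosure_invariant30 (α : R →* MulAut Q) (s : R) (x : Q)
    (hx : x ∈ Subgroup.closure (commSet30 α)) : α s x ∈ Subgroup.closure (commSet30 α) := by
  induction hx using Subgroup.closure_induction with
  | mem x hx =>
    obtain ⟨r, u, rfl⟩ := hx
    apply Subgroup.subset_closure
    refine ⟨s * r * s⁻¹, α s u, ?_⟩
    simp [map_mul, MulAut.mul_apply, MulAut.inv_apply]
  | one => rw [map_one]; exact Subgroup.one_mem _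
  | mul x y _ _ hx hy => rw [map_mul]; exact Subgroup.mul_mem _ hx hy
  | inv x _ hx => rw [map_inv]; exact Subgroup.inv_mem _ hx

omit [Finite Q] in
theorem commClosure_conj30 (α : R →* MulAut Q) (w : Q) (x : Q)
    (hx : x ∈ Subgroup.closure (commSet30 α)) : w⁻¹ * x * w ∈ Subgroup.closure (commSet30 α) := by
  induction hx using Subgroup.closure_induction with
  | mem x hx =>
    obtain ⟨r, u, rfl⟩ := hx
    have h1 : (u * w)⁻¹ * α r (u * w) ∈ Subgroup.closure (commSet30 α) :=
      Subgroup.subset_closure ⟨r, u * w, rfl⟩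
    have h2 : w⁻¹ * α r w ∈ Subgroup.closure (commSet30 α) :=
      Subgroup.subset_closure ⟨r, w, rfl⟩
    have e : w⁻¹ * (u⁻¹ * α r u) * w = ((u * w)⁻¹ * α r (u * w)) * (w⁻¹ * α r w)⁻¹ := by
      rw [map_mul]
      group
    rw [e]
    exact Subgroup.mul_mem _ h1 (Subgroup.inv_mem _ h2)
  | one => simp
  | mul x y _ _ hx hy =>
    have e : w⁻¹ * (x * y) * w = (w⁻¹ * x * w) * (w⁻¹ * y * w) := by group
    rw [e]
    exact Subgroup.mul_mem _ hx hy
  | inv x _ hx =>
    have e : w⁻¹ * x⁻¹ * w = (w⁻¹ * x * w)⁻¹ := by group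
    rw [e]
    exact Subgroup.inv_mem _ hx

omit [Finite Q] in
theorem commClosure_normal30 (α : R →* MulAut Q) : (Subgroup.closure (commSet30 α)).Normal := by
  constructor
  intro n hn g
  have := commClosure_conj30 α g⁻¹ n hn
  simpa using this

theorem closure_comm_eq_top (h : PLHyp α) :
    Subgroup.closure {x : Q | ∃ (r : R) (u : Q), x = u⁻¹ * α r u} = ⊤ := by
  by_contra hne
  have hnorm : (Subgroup.closure (commSet30 α)).Normal := commClosure_normal30 α
  have hfix := h.min (Subgroup.closure (commSet30 α)) hne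
    (fun r u hu => commClosure_invariant30 α r u hu)
  have htriv := trivial_of_stab2 α h.perf (Subgroup.closure (commSet30 α)) hfix
    (fun r u => Subgroup.subset_closure ⟨r, u, rfl⟩)
  obtain ⟨r, u, hru⟩ := h.nontriv
  exact hru (htriv r u)

end core

end Cfsg.Agent.Lib.Helper76.GOut
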