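import Mathlib
import Cfsg.Agent.Lib.Helper76.GOut.QFDefs
import Cfsg.Agent.Lib.Helper76.GOut.PLDefs
import Cfsg.Agent.Lib.Helper30.GOutPLStab2

/-!
# GOUT block PL, module [PL-NONAB] (helper30): `Q` is not abelian.
-/

set_option autoImplicit false
set_option linter.unusedSectionVars false

namespace Cfsg.Agent.Lib.Helper76.GOut

open scoped commutatorElement

section core

universe u v

variable {Q : Type u} {R : Type v} [Group Q] [Finite Q] [Group R] {α : R →* MulAut Q}

/-- A nontrivial finite `2`-group contains an element of order `2`. -/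
theorem exists_orderOf_two30 (hQ : IsPGroup 2 Q) (hnt : ∃ u : Q, u ≠ 1) :
    ∃ x : Q, x ≠ 1 ∧ x ^ 2 = 1 := by
  classical
  obtain ⟨n, hn⟩ := hQ.exists_card_eq
  have hlt : 1 < Nat.card Q := by
    obtain ⟨u, hu⟩ := hnt
    have : Nontrivial Q := ⟨⟨u, 1, hu⟩⟩
    exact Finite.one_lt_card
  have hn0 : n ≠ 0 := by
    rintro rfl
    rw [hn] at hlt
    simp at hlt
  have h2 : 2 ∣ Nat.card Q := by
    rw [hn]
    exact dvd_pow_self 2 hn0
  have : Fact (Nat.Prime 2) := ⟨Nat.prime_two⟩
  obtain ⟨x, hx⟩ := exists_prime_orderOf_dvd_card' (G := Q) 2 h2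
  refine ⟨x, ?_, ?_⟩
  · intro h1
    rw [h1, orderOf_one] at hx
    norm_num at hx
  · rw [← hx]
    exact pow_orderOf_eq_one x

theorem not_commutative (hQ : IsPGroup 2 Q) (h : PLHyp α) : ¬ ∀ u v : Q, u * v = v * u := by
  intro hab
  obtain ⟨r0, u0, hru0⟩ := h.nontriv
  have hnt : ∃ u : Q, u ≠ 1 := by
    refine ⟨u0, ?_⟩
    rintro rfl
    exact hru0 (map_one _)
  obtain ⟨x, hx1, hx2⟩ := exists_orderOf_two30 hQ hnt
  -- the subgroup of squares
  let M : Subgroup Q :=
    { carrier := {y | ∃ u : Q, u ^ 2 = y}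
      one_mem' := ⟨1, one_pow 2⟩
      mul_mem' := by
        rintro _ _ ⟨u, rfl⟩ ⟨v, rfl⟩
        exact ⟨u * v, Commute.mul_pow (hab u v) 2⟩
      inv_mem' := by
        rintro _ ⟨u, rfl⟩
        exact ⟨u⁻¹, inv_pow u 2⟩ }
  have hMtop : M ≠ ⊤ := by
    intro htop
    have hsurj : Function.Surjective (fun u : Q => u ^ 2) := by
      intro y
      have : y ∈ M := by rw [htop]; exact Subgroup.mem_top y
      exact this
    have hinj : Function.Injective (fun u : Q => u ^ 2) := Finite.injective_iff_surjective.mpr hsurj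
    have : x = 1 := hinj (by simp [hx2])
    exact hx1 this
  have hMinv : ∀ r : R, ∀ u ∈ M, α r u ∈ M := by
    rintro r _ ⟨u, rfl⟩
    exact ⟨α r u, (map_pow (α r) u 2).symm⟩
  have hfix : ∀ (r : R) (u : Q), α r (u ^ 2) = u ^ 2 := fun r u =>
    h.min M hMtop hMinv r (u ^ 2) ⟨u, rfl⟩
  -- the subgroup of elements of order at most two
  let Ω : Subgroup Q :=
    { carrier := {y | y ^ 2 = 1}
      one_mem' := one_pow 2
      mul_mem' := by
        intro a b ha hb
        show (a * b) ^ 2 = 1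
        rw [Commute.mul_pow (hab a b) 2, ha, hb, one_mul]
      inv_mem' := by
        intro a ha
        show a⁻¹ ^ 2 = 1
        rw [inv_pow, ha, inv_one] }
  have hΩn : Ω.Normal := by
    constructor
    intro n hn g
    have : g * n * g⁻¹ = n := by rw [hab g n]; group
    rw [this]
    exact hn
  have hΩfix : ∀ r : R, ∀ m ∈ Ω, α r m = m := fun r m hm => (h.inv m hm).2 r
  have hΩQ : ∀ (r : R) (u : Q), u⁻¹ * α r u ∈ Ω := by
    intro r u
    show (u⁻¹ * α r u) ^ 2 = 1
    rw [Commute.mul_pow (hab _ _) 2, ← map_pow, hfix r u, inv_pow, inv_mul_cancel]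
  exact hru0 (trivial_of_stab2 α h.perf Ω hΩfix hΩQ r0 u0)

end core

end Cfsg.Agent.Lib.Helper76.GOut
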