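import Mathlib
import Cfsg.Agent.Lib.Helper76.GOut.QFDefs
import Cfsg.Agent.Lib.Helper76.GOut.PLDefs
import Cfsg.Agent.Lib.Helper30.GOutPLStab2
import Cfsg.Agent.Lib.Helper30.GOutPLComm
import Cfsg.Agent.Lib.Helper30.GOutPLNonab

/-!
# GOUT block PL, module [PL-CLASS2] (helper30): class two, `Q/Z(Q)` elementary abelian, irreducible.
-/

set_option autoImplicit false
set_option linter.unusedSectionVars false

namespace Cfsg.Agent.Lib.Helper76.GOut

open scoped commutatorElement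

section core

universe u v

variable {Q : Type u} {R : Type v} [Group Q] [Finite Q] [Group R] {α : R →* MulAut Q}

/-- characteristic subgroups are invariant -/
theorem char_invariant30 (H : Subgroup Q) [hH : H.Characteristic] (φ : MulAut Q) (x : Q)
    (hx : x ∈ H) : φ x ∈ H := by
  have := Subgroup.characteristic_iff_map_le.mp hH φ
  exact this ⟨x, hx, rfl⟩

/-- own copy of [PL-CENT] (proper invariant normal subgroups are central). -/
theorem le_center_of_normal30 (h : PLHyp α) (M : Subgroup Q) [hMn : M.Normal] (hM : M ≠ ⊤)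
    (hinv : ∀ r : R, ∀ u ∈ M, α r u ∈ M) : M ≤ Subgroup.center Q := by
  intro m hm
  rw [Subgroup.mem_center_iff]
  have hfix := h.min M hM hinv
  have hle : Subgroup.closure {x : Q | ∃ (r : R) (u : Q), x = u⁻¹ * α r u} ≤
      Subgroup.centralizer ({m} : Set Q) := by
    rw [Subgroup.closure_le]
    rintro _ ⟨r, u, rfl⟩
    rw [SetLike.mem_coe, Subgroup.mem_centralizer_singleton_iff]
    have h1 : u * m * u⁻¹ ∈ M := hMn.conj_mem m hm u
    have h2 : α r (u * m * u⁻¹) = u * m * u⁻¹ := hfix r _ h1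
    rw [map_mul, map_mul, map_inv, hfix r m hm] at h2
    -- h2 : α r u * m * (α r u)⁻¹ = u * m * u⁻¹
    calc u⁻¹ * α r u * m = u⁻¹ * (α r u * m * (α r u)⁻¹) * α r u := by group
      _ = u⁻¹ * (u * m * u⁻¹) * α r u := by rw [h2]
      _ = m * (u⁻¹ * α r u) := by group
  intro g
  have hg : g ∈ Subgroup.closure {x : Q | ∃ (r : R) (u : Q), x = u⁻¹ * α r u} := by
    rw [closure_comm_eq_top h]
    exact Subgroup.mem_top g
  exact Subgroup.mem_centralizer_singleton_iff.mp (hle hg)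

theorem center_ne_top30 (hQ : IsPGroup 2 Q) (h : PLHyp α) : Subgroup.center Q ≠ ⊤ := by
  intro htop
  apply not_commutative hQ h
  intro u v
  have : v ∈ Subgroup.center Q := by rw [htop]; exact Subgroup.mem_top v
  exact (Subgroup.mem_center_iff.mp this u)

theorem center_fixed (hQ : IsPGroup 2 Q) (h : PLHyp α) (r : R) (z : Q) (hz : z ∈ Subgroup.center Q) :
    α r z = z :=
  h.min (Subgroup.center Q) (center_ne_top30 hQ h)
    (fun r u hu => char_invariant30 (Subgroup.center Q) (α r) u hu) r z hz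

theorem nontrivial30 (h : PLHyp α) : Nontrivial Q := by
  obtain ⟨r0, u0, hru0⟩ := h.nontriv
  refine ⟨⟨u0, 1, ?_⟩⟩
  rintro rfl
  exact hru0 (map_one _)

theorem commutator_le_center30 (hQ : IsPGroup 2 Q) (h : PLHyp α) :
    commutator Q ≤ Subgroup.center Q := by
  have : Fact (Nat.Prime 2) := ⟨Nat.prime_two⟩
  have hnil : Group.IsNilpotent Q := hQ.isNilpotent
  have : IsSolvable Q := IsNilpotent.to_isSolvable
  have : Nontrivial Q := nontrivial30 h
  have hlt := IsSolvable.commutator_lt_top_of_nontrivial Q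
  have hn : (commutator Q).Normal := by infer_instance
  exact le_center_of_normal30 h (commutator Q) hlt.ne
    (fun r u hu => char_invariant30 (commutator Q) (α r) u hu)

theorem commutatorElement_mem_center (hQ : IsPGroup 2 Q) (h : PLHyp α) (u v : Q) :
    ⁅u, v⁆ ∈ Subgroup.center Q := by
  apply commutator_le_center30 hQ h
  rw [commutator_eq_closure]
  exact Subgroup.subset_closure ⟨u, v, rfl⟩

/-- `(u v)² = ⁅v,u⁆ u² v²` when commutators are central. -/
theorem mul_sq30 (hQ : IsPGroup 2 Q) (h : PLHyp α) (u v : Q) :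
    (u * v) ^ 2 = ⁅v, u⁆ * (u ^ 2 * v ^ 2) := by
  have hc := Subgroup.mem_center_iff.mp (commutatorElement_mem_center hQ h v u)
  have e : v * u = ⁅v, u⁆ * (u * v) := by
    rw [commutatorElement_def]; group
  calc (u * v) ^ 2 = u * (v * u) * v := by rw [pow_two]; group
    _ = u * (⁅v, u⁆ * (u * v)) * v := by rw [e]
    _ = (u * ⁅v, u⁆) * (u * v * v) := by group
    _ = (⁅v, u⁆ * u) * (u * v * v) := by rw [hc u]
    _ = ⁅v, u⁆ * (u ^ 2 * v ^ 2) := by rw [pow_two, pow_two]; group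

/-- the subgroup `{u² z}` -/
def sqCenter30 (hQ : IsPGroup 2 Q) (h : PLHyp α) : Subgroup Q where
  carrier := {x | ∃ (u z : Q), z ∈ Subgroup.center Q ∧ x = u ^ 2 * z}
  one_mem' := ⟨1, 1, Subgroup.one_mem _, by simp⟩
  mul_mem' := by
    rintro _ _ ⟨u, z, hz, rfl⟩ ⟨w, z', hz', rfl⟩
    have hc := commutatorElement_mem_center hQ h w u
    refine ⟨u * w, ⁅w, u⁆⁻¹ * (z * z'), Subgroup.mul_mem _ (Subgroup.inv_mem _ hc)
      (Subgroup.mul_mem _ hz hz'), ?_⟩
    rw [mul_sq30 hQ h u w]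
    have hzc := Subgroup.mem_center_iff.mp hz
    have hcc := Subgroup.mem_center_iff.mp hc
    calc u ^ 2 * z * (w ^ 2 * z') = u ^ 2 * (z * w ^ 2) * z' := by group
      _ = u ^ 2 * (w ^ 2 * z) * z' := by rw [← hzc (w ^ 2)]
      _ = (u ^ 2 * w ^ 2) * (z * z') := by group
      _ = ⁅w, u⁆ * (u ^ 2 * w ^ 2) * (⁅w, u⁆⁻¹ * (z * z')) := by
          rw [← hcc (u ^ 2 * w ^ 2)]; group
  inv_mem' := by
    rintro _ ⟨u, z, hz, rfl⟩
    refine ⟨u⁻¹, z⁻¹, Subgroup.inv_mem _ hz, ?_⟩
    have hzc := Subgroup.mem_center_iff.mp (Subgroup.inv_mem _ hz)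
    rw [mul_inv_rev, hzc, inv_pow]

theorem sqCenter_ne_top30 (hQ : IsPGroup 2 Q) (h : PLHyp α) : sqCenter30 hQ h ≠ ⊤ := by
  classical
  intro htop
  -- the quotient `Q ⧸ Z` is a nontrivial 2-group on which squaring is surjective
  have hQZ : IsPGroup 2 (Q ⧸ Subgroup.center Q) := hQ.to_quotient _
  have hsurj : Function.Surjective (fun y : Q ⧸ Subgroup.center Q => y ^ 2) := by
    intro y
    obtain ⟨x, rfl⟩ := QuotientGroup.mk_surjective y
    have hx : x ∈ sqCenter30 hQ h := by rw [htop]; exact Subgroup.mem_top x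
    obtain ⟨u, z, hz, rfl⟩ := hx
    refine ⟨(u : Q ⧸ Subgroup.center Q), ?_⟩
    show ((u : Q ⧸ Subgroup.center Q)) ^ 2 = ((u ^ 2 * z : Q) : Q ⧸ Subgroup.center Q)
    rw [QuotientGroup.mk_mul, (QuotientGroup.eq_one_iff z).mpr hz, mul_one, QuotientGroup.mk_pow]
  have hinj : Function.Injective (fun y : Q ⧸ Subgroup.center Q => y ^ 2) :=
    Finite.injective_iff_surjective.mpr hsurj
  have hnt : ∃ y : Q ⧸ Subgroup.center Q, y ≠ 1 := by
    by_contra hcon
    push Not at hcon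
    apply center_ne_top30 hQ h
    rw [eq_top_iff]
    intro x _
    exact (QuotientGroup.eq_one_iff x).mp (hcon x)
  obtain ⟨y, hy1, hy2⟩ := exists_orderOf_two30 hQZ hnt
  exact hy1 (hinj (by simp [hy2]))

theorem sq_mem_center (hQ : IsPGroup 2 Q) (h : PLHyp α) (u : Q) : u ^ 2 ∈ Subgroup.center Q := by
  have hn : (sqCenter30 hQ h).Normal := by
    constructor
    rintro _ ⟨w, z, hz, rfl⟩ g
    refine ⟨g * w * g⁻¹, z, hz, ?_⟩
    have hzc := Subgroup.mem_center_iff.mp hz
    calc g * (w ^ 2 * z) * g⁻¹ = g * w ^ 2 * (z * g⁻¹) := by group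
      _ = g * w ^ 2 * (g⁻¹ * z) := by rw [hzc g⁻¹]
      _ = (g * w * g⁻¹) ^ 2 * z := by rw [pow_two, pow_two]; group
  have hinv : ∀ r : R, ∀ x ∈ sqCenter30 hQ h, α r x ∈ sqCenter30 hQ h := by
    rintro r _ ⟨w, z, hz, rfl⟩
    refine ⟨α r w, z, hz, ?_⟩
    rw [map_mul, map_pow, center_fixed hQ h r z hz]
  have hle := le_center_of_normal30 h (sqCenter30 hQ h) (sqCenter_ne_top30 hQ h) hinv
  exact hle ⟨u, 1, Subgroup.one_mem _, by simp⟩

theorem eq_center_or_top (hQ : IsPGroup 2 Q) (h : PLHyp α) (M : Subgroup Q)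
    (hZM : Subgroup.center Q ≤ M) (hinv : ∀ r : R, ∀ u ∈ M, α r u ∈ M) :
    M = Subgroup.center Q ∨ M = ⊤ := by
  by_cases hM : M = ⊤
  · exact Or.inr hM
  · left
    have hn : M.Normal := by
      constructor
      intro m hm g
      have hc : ⁅g, m⁆ ∈ M := hZM (commutatorElement_mem_center hQ h g m)
      have e : g * m * g⁻¹ = ⁅g, m⁆ * m := by rw [commutatorElement_def]; group
      rw [e]
      exact M.mul_mem hc hm
    exact le_antisymm (le_center_of_normal30 h M hM hinv) hZM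

theorem exists_not_mem_center (hQ : IsPGroup 2 Q) (h : PLHyp α) :
    ∃ (r : R) (u : Q), u⁻¹ * α r u ∉ Subgroup.center Q := by
  by_contra hcon
  push Not at hcon
  apply center_ne_top30 hQ h
  rw [eq_top_iff, ← closure_comm_eq_top h, Subgroup.closure_le]
  rintro _ ⟨r, u, rfl⟩
  exact hcon r u

/-- Anisotropy at the group level (immediate from `PLHyp.inv`). -/
theorem mem_center_of_sq_eq_sq (h : PLHyp α) (u z : Q) (hz : z ∈ Subgroup.center Q)
    (huz : u ^ 2 = z ^ 2) : u ∈ Subgroup.center Q := by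
  have hzc := Subgroup.mem_center_iff.mp (Subgroup.inv_mem _ hz)
  have h1 : (u * z⁻¹) ^ 2 = 1 := by
    calc (u * z⁻¹) ^ 2 = u * (z⁻¹ * u) * z⁻¹ := by rw [pow_two]; group
      _ = u * (u * z⁻¹) * z⁻¹ := by rw [hzc u]
      _ = u ^ 2 * (z ^ 2)⁻¹ := by rw [pow_two, pow_two]; group
      _ = 1 := by rw [huz, mul_inv_cancel]
  have h2 := (h.inv (u * z⁻¹) h1).1
  have e : u = (u * z⁻¹) * z := by group
  rw [e]
  exact Subgroup.mul_mem _ h2 hz

end core

end Cfsg.Agent.Lib.Helper76.GOut
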