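import Mathlib
import Cfsg.Agent.Lib.Helper76.GOut.QFDefs
import Cfsg.Agent.Lib.Helper76.GOut.PLDefs
import Cfsg.Agent.Lib.Helper30.GOutPLClass2
import Cfsg.Agent.Lib.Helper6.GOutPLMod1

/-!
# GOUT block PL, module [PL-MOD1] (exact wrapper, helper30): the module `V = Q/Z(Q)`.
The construction is helper6's `exists_module_of`; the inputs are [PL-CLASS2].
-/

set_option autoImplicit false
set_option linter.unusedSectionVars false

namespace Cfsg.Agent.Lib.Helper76.GOut

open scoped commutatorElement

section core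

universe u v

variable {Q : Type u} {R : Type v} [Group Q] [Finite Q] [Group R] {α : R →* MulAut Q}

/-- The `𝔽₂[R]`-module `Q/Z(Q)`, packaged: `π : Q → V` is a surjective homomorphism with kernel `Z(Q)`,
equivariant for `α` and `ρ`. -/
theorem exists_module (hQ : IsPGroup 2 Q) (h : PLHyp α) :
    ∃ (V : Type u) (_ : AddCommGroup V) (_ : Module (ZMod 2) V) (_ : Finite V)
      (ρ : R →* (V ≃ₗ[ZMod 2] V)) (π : Q → V),
      Function.Surjective π ∧ (∀ u v : Q, π (u * v) = π u + π v) ∧
      (∀ u : Q, π u = 0 ↔ u ∈ Subgroup.center Q) ∧ (∀ (r : R) (u : Q), π (α r u) = ρ r (π u)) :=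
  Cfsg.Agent.Lib.Helper6.GOut.exists_module_of α (commutatorElement_mem_center hQ h)
    (sq_mem_center hQ h)

end core

end Cfsg.Agent.Lib.Helper76.GOut
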