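import Mathlib
import Cfsg.Agent.Lib.Helper76.GOut.QFDefs
import Cfsg.Agent.Lib.Helper76.GOut.PLDefs
import Cfsg.Agent.Lib.Helper30.GOutPLClass2

/-!
# GOUT block PL, module [PL-MOD2] (helper30): the module `Q/Z(Q)` is irreducible and anisotropic.
-/

set_option autoImplicit false
set_option linter.unusedSectionVars false

namespace Cfsg.Agent.Lib.Helper76.GOut

open scoped commutatorElement
open scoped IsMulCommutative

section prelim

universe u

variable (Q : Type u) [Group Q]

/-- the squares of the centre -/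
abbrev sq2_30 : Subgroup (Subgroup.center Q) :=
  (powMonoidHom 2 : Subgroup.center Q →* Subgroup.center Q).range

/-- `Z(Q)/Z(Q)²`, additively -/
abbrev W30 : Type u := Additive (Subgroup.center Q ⧸ sq2_30 Q)

theorem quot_sq_eq_one30 (y : Subgroup.center Q ⧸ sq2_30 Q) : y ^ 2 = 1 := by
  obtain ⟨z, rfl⟩ := QuotientGroup.mk_surjective y
  rw [← QuotientGroup.mk_pow, QuotientGroup.eq_one_iff]
  exact ⟨z, rfl⟩

theorem W30_two_nsmul (x : W30 Q) : 2 • x = 0 := by
  have h := quot_sq_eq_one30 Q (Additive.toMul x)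
  have h2 : Additive.ofMul ((Additive.toMul x) ^ 2) = Additive.ofMul 1 := congrArg _ h
  rw [ofMul_pow, ofMul_one] at h2
  exact h2

noncomputable instance instModuleW30 : Module (ZMod 2) (W30 Q) :=
  AddCommGroup.zmodModule (n := 2) (W30_two_nsmul Q)

theorem W30_add_self (x : W30 Q) : x + x = 0 := by
  have := W30_two_nsmul Q x
  rwa [two_nsmul] at this

end prelim

section core

universe u v

variable {Q : Type u} {R : Type v} [Group Q] [Finite Q] [Group R] {α : R →* MulAut Q}

/-- class of a central element in `W` -/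
noncomputable def clsW30 (z : Q) (hz : z ∈ Subgroup.center Q) : W30 Q :=
  Additive.ofMul (QuotientGroup.mk (⟨z, hz⟩ : Subgroup.center Q))

theorem clsW30_mul (z z' : Q) (hz : z ∈ Subgroup.center Q) (hz' : z' ∈ Subgroup.center Q) :
    clsW30 (z * z') (Subgroup.mul_mem _ hz hz') = clsW30 z hz + clsW30 z' hz' := by
  unfold clsW30
  rw [← ofMul_mul, ← QuotientGroup.mk_mul]
  rfl

theorem clsW30_congr {z z' : Q} (hz : z ∈ Subgroup.center Q) (e : z = z') :
    clsW30 z hz = clsW30 z' (e ▸ hz) := by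
  subst e
  rfl

theorem clsW30_sq (z : Q) (hz : z ∈ Subgroup.center Q) :
    clsW30 (z ^ 2) (Subgroup.pow_mem _ hz 2) = 0 := by
  unfold clsW30
  have : (QuotientGroup.mk (⟨z ^ 2, Subgroup.pow_mem _ hz 2⟩ : Subgroup.center Q) :
      Subgroup.center Q ⧸ sq2_30 Q) = 1 := by
    rw [QuotientGroup.eq_one_iff]
    exact ⟨⟨z, hz⟩, rfl⟩
  rw [this, ofMul_one]

theorem clsW30_eq_zero {z : Q} (hz : z ∈ Subgroup.center Q) (h0 : clsW30 z hz = 0) :
    ∃ w ∈ Subgroup.center Q, w ^ 2 = z := by
  unfold clsW30 at h0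
  have h1 : (QuotientGroup.mk (⟨z, hz⟩ : Subgroup.center Q) :
      Subgroup.center Q ⧸ sq2_30 Q) = 1 := by
    have := congrArg Additive.toMul h0
    simpa using this
  rw [QuotientGroup.eq_one_iff] at h1
  obtain ⟨w, hw⟩ := h1
  refine ⟨w.1, w.2, ?_⟩
  have := congrArg Subtype.val hw
  simpa using this

/-- the squaring map `Q → W` -/
noncomputable def sqW30 (hQ : IsPGroup 2 Q) (h : PLHyp α) (u : Q) : W30 Q :=
  clsW30 (u ^ 2) (sq_mem_center hQ h u)

/-- the commutator pairing `Q × Q → W` -/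
noncomputable def cW30 (hQ : IsPGroup 2 Q) (h : PLHyp α) (u v : Q) : W30 Q :=
  clsW30 ⁅v, u⁆ (commutatorElement_mem_center hQ h v u)

theorem sqW30_mul (hQ : IsPGroup 2 Q) (h : PLHyp α) (u v : Q) :
    sqW30 hQ h (u * v) = sqW30 hQ h u + sqW30 hQ h v + cW30 hQ h u v := by
  unfold sqW30 cW30
  rw [clsW30_congr (sq_mem_center hQ h (u * v)) (mul_sq30 hQ h u v),
    clsW30_mul _ _ (commutatorElement_mem_center hQ h v u)
      (Subgroup.mul_mem _ (sq_mem_center hQ h u) (sq_mem_center hQ h v)),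
    clsW30_mul _ _ (sq_mem_center hQ h u) (sq_mem_center hQ h v)]
  abel

theorem sqW30_mul_center (hQ : IsPGroup 2 Q) (h : PLHyp α) (u z : Q)
    (hz : z ∈ Subgroup.center Q) : sqW30 hQ h (u * z) = sqW30 hQ h u := by
  have hzc := Subgroup.mem_center_iff.mp hz
  have e : (u * z) ^ 2 = u ^ 2 * z ^ 2 := by
    calc (u * z) ^ 2 = u * (z * u) * z := by rw [pow_two]; group
      _ = u * (u * z) * z := by rw [← hzc u]
      _ = u ^ 2 * z ^ 2 := by rw [pow_two, pow_two]; group
  unfold sqW30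
  rw [clsW30_congr (sq_mem_center hQ h (u * z)) e,
    clsW30_mul _ _ (sq_mem_center hQ h u) (Subgroup.pow_mem _ hz 2), clsW30_sq z hz, add_zero]

theorem sqW30_map (hQ : IsPGroup 2 Q) (h : PLHyp α) (r : R) (u : Q) :
    sqW30 hQ h (α r u) = sqW30 hQ h u := by
  have e : (α r u) ^ 2 = u ^ 2 := by
    rw [← map_pow, center_fixed hQ h r _ (sq_mem_center hQ h u)]
  unfold sqW30
  rw [clsW30_congr (sq_mem_center hQ h (α r u)) e]

theorem cW30_mul_left (hQ : IsPGroup 2 Q) (h : PLHyp α) (u u' v : Q) :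
    cW30 hQ h (u * u') v = cW30 hQ h u v + cW30 hQ h u' v := by
  have hc := Subgroup.mem_center_iff.mp (commutatorElement_mem_center hQ h v u')
  have e : ⁅v, u * u'⁆ = ⁅v, u⁆ * ⁅v, u'⁆ := by
    calc ⁅v, u * u'⁆ = ⁅v, u⁆ * (u * ⁅v, u'⁆) * u⁻¹ := by
          simp only [commutatorElement_def]; group
      _ = ⁅v, u⁆ * (⁅v, u'⁆ * u) * u⁻¹ := by rw [hc u]
      _ = ⁅v, u⁆ * ⁅v, u'⁆ := by group
  unfold cW30
  rw [clsW30_congr (commutatorElement_mem_center hQ h v (u * u')) e,
    clsW30_mul _ _ (commutatorElement_mem_center hQ h v u)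
      (commutatorElement_mem_center hQ h v u')]

theorem sqW30_ne_zero (hQ : IsPGroup 2 Q) (h : PLHyp α) (u : Q)
    (hu : u ∉ Subgroup.center Q) : sqW30 hQ h u ≠ 0 := by
  intro h0
  obtain ⟨w, hw, hwu⟩ := clsW30_eq_zero (sq_mem_center hQ h u) h0
  exact hu (mem_center_of_sq_eq_sq h u w hw hwu.symm)

theorem irr_aniso_of_module (hQ : IsPGroup 2 Q) (h : PLHyp α)
    {V : Type*} [AddCommGroup V] [Module (ZMod 2) V] [Finite V]
    (ρ : R →* (V ≃ₗ[ZMod 2] V)) (π : Q → V)
    (hπs : Function.Surjective π) (hπm : ∀ u v : Q, π (u * v) = π u + π v)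
    (hπk : ∀ u : Q, π u = 0 ↔ u ∈ Subgroup.center Q)
    (hπe : ∀ (r : R) (u : Q), π (α r u) = ρ r (π u)) : Irr ρ ∧ Aniso ρ := by
  classical
  have hπ1 : π 1 = 0 := (hπk 1).mpr (Subgroup.one_mem _)
  have hπinv : ∀ u : Q, π u⁻¹ = -π u := by
    intro u
    have : π (u⁻¹ * u) = π u⁻¹ + π u := hπm _ _
    rw [inv_mul_cancel, hπ1] at this
    exact eq_neg_of_add_eq_zero_left this.symm
  constructor
  · -- irreducible
    intro W hW
    let M : Subgroup Q :=
      { carrier := {u | π u ∈ W}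
        one_mem' := by show π 1 ∈ W; rw [hπ1]; exact W.zero_mem
        mul_mem' := by
          intro a b ha hb
          show π (a * b) ∈ W
          rw [hπm]
          exact W.add_mem ha hb
        inv_mem' := by
          intro a ha
          show π a⁻¹ ∈ W
          rw [hπinv]
          exact W.neg_mem ha }
    have hZM : Subgroup.center Q ≤ M := by
      intro z hz
      show π z ∈ W
      rw [(hπk z).mpr hz]
      exact W.zero_mem
    have hinv : ∀ r : R, ∀ u ∈ M, α r u ∈ M := by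
      intro r u hu
      show π (α r u) ∈ W
      rw [hπe]
      exact hW r _ hu
    rcases eq_center_or_top hQ h M hZM hinv with hM | hM
    · left
      rw [eq_bot_iff]
      intro w hw
      obtain ⟨u, rfl⟩ := hπs w
      have : u ∈ M := hw
      rw [hM] at this
      rw [Submodule.mem_bot]
      exact (hπk u).mpr this
    · right
      rw [eq_top_iff]
      intro w _
      obtain ⟨u, rfl⟩ := hπs w
      have : u ∈ M := by rw [hM]; exact Subgroup.mem_top u
      exact this
  · -- anisotropic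
    intro v hv
    obtain ⟨u0, rfl⟩ := hπs v
    have hu0 : u0 ∉ Subgroup.center Q := fun hz => hv ((hπk u0).mpr hz)
    obtain ⟨φ, hφ⟩ := Module.Projective.exists_dual_ne_zero (ZMod 2) (sqW30_ne_zero hQ h u0 hu0)
    -- the form
    have hwd : ∀ u u' : Q, π u = π u' → sqW30 hQ h u' = sqW30 hQ h u := by
      intro u u' huu
      have hz : u⁻¹ * u' ∈ Subgroup.center Q := by
        rw [← hπk, hπm, hπinv, huu, neg_add_cancel]
      have e : u' = u * (u⁻¹ * u') := by group
      rw [e, sqW30_mul_center hQ h u _ hz]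
    let q : V → ZMod 2 := fun x => φ (sqW30 hQ h (Function.surjInv hπs x))
    have hq : ∀ u : Q, q (π u) = φ (sqW30 hQ h u) := by
      intro u
      show φ (sqW30 hQ h (Function.surjInv hπs (π u))) = φ (sqW30 hQ h u)
      rw [hwd u _ (Function.surjInv_eq hπs (π u)).symm]
    have hpolar : ∀ a b : Q, polar q (π a) (π b) = φ (cW30 hQ h a b) := by
      intro a b
      unfold polar
      rw [← hπm, hq, hq, hq, sqW30_mul, map_add, map_add]
      have h2 : ∀ x y z : ZMod 2, x + y + z + x + y = z := by decide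
      exact h2 _ _ _
    refine ⟨q, ⟨?_, ?_⟩, ?_⟩
    · intro x x' y
      obtain ⟨a, rfl⟩ := hπs x
      obtain ⟨a', rfl⟩ := hπs x'
      obtain ⟨b, rfl⟩ := hπs y
      rw [← hπm, hpolar, hpolar, hpolar, cW30_mul_left, map_add]
    · intro g x
      obtain ⟨a, rfl⟩ := hπs x
      rw [← hπe, hq, hq, sqW30_map]
    · rw [hq]
      exact hφ

end core

end Cfsg.Agent.Lib.Helper76.GOut
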