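import Mathlib
import Cfsg.Prelude.Def_HallClasses

set_option autoImplicit false

/-!
Modules [T1] and [T5] for S2536 (Hall subgroups of symmetric groups, helper71):
primitivity of transitive groups of prime degree and of 2-transitive groups, for subgroups of
`Equiv.Perm β` given by element-wise transitivity statements.
-/

namespace Cfsg.Agent.Lib.Helper30.HallSym

open Cfsg Equiv

variable {β : Type} [Fintype β] [DecidableEq β]

theorem isPreprimitive_of_prime_card (H : Subgroup (Perm β))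
    (htr : ∀ a b : β, ∃ h ∈ H, h a = b) (hp : (Fintype.card β).Prime) :
    MulAction.IsPreprimitive H β := by
  have : MulAction.IsPretransitive H β := ⟨fun a b => by
    obtain ⟨h, hh, hab⟩ := htr a b
    exact ⟨⟨h, hh⟩, hab⟩⟩
  apply MulAction.IsPreprimitive.of_prime_card
  rwa [Nat.card_eq_fintype_card]

theorem isPreprimitive_of_stabilizer_trans (H : Subgroup (Perm β))
    (htr : ∀ a b : β, ∃ h ∈ H, h a = b) (x : β)
    (h2 : ∀ a b : β, a ≠ x → b ≠ x → ∃ h ∈ H, h x = x ∧ h a = b) :
    MulAction.IsPreprimitive H β := by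
  apply MulAction.isPreprimitive_of_is_two_pretransitive
  rw [MulAction.is_two_pretransitive_iff]
  intro a b c d hab hcd
  obtain ⟨h1, hh1, h1a⟩ := htr a x
  obtain ⟨h3, hh3, h3c⟩ := htr c x
  have h1b : h1 b ≠ x := by
    intro h
    apply hab
    apply h1.injective
    rw [h1a, h]
  have h3d : h3 d ≠ x := by
    intro h
    apply hcd
    apply h3.injective
    rw [h3c, h]
  obtain ⟨k, hk, hkx, hkb⟩ := h2 (h1 b) (h3 d) h1b h3d
  refine ⟨⟨h3⁻¹ * k * h1, H.mul_mem (H.mul_mem (H.inv_mem hh3) hk) hh1⟩, ?_, ?_⟩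
  · change (h3⁻¹ * k * h1) a = c
    rw [Perm.mul_apply, Perm.mul_apply, h1a, hkx, Perm.inv_eq_iff_eq, h3c]
  · change (h3⁻¹ * k * h1) b = d
    rw [Perm.mul_apply, Perm.mul_apply, hkb, Perm.inv_eq_iff_eq]

end Cfsg.Agent.Lib.Helper30.HallSym
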