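import Mathlib
import Cfsg.Agent.S0012

/-!
# Generators of subgroups from the power structure of a `p`-group of maximal class

Module [MC-F] of helper87's plan for S5238 (board #2697).
-/

set_option autoImplicit false

namespace Cfsg.Agent.Lib.Helper30.MaxClassGen

open Subgroup

theorem card_mul_relIndex_of_le {G : Type*} [Group G] {B A : Subgroup G} (h : B ≤ A) :
    Nat.card B * B.relIndex A = Nat.card A := by
  have := Subgroup.relIndex_mul_relIndex (⊥ : Subgroup G) B A bot_le h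
  rwa [Subgroup.relIndex_bot_left, Subgroup.relIndex_bot_left] at this

theorem card_inf_le_mul_relIndex {G : Type*} [Group G] [Finite G] (K : Subgroup G)
    {B A : Subgroup G} (h : B ≤ A) :
    Nat.card (K ⊓ A : Subgroup G) ≤ Nat.card (K ⊓ B : Subgroup G) * B.relIndex A := by
  have h1 : (K ⊓ A) ⊓ B = K ⊓ B := by
    rw [inf_assoc, inf_eq_right.mpr h]
  have h2 : Nat.card ((K ⊓ A) ⊓ B : Subgroup G) * ((K ⊓ A) ⊓ B).relIndex (K ⊓ A)
      = Nat.card (K ⊓ A : Subgroup G) := card_mul_relIndex_of_le inf_le_left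
  rw [Subgroup.inf_relIndex_left, h1] at h2
  have h3 : B.relIndex (K ⊓ A) ≤ B.relIndex A :=
    Subgroup.relIndex_le_of_le_right inf_le_right (by
      intro h0
      have := card_mul_relIndex_of_le h
      rw [h0, mul_zero] at this
      exact (Nat.card_pos (α := A)).ne this)
  calc Nat.card (K ⊓ A : Subgroup G) = Nat.card (K ⊓ B : Subgroup G) * B.relIndex (K ⊓ A) := h2.symm
    _ ≤ Nat.card (K ⊓ B : Subgroup G) * B.relIndex A := Nat.mul_le_mul_left _ h3

theorem mul_card_le_of_lt {G : Type*} [Group G] [Finite G] {p : ℕ} [Fact p.Prime]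
    (hG : IsPGroup p G) {A B : Subgroup G} (h : A < B) :
    p * Nat.card A ≤ Nat.card B := by
  have h1 := card_mul_relIndex_of_le h.le
  have h2 : A.relIndex B ≠ 1 := fun h1 => (not_le_of_gt h) (Subgroup.relIndex_eq_one.mp h1)
  obtain ⟨j, hj⟩ := (hG.to_subgroup B).index (A.subgroupOf B)
  have hj' : A.relIndex B = p ^ j := hj
  have hj0 : j ≠ 0 := by
    rintro rfl
    exact h2 (by simpa using hj')
  have h3 : p ≤ A.relIndex B := by
    rw [hj']
    exact Nat.le_self_pow hj0 p
  calc p * Nat.card A = Nat.card A * p := mul_comm _ _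
    _ ≤ Nat.card A * A.relIndex B := Nat.mul_le_mul_left _ h3
    _ = Nat.card B := h1

/-- In a finite `p`-group, a subgroup `N` can be completed to the whole group by at most
`log_p |K : N|` elements. -/
theorem exists_finset_sup_eq_top {K : Type*} [Group K] [Finite K] {p : ℕ} [Fact p.Prime]
    (hK : IsPGroup p K) (N : Subgroup K) :
    ∃ T : Finset K, Subgroup.closure (T : Set K) ⊔ N = ⊤ ∧ p ^ T.card ≤ N.index := by
  classical
  induction' h : N.index using Nat.strong_induction_on with m ih generalizing N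
  by_cases hN : N = ⊤
  · subst hN
    refine ⟨∅, by simp, ?_⟩
    rw [← h]
    simp
  · obtain ⟨g, hg⟩ : ∃ g, g ∉ N := by
      by_contra hcon
      push Not at hcon
      exact hN (eq_top_iff.mpr fun x _ => hcon x)
    have hlt : N < N ⊔ Subgroup.zpowers g := by
      refine lt_of_le_of_ne le_sup_left fun heq => hg ?_
      rw [heq]
      exact (le_sup_right : Subgroup.zpowers g ≤ _) (Subgroup.mem_zpowers g)
    have hmul := Subgroup.relIndex_mul_index hlt.le
    have hrel : N.relIndex (N ⊔ Subgroup.zpowers g) ≠ 1 :=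
      fun h1 => (not_le_of_gt hlt) (Subgroup.relIndex_eq_one.mp h1)
    obtain ⟨j, hj⟩ := (hK.to_subgroup (N ⊔ Subgroup.zpowers g)).index
      (N.subgroupOf (N ⊔ Subgroup.zpowers g))
    have hj' : N.relIndex (N ⊔ Subgroup.zpowers g) = p ^ j := hj
    have hj0 : j ≠ 0 := by
      rintro rfl
      exact hrel (by simpa using hj')
    have hp : p ≤ N.relIndex (N ⊔ Subgroup.zpowers g) := by
      rw [hj']
      exact Nat.le_self_pow hj0 p
    have hpos : 0 < (N ⊔ Subgroup.zpowers g).index :=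
      Nat.pos_of_ne_zero Subgroup.index_ne_zero_of_finite
    have hidx : (N ⊔ Subgroup.zpowers g).index < m := by
      rw [← h, ← hmul]
      have h2 : 2 ≤ N.relIndex (N ⊔ Subgroup.zpowers g) :=
        le_trans (Fact.out : p.Prime).two_le hp
      nlinarith
    obtain ⟨T', hT', hc'⟩ := ih _ hidx (N ⊔ Subgroup.zpowers g) rfl
    refine ⟨insert g T', ?_, ?_⟩
    · rw [Finset.coe_insert, Set.insert_eq, Subgroup.closure_union, ← Subgroup.zpowers_eq_closure]
      rw [eq_top_iff, ← hT']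
      refine sup_le ?_ (sup_le ?_ ?_)
      · exact le_trans le_sup_right le_sup_left
      · exact le_sup_right
      · exact le_trans le_sup_left le_sup_left
    · calc p ^ (insert g T').card ≤ p ^ (T'.card + 1) :=
            Nat.pow_le_pow_right (Fact.out : p.Prime).pos (Finset.card_insert_le _ _)
        _ = p * p ^ T'.card := by rw [pow_succ, mul_comm]
        _ ≤ N.relIndex (N ⊔ Subgroup.zpowers g) * (N ⊔ Subgroup.zpowers g).index :=
            Nat.mul_le_mul hp hc'
        _ = m := by rw [hmul, h]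

theorem closure_eq_top_of_le_frattini {K : Type*} [Group K] [Finite K] {N : Subgroup K}
    (hN : N ≤ frattini K) {T : Subgroup K} (h : T ⊔ N = ⊤) : T = ⊤ := by
  apply frattini_nongenerating
  rw [eq_top_iff, ← h]
  exact sup_le_sup_left hN _


section Main

variable {G : Type*} [Group G] [Finite G] {p : ℕ} [Fact p.Prime]

local notation "Γ" => Subgroup.lowerCentralSeries (⊤ : Subgroup G)

theorem lcs_anti {a b : ℕ} (h : a ≤ b) : Γ b ≤ Γ a :=
  Subgroup.lowerCentralSeries_antitone (S := (⊤ : Subgroup G)) h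

theorem lcs_eq_bot (n : ℕ)
    (hcard : ∀ k, 1 ≤ k → k ≤ n - 1 → Nat.card (Γ k) = p ^ (n - 1 - k)) (hn : 3 ≤ n)
    (k : ℕ) (hk : n - 1 ≤ k) : Γ k = ⊥ := by
  have h1 : Γ (n - 1) = ⊥ := by
    rw [← Subgroup.card_eq_one, hcard (n - 1) (by omega) le_rfl]
    simp
  exact le_bot_iff.mp (h1 ▸ lcs_anti hk)

theorem lcs_relIndex_le (n : ℕ)
    (hcard : ∀ k, 1 ≤ k → k ≤ n - 1 → Nat.card (Γ k) = p ^ (n - 1 - k)) (hn : 3 ≤ n)
    (k : ℕ) (hk : 1 ≤ k) : (Γ (k + 1)).relIndex (Γ k) ≤ p := by
  have hp : 0 < p := (Fact.out : p.Prime).pos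
  by_cases hkn : k + 1 ≤ n - 1
  · have h1 := card_mul_relIndex_of_le
      (lcs_anti (G := G) (Nat.le_succ k))
    rw [hcard (k + 1) (by omega) hkn, hcard k hk (by omega)] at h1
    have h2 : p ^ (n - 1 - k) = p ^ (n - 1 - (k + 1)) * p := by
      rw [← pow_succ]
      congr 1
      omega
    rw [h2] at h1
    exact (Nat.eq_of_mul_eq_mul_left (pow_pos hp _) h1).le
  · have h1 : Γ k = ⊥ := lcs_eq_bot n hcard hn k (by omega)
    rw [h1, Subgroup.relIndex_bot_right]
    exact hp

theorem lcs_card_le (n : ℕ)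
    (hcard : ∀ k, 1 ≤ k → k ≤ n - 1 → Nat.card (Γ k) = p ^ (n - 1 - k)) (hn : 3 ≤ n)
    (i : ℕ) (hi : 1 ≤ i) (hi' : n - p ≤ i) : Nat.card (Γ i) ≤ p ^ (p - 1) := by
  have hp : 0 < p := (Fact.out : p.Prime).pos
  by_cases hin : i ≤ n - 1
  · rw [hcard i hi hin]
    exact Nat.pow_le_pow_right hp (by omega)
  · rw [lcs_eq_bot n hcard hn i (by omega), Subgroup.card_bot]
    exact Nat.one_le_pow _ _ hp

theorem key_count (n : ℕ) (hn : 3 ≤ n) (hG : Nat.card G = p ^ n)
    (hcard : ∀ k, 1 ≤ k → k ≤ n - 1 → Nat.card (Γ k) = p ^ (n - 1 - k))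
    (hpowU : ∀ k, 1 ≤ k → ∀ u ∈ Γ k, u ^ p ∈ Γ (k + p - 1))
    (hpowL : ∀ k, 1 ≤ k → k + p ≤ n - 1 → ∀ u ∈ Γ k, u ^ p ∈ Γ (k + p) → u ∈ Γ (k + 1))
    (K N : Subgroup G) (hKN : ∀ u ∈ K, u ^ p ∈ N) :
    ∀ j i : ℕ, 1 ≤ i → n - p ≤ i + j →
      Nat.card (K ⊓ Γ i : Subgroup G) ≤ Nat.card (N ⊓ Γ (i + p - 1) : Subgroup G) * p ^ (p - 1) := by
  have hp : 0 < p := (Fact.out : p.Prime).pos
  have hp2 : 2 ≤ p := (Fact.out : p.Prime).two_le
  have hPG : IsPGroup p G := IsPGroup.of_card hG
  have hbase : ∀ i : ℕ, 1 ≤ i → n - p ≤ i →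
      Nat.card (K ⊓ Γ i : Subgroup G) ≤ Nat.card (N ⊓ Γ (i + p - 1) : Subgroup G) * p ^ (p - 1) := by
    intro i hi hi'
    calc Nat.card (K ⊓ Γ i : Subgroup G) ≤ Nat.card (Γ i) := Subgroup.card_le_of_le inf_le_right
      _ ≤ p ^ (p - 1) := lcs_card_le n hcard hn i hi hi'
      _ = 1 * p ^ (p - 1) := (one_mul _).symm
      _ ≤ Nat.card (N ⊓ Γ (i + p - 1) : Subgroup G) * p ^ (p - 1) :=
          Nat.mul_le_mul_right _ Nat.card_pos
  intro j
  induction j with
  | zero => intro i hi hi'; exact hbase i hi (by simpa using hi')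
  | succ j ih =>
    intro i hi hi'
    by_cases hb : n - p ≤ i
    · exact hbase i hi hb
    · have hip : i + p ≤ n - 1 := by omega
      have hIH := ih (i + 1) (by omega) (by omega)
      have he : i + 1 + p - 1 = i + p := by omega
      rw [he] at hIH
      have hanti : Γ (i + p) ≤ Γ (i + p - 1) :=
        lcs_anti (by omega)
      by_cases hcase : K ⊓ Γ i ≤ Γ (i + 1)
      · have heq : K ⊓ Γ i = K ⊓ Γ (i + 1) :=
          le_antisymm (le_inf inf_le_left hcase)
            (inf_le_inf_left _ (lcs_anti (Nat.le_succ i)))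
        rw [heq]
        refine le_trans hIH (Nat.mul_le_mul_right _ ?_)
        exact Subgroup.card_le_of_le (inf_le_inf_left _ hanti)
      · obtain ⟨u, hu, hu'⟩ := SetLike.not_le_iff_exists.mp hcase
        have huK : u ∈ K := hu.1
        have huΓ : u ∈ Γ i := hu.2
        have h1 : u ^ p ∈ N ⊓ Γ (i + p - 1) := ⟨hKN u huK, hpowU i hi u huΓ⟩
        have h2 : u ^ p ∉ Γ (i + p) := fun h => hu' (hpowL i hi hip u huΓ h)
        have hlt : N ⊓ Γ (i + p) < N ⊓ Γ (i + p - 1) := by
          refine lt_of_le_of_ne (inf_le_inf_left _ hanti) fun heq => h2 ?_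
          have : u ^ p ∈ N ⊓ Γ (i + p) := heq ▸ h1
          exact this.2
        have h3 := mul_card_le_of_lt hPG hlt
        have h4 := card_inf_le_mul_relIndex K
          (lcs_anti (G := G) (Nat.le_succ i))
        have h5 := lcs_relIndex_le n hcard hn i hi
        calc Nat.card (K ⊓ Γ i : Subgroup G)
            ≤ Nat.card (K ⊓ Γ (i + 1) : Subgroup G) * (Γ (i + 1)).relIndex (Γ i) := h4
          _ ≤ Nat.card (K ⊓ Γ (i + 1) : Subgroup G) * p := Nat.mul_le_mul_left _ h5
          _ ≤ (Nat.card (N ⊓ Γ (i + p) : Subgroup G) * p ^ (p - 1)) * p :=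
              Nat.mul_le_mul_right _ hIH
          _ = (p * Nat.card (N ⊓ Γ (i + p) : Subgroup G)) * p ^ (p - 1) := by ring
          _ ≤ Nat.card (N ⊓ Γ (i + p - 1) : Subgroup G) * p ^ (p - 1) :=
              Nat.mul_le_mul_right _ h3


/-- Module [MC-F] of #2697: the power structure of a `p`-group of maximal class forces every
subgroup to be generated by at most `p` elements. -/
theorem generators_of_power_structure (n : ℕ) (hn : 3 ≤ n) (hG : Nat.card G = p ^ n)
    (hcard : ∀ k, 1 ≤ k → k ≤ n - 1 →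
      Nat.card ((⊤ : Subgroup G).lowerCentralSeries k) = p ^ (n - 1 - k))
    (hpowU : ∀ k, 1 ≤ k → ∀ u ∈ (⊤ : Subgroup G).lowerCentralSeries k,
      u ^ p ∈ (⊤ : Subgroup G).lowerCentralSeries (k + p - 1))
    (hpowL : ∀ k, 1 ≤ k → k + p ≤ n - 1 → ∀ u ∈ (⊤ : Subgroup G).lowerCentralSeries k,
      u ^ p ∈ (⊤ : Subgroup G).lowerCentralSeries (k + p) →
      u ∈ (⊤ : Subgroup G).lowerCentralSeries (k + 1)) :
    ∀ H : Subgroup G, ∃ T : Finset G, T.card ≤ p ∧ Subgroup.closure (T : Set G) = H := by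
  classical
  intro H
  have hp : 0 < p := (Fact.out : p.Prime).pos
  have hp2 : 2 ≤ p := (Fact.out : p.Prime).two_le
  have hPG : IsPGroup p G := IsPGroup.of_card hG
  have hΓ1card : Nat.card (Γ 1) = p ^ (n - 2) := by
    rw [hcard 1 le_rfl (by omega)]
    congr 1
  have hΓ1idx : (Γ 1).index = p ^ 2 := by
    have h1 := Subgroup.card_mul_index (Γ 1)
    rw [hΓ1card, hG] at h1
    have h2 : p ^ n = p ^ (n - 2) * p ^ 2 := by
      rw [← pow_add]
      congr 1
      omega
    rw [h2] at h1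
    exact Nat.eq_of_mul_eq_mul_left (pow_pos hp _) h1
  have hΓ1frat : Γ 1 ≤ frattini G := by
    rw [Subgroup.top_lowerCentralSeries_one]
    exact (Cfsg.Agent.S0012.result p hPG).1
  have hc : (Γ 1).relIndex H ∣ p ^ 2 := hΓ1idx ▸ Subgroup.relIndex_dvd_index_of_normal (Γ 1) H
  obtain ⟨j, hj2, hj⟩ := (Nat.dvd_prime_pow (Fact.out : p.Prime)).mp hc
  by_cases hj2' : j = 2
  · have hsup : H ⊔ Γ 1 = ⊤ := by
      rw [← Subgroup.index_eq_one]
      have h1 := Subgroup.relIndex_mul_index (H := Γ 1) (K := H ⊔ Γ 1) le_sup_right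
      rw [Subgroup.relIndex_sup_right, hj, hj2', hΓ1idx] at h1
      exact Nat.eq_of_mul_eq_mul_left (pow_pos hp 2) (by rw [h1, mul_one])
    have hH : H = ⊤ := closure_eq_top_of_le_frattini hΓ1frat hsup
    obtain ⟨T, hT, hTc⟩ := exists_finset_sup_eq_top hPG (Γ 1)
    refine ⟨T, ?_, ?_⟩
    · rw [hΓ1idx] at hTc
      have := (Nat.pow_le_pow_iff_right (show 1 < p by omega)).mp hTc
      omega
    · rw [hH]
      exact closure_eq_top_of_le_frattini hΓ1frat hT
  · have hj1 : j ≤ 1 := by omega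
    have hcle : (Γ 1).relIndex H ≤ p := by
      rw [hj]
      calc p ^ j ≤ p ^ 1 := Nat.pow_le_pow_right hp hj1
        _ = p := pow_one p
    let N' : Subgroup H := Subgroup.closure {v | ∃ u : H, u ^ p = v}
    have hN'frat : N' ≤ frattini H := by
      apply (Subgroup.closure_le _).mpr
      rintro v ⟨u, rfl⟩
      exact (Cfsg.Agent.S0012.result p (hPG.to_subgroup H)).2 u
    have hKN : ∀ u ∈ H, u ^ p ∈ N'.map H.subtype := by
      intro u hu
      exact ⟨⟨u, hu⟩ ^ p, Subgroup.subset_closure ⟨⟨u, hu⟩, rfl⟩, by simp⟩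
    have hkey := key_count n hn hG hcard hpowU hpowL H (N'.map H.subtype) hKN n 1 le_rfl
      (by omega)
    have hcardN : Nat.card (N'.map H.subtype) = Nat.card N' :=
      Subgroup.card_map_of_injective H.subtype_injective
    have h1 : Nat.card H = Nat.card (H ⊓ Γ 1 : Subgroup G) * (Γ 1).relIndex H := by
      have h := card_mul_relIndex_of_le (inf_le_left : H ⊓ Γ 1 ≤ H)
      rw [Subgroup.inf_relIndex_left] at h
      exact h.symm
    have h2 : Nat.card H ≤ Nat.card N' * p ^ p := by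
      calc Nat.card H = Nat.card (H ⊓ Γ 1 : Subgroup G) * (Γ 1).relIndex H := h1
        _ ≤ (Nat.card (N'.map H.subtype ⊓ Γ (1 + p - 1) : Subgroup G) * p ^ (p - 1)) * p :=
            Nat.mul_le_mul hkey hcle
        _ ≤ (Nat.card (N'.map H.subtype) * p ^ (p - 1)) * p :=
            Nat.mul_le_mul_right _ (Nat.mul_le_mul_right _ (Subgroup.card_le_of_le inf_le_left))
        _ = Nat.card N' * p ^ p := by
            rw [hcardN, mul_assoc, ← pow_succ]
            congr 2
            omega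
    have h3 : N'.index ≤ p ^ p := by
      have h := Subgroup.card_mul_index N'
      rw [← h] at h2
      exact Nat.le_of_mul_le_mul_left h2 Nat.card_pos
    obtain ⟨T', hT', hTc'⟩ := exists_finset_sup_eq_top (hPG.to_subgroup H) N'
    have hT'top : Subgroup.closure (T' : Set H) = ⊤ :=
      closure_eq_top_of_le_frattini hN'frat hT'
    refine ⟨T'.image Subtype.val, ?_, ?_⟩
    · have h4 : p ^ T'.card ≤ p ^ p := le_trans hTc' h3
      have h5 := (Nat.pow_le_pow_iff_right (show 1 < p by omega)).mp h4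
      exact le_trans Finset.card_image_le h5
    · have h6 : ((T'.image Subtype.val : Finset G) : Set G) = H.subtype '' (T' : Set H) := by
        ext x
        simp
      rw [h6, ← MonoidHom.map_closure, hT'top, ← MonoidHom.range_eq_map, Subgroup.range_subtype]

end Main

end Cfsg.Agent.Lib.Helper30.MaxClassGen
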