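import Mathlib

/-!
# An element of order three acting on an elementary abelian 3-group (helper30)

Abstract counting lemmas for an endomorphism `φ` with `φ ^ 3 = 1` (the operator `x - 1`), and their
translation to a subgroup `V` of a group `G` normalized by an element `x` with `x ^ 3 = 1`.
-/

set_option autoImplicit false

namespace Cfsg.Agent.Lib.Helper30.MaxE9

section abstract

variable {A : Type*} [Group A] [Finite A]

theorem card_lt_of_lt {H K : Subgroup A} (h : H < K) : Nat.card ↥H < Nat.card ↥K := by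
  by_contra hcon
  push Not at hcon
  exact h.ne (Subgroup.eq_of_le_of_card_ge h.le hcon)

theorem card_inf_mul_relIndex (H K : Subgroup A) :
    Nat.card ↥(H ⊓ K : Subgroup A) * H.relIndex K = Nat.card ↥K := by
  have h := Subgroup.relIndex_mul_relIndex (⊥ : Subgroup A) (H ⊓ K) K bot_le inf_le_right
  rw [Subgroup.relIndex_bot_left, Subgroup.relIndex_bot_left, Subgroup.inf_relIndex_right] at h
  exact h

theorem card_ker_inf_mul_card_map (φ : A →* A) (K : Subgroup A) :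
    Nat.card ↥(φ.ker ⊓ K : Subgroup A) * Nat.card ↥(K.map φ) = Nat.card ↥K := by
  rw [← Subgroup.relIndex_ker]
  exact card_inf_mul_relIndex _ _

theorem card_ker_mul_card_range (φ : A →* A) :
    Nat.card ↥φ.ker * Nat.card ↥((⊤ : Subgroup A).map φ) = Nat.card A := by
  have h := card_ker_inf_mul_card_map φ ⊤
  rw [inf_top_eq, Subgroup.card_top] at h
  exact h

/-- If `φ ^ 3` is trivial then `|A| ≤ |ker φ| ^ 3`. -/
theorem card_le_ker_cube (φ : A →* A) (h3 : ∀ a, φ (φ (φ a)) = 1) :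
    Nat.card A ≤ Nat.card ↥φ.ker ^ 3 := by
  set R1 : Subgroup A := (⊤ : Subgroup A).map φ with hR1
  have h1 := card_ker_mul_card_range φ
  have h2 := card_ker_inf_mul_card_map φ R1
  have h3' : R1.map φ ≤ φ.ker := by
    rintro _ ⟨b, hb, rfl⟩
    obtain ⟨a, -, rfl⟩ := hb
    exact MonoidHom.mem_ker.mpr (h3 a)
  have h4 : Nat.card ↥(R1.map φ) ≤ Nat.card ↥φ.ker := Subgroup.card_le_of_le h3'
  have h5 : Nat.card ↥(φ.ker ⊓ R1 : Subgroup A) ≤ Nat.card ↥φ.ker :=
    Subgroup.card_le_of_le inf_le_left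
  calc Nat.card A = Nat.card ↥φ.ker * Nat.card ↥R1 := h1.symm
    _ = Nat.card ↥φ.ker * (Nat.card ↥(φ.ker ⊓ R1 : Subgroup A) * Nat.card ↥(R1.map φ)) := by
        rw [h2]
    _ ≤ Nat.card ↥φ.ker * (Nat.card ↥φ.ker * Nat.card ↥φ.ker) :=
        Nat.mul_le_mul_left _ (Nat.mul_le_mul h5 h4)
    _ = Nat.card ↥φ.ker ^ 3 := by ring

/-- The structure of a single Jordan block of size three. -/
theorem jordan_three (φ : A →* A) (h3 : ∀ a, φ (φ (φ a)) = 1) (hA : Nat.card A = 27)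
    (hk : Nat.card ↥φ.ker ≤ 3) :
    Nat.card ↥φ.ker = 3 ∧ Nat.card ↥((⊤ : Subgroup A).map φ) = 9 ∧
      (∀ a, φ (φ a) = 1 → ∃ b, φ b = a) ∧ Nat.card ↥((φ.comp φ).ker) = 9 := by
  have hle := card_le_ker_cube φ h3
  rw [hA] at hle
  have hk3 : Nat.card ↥φ.ker = 3 := by
    by_contra hne
    have : Nat.card ↥φ.ker ≤ 2 := by omega
    have : Nat.card ↥φ.ker ^ 3 ≤ 2 ^ 3 := Nat.pow_le_pow_left this 3
    omega
  set R1 : Subgroup A := (⊤ : Subgroup A).map φ with hR1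
  have h1 : Nat.card ↥φ.ker * Nat.card ↥R1 = Nat.card A := card_ker_mul_card_range φ
  rw [hk3, hA] at h1
  have hR9 : Nat.card ↥R1 = 9 := by omega
  set K2 : Subgroup A := (φ.comp φ).ker with hK2
  have hR1K2 : R1 ≤ K2 := by
    rintro _ ⟨a, -, rfl⟩
    exact MonoidHom.mem_ker.mpr (h3 a)
  have hK2map : K2.map φ ≤ φ.ker := by
    rintro _ ⟨b, hb, rfl⟩
    exact MonoidHom.mem_ker.mpr (MonoidHom.mem_ker.mp hb)
  have h2 := card_ker_inf_mul_card_map φ K2
  have h4 : Nat.card ↥(K2.map φ) ≤ 3 := hk3 ▸ Subgroup.card_le_of_le hK2map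
  have h5 : Nat.card ↥(φ.ker ⊓ K2 : Subgroup A) ≤ 3 := hk3 ▸ Subgroup.card_le_of_le inf_le_left
  have hK2le : Nat.card ↥K2 ≤ 9 := by
    rw [← h2]
    calc _ ≤ 3 * 3 := Nat.mul_le_mul h5 h4
      _ = 9 := by norm_num
  have hK2ge : 9 ≤ Nat.card ↥K2 := hR9 ▸ Subgroup.card_le_of_le hR1K2
  have hK29 : Nat.card ↥K2 = 9 := le_antisymm hK2le hK2ge
  have hEq : R1 = K2 := Subgroup.eq_of_le_of_card_ge hR1K2 (by rw [hR9, hK29])
  refine ⟨hk3, hR9, ?_, hK29⟩
  intro a ha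
  have : a ∈ K2 := MonoidHom.mem_ker.mpr ha
  rw [← hEq] at this
  obtain ⟨b, -, hb⟩ := this
  exact ⟨b, hb⟩

/-- An invariant subgroup of order nine is the kernel of `φ ^ 2`. -/
theorem invariant_nine_le (φ : A →* A) (h3 : ∀ a, φ (φ (φ a)) = 1)
    (hk : Nat.card ↥φ.ker ≤ 3) (B : Subgroup A) (hB : Nat.card ↥B = 9)
    (hinv : ∀ b ∈ B, φ b ∈ B) : ∀ b ∈ B, φ (φ b) = 1 := by
  set K2 : Subgroup A := (φ.comp φ).ker with hK2
  set K2B : Subgroup A := B ⊓ K2 with hK2B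
  by_contra hcon
  push Not at hcon
  obtain ⟨b₀, hb₀, hb₀'⟩ := hcon
  have hne : K2B ≠ B := by
    intro h
    have : b₀ ∈ K2B := h ▸ hb₀
    exact hb₀' (MonoidHom.mem_ker.mp this.2)
  have hlt : K2B < B := lt_of_le_of_ne inf_le_left hne
  have hdvd : Nat.card ↥K2B ∣ 9 := hB ▸ Subgroup.card_dvd_of_le inf_le_left
  have hlt' : Nat.card ↥K2B < 9 := hB ▸ card_lt_of_lt hlt
  have hK2B3 : Nat.card ↥K2B ≤ 3 := by
    generalize Nat.card ↥K2B = n at hdvd hlt'
    interval_cases n <;> omega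
  have hmap : B.map φ ≤ K2B := by
    rintro _ ⟨b, hb, rfl⟩
    exact ⟨hinv b hb, MonoidHom.mem_ker.mpr (h3 b)⟩
  have h2 := card_ker_inf_mul_card_map φ B
  rw [hB] at h2
  have h4 : Nat.card ↥(B.map φ) ≤ Nat.card ↥K2B := Subgroup.card_le_of_le hmap
  have h5 : Nat.card ↥(φ.ker ⊓ B : Subgroup A) ≤ 3 := le_trans (Subgroup.card_le_of_le inf_le_left) hk
  have hmap3 : Nat.card ↥(B.map φ) = 3 := by
    have : Nat.card ↥(B.map φ) ≤ 3 := le_trans h4 hK2B3
    nlinarith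
  have hker3 : Nat.card ↥(φ.ker ⊓ B : Subgroup A) = 3 := by nlinarith
  have hK2B3' : Nat.card ↥K2B = 3 := le_antisymm hK2B3 (hmap3 ▸ h4)
  have hkerle : φ.ker ⊓ B ≤ K2B := by
    intro a ha
    refine ⟨ha.2, MonoidHom.mem_ker.mpr ?_⟩
    have : φ a = 1 := MonoidHom.mem_ker.mp ha.1
    simp [this]
  have hEq1 : φ.ker ⊓ B = K2B := Subgroup.eq_of_le_of_card_ge hkerle (by rw [hker3, hK2B3'])
  have hEq2 : B.map φ = K2B := Subgroup.eq_of_le_of_card_ge hmap (by rw [hmap3, hK2B3'])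
  have : φ b₀ ∈ φ.ker ⊓ B := by
    rw [hEq1, ← hEq2]
    exact ⟨b₀, hb₀, rfl⟩
  exact hb₀' (MonoidHom.mem_ker.mp this.1)

end abstract

section concrete

variable {G : Type*} [Group G]

/-- The operator `x - 1`: `v ↦ x v x⁻¹ v⁻¹`. -/
def F (x v : G) : G := x * v * x⁻¹ * v⁻¹

theorem F_def (x v : G) : F x v = x * v * x⁻¹ * v⁻¹ := rfl

theorem F_eq_one_iff (x v : G) : F x v = 1 ↔ x * v = v * x := by
  unfold F
  constructor
  · intro h
    have : x * v * x⁻¹ = v := by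
      calc x * v * x⁻¹ = x * v * x⁻¹ * v⁻¹ * v := by group
        _ = v := by rw [h, one_mul]
    calc x * v = x * v * x⁻¹ * x := by group
      _ = v * x := by rw [this]
  · intro h
    calc x * v * x⁻¹ * v⁻¹ = (x * v) * x⁻¹ * v⁻¹ := by group
      _ = (v * x) * x⁻¹ * v⁻¹ := by rw [h]
      _ = 1 := by group

theorem conj_eq_F_mul (x v : G) : x * v * x⁻¹ = F x v * v := by
  unfold F; group

theorem mul_self_mul_eq_one {x : G} (hx3 : x ^ 3 = 1) : x * x * x = 1 := by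
  rw [← pow_three']; exact hx3

/-- The telescoping identity: `[x, m]` has trivial "norm" when `x ^ 3 = 1`. -/
theorem norm_F {x : G} (hx3 : x ^ 3 = 1) (m : G) :
    (x * (x * F x m * x⁻¹) * x⁻¹) * (x * F x m * x⁻¹) * F x m = 1 := by
  unfold F
  have h3 := mul_self_mul_eq_one hx3
  have : (x * (x * (x * m * x⁻¹ * m⁻¹) * x⁻¹) * x⁻¹) * (x * (x * m * x⁻¹ * m⁻¹) * x⁻¹) *
      (x * m * x⁻¹ * m⁻¹) = (x * x * x) * m * (x * x * x)⁻¹ * m⁻¹ := by group
  rw [this, h3]; group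

/-- `x` acts on the elementary abelian 3-group `V`, with at most three fixed points in every subgroup. -/
structure XAct (x : G) (V : Subgroup G) : Prop where
  hx3 : x ^ 3 = 1
  ab : ∀ a ∈ V, ∀ b ∈ V, a * b = b * a
  exp : ∀ v ∈ V, v ^ 3 = 1
  inv : ∀ v ∈ V, x * v * x⁻¹ ∈ V
  fix : ∀ S : Subgroup G, S ≤ V → (∀ s ∈ S, x * s = s * x) → Nat.card ↥S ≤ 3

namespace XAct

variable {x : G} {V : Subgroup G}

theorem F_mem (h : XAct x V) {v : G} (hv : v ∈ V) : F x v ∈ V :=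
  V.mul_mem (h.inv v hv) (V.inv_mem hv)

theorem F_mul (h : XAct x V) {v w : G} (hv : v ∈ V) (hw : w ∈ V) :
    F x (v * w) = F x v * F x w := by
  have h1 : x * w * x⁻¹ ∈ V := h.inv w hw
  have h2 : v⁻¹ * (x * w * x⁻¹ * w⁻¹) = (x * w * x⁻¹ * w⁻¹) * v⁻¹ :=
    h.ab _ (V.inv_mem hv) _ (V.mul_mem h1 (V.inv_mem hw))
  unfold F
  calc x * (v * w) * x⁻¹ * (v * w)⁻¹ = x * v * x⁻¹ * ((x * w * x⁻¹ * w⁻¹) * v⁻¹) := by group
    _ = x * v * x⁻¹ * (v⁻¹ * (x * w * x⁻¹ * w⁻¹)) := by rw [h2]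
    _ = x * v * x⁻¹ * v⁻¹ * (x * w * x⁻¹ * w⁻¹) := by group

theorem conj_sq_mem (h : XAct x V) {v : G} (hv : v ∈ V) : x * (x * v * x⁻¹) * x⁻¹ ∈ V :=
  h.inv _ (h.inv v hv)

theorem FF_eq (h : XAct x V) {w : G} (hw : w ∈ V) :
    F x (F x w) = (x * (x * w * x⁻¹) * x⁻¹) * (x * w * x⁻¹) * w := by
  set b := x * w * x⁻¹ with hb
  have hbV : b ∈ V := h.inv w hw
  have hdV : x * b * x⁻¹ ∈ V := h.inv b hbV
  have hb3 : b ^ 3 = 1 := h.exp b hbV
  have hbbb : b * (b * b) = 1 := by rw [← pow_three]; exact hb3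
  have e2 : b⁻¹ = b * b := inv_eq_of_mul_eq_one_right hbbb
  have e1 : F x (F x w) = x * b * x⁻¹ * b⁻¹ * (w * b⁻¹) := by
    unfold F; rw [hb]; group
  have c1 : b⁻¹ * w = w * b⁻¹ := h.ab _ (V.inv_mem hbV) _ hw
  have c2 : b * w = w * b := h.ab _ hbV _ hw
  have e3 : b⁻¹ * b⁻¹ = b := by
    rw [e2]
    calc b * b * (b * b) = (b * (b * b)) * b := by group
      _ = b := by rw [hbbb, one_mul]
  rw [e1]
  calc x * b * x⁻¹ * b⁻¹ * (w * b⁻¹) = x * b * x⁻¹ * (b⁻¹ * w) * b⁻¹ := by group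
    _ = x * b * x⁻¹ * (w * b⁻¹) * b⁻¹ := by rw [c1]
    _ = x * b * x⁻¹ * w * (b⁻¹ * b⁻¹) := by group
    _ = x * b * x⁻¹ * w * b := by rw [e3]
    _ = x * b * x⁻¹ * (w * b) := by group
    _ = x * b * x⁻¹ * (b * w) := by rw [c2]
    _ = x * b * x⁻¹ * b * w := by group

theorem F_cube (h : XAct x V) {v : G} (hv : v ∈ V) : F x (F x (F x v)) = 1 := by
  rw [h.FF_eq (h.F_mem hv)]
  exact norm_F h.hx3 v

/-- The endomorphism `x - 1` of `V`. -/
def phi (h : XAct x V) : ↥V →* ↥V where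
  toFun v := ⟨F x v, h.F_mem v.2⟩
  map_one' := by
    apply Subtype.ext
    simp [F]
  map_mul' a b := by
    apply Subtype.ext
    simp only [Subgroup.coe_mul]
    exact h.F_mul a.2 b.2

theorem phi_coe (h : XAct x V) (v : ↥V) : ((h.phi v : ↥V) : G) = F x v := rfl

theorem phi_cube (h : XAct x V) (a : ↥V) : h.phi (h.phi (h.phi a)) = 1 := by
  apply Subtype.ext
  simp only [phi_coe, Subgroup.coe_one]
  exact h.F_cube a.2

theorem card_ker_le [Finite G] (h : XAct x V) : Nat.card ↥h.phi.ker ≤ 3 := by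
  have hinj : Function.Injective V.subtype := V.subtype_injective
  rw [← Subgroup.card_map_of_injective hinj]
  apply h.fix
  · rintro _ ⟨a, -, rfl⟩
    exact a.2
  · rintro _ ⟨a, ha, rfl⟩
    have : h.phi a = 1 := MonoidHom.mem_ker.mp ha
    have h1 : F x (a : G) = 1 := by
      have := congrArg Subtype.val this
      simpa [phi_coe] using this
    exact (F_eq_one_iff x a).mp h1

theorem card_le [Finite G] (h : XAct x V) : Nat.card ↥V ≤ 27 := by
  have h1 := card_le_ker_cube h.phi h.phi_cube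
  have h2 := h.card_ker_le
  calc Nat.card ↥V ≤ Nat.card ↥h.phi.ker ^ 3 := h1
    _ ≤ 3 ^ 3 := Nat.pow_le_pow_left h2 3
    _ = 27 := by norm_num

theorem exists_F_eq [Finite G] (h : XAct x V) (hV : Nat.card ↥V = 27) {v : G} (hv : v ∈ V)
    (h2 : F x (F x v) = 1) : ∃ w ∈ V, F x w = v := by
  obtain ⟨-, -, hex, -⟩ := jordan_three h.phi h.phi_cube hV h.card_ker_le
  obtain ⟨b, hb⟩ := hex ⟨v, hv⟩ (by apply Subtype.ext; simpa [phi_coe] using h2)
  refine ⟨b, b.2, ?_⟩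
  have := congrArg Subtype.val hb
  simpa [phi_coe] using this

/-- The fixed points of `x` on `V` form a subgroup of order three. -/
theorem card_fix [Finite G] (h : XAct x V) (hV : Nat.card ↥V = 27) :
    Nat.card ↥(V ⊓ Subgroup.centralizer {x} : Subgroup G) = 3 := by
  obtain ⟨hk, -, -, -⟩ := jordan_three h.phi h.phi_cube hV h.card_ker_le
  have hinj : Function.Injective V.subtype := V.subtype_injective
  rw [← Subgroup.card_map_of_injective hinj] at hk
  have : h.phi.ker.map V.subtype = V ⊓ Subgroup.centralizer {x} := by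
    ext a
    constructor
    · rintro ⟨a, ha, rfl⟩
      refine Subgroup.mem_inf.mpr ⟨a.2, ?_⟩
      rw [Subgroup.mem_centralizer_singleton_iff]
      have : h.phi a = 1 := MonoidHom.mem_ker.mp ha
      have h1 : F x (a : G) = 1 := by
        have := congrArg Subtype.val this
        simpa [phi_coe] using this
      exact ((F_eq_one_iff x a).mp h1).symm
    · intro ha
      obtain ⟨haV, hax⟩ := Subgroup.mem_inf.mp ha
      rw [Subgroup.mem_centralizer_singleton_iff] at hax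
      refine ⟨⟨a, haV⟩, ?_, rfl⟩
      apply MonoidHom.mem_ker.mpr
      apply Subtype.ext
      simp only [phi_coe, Subgroup.coe_one]
      exact (F_eq_one_iff x a).mpr hax.symm
  rw [this] at hk
  exact hk

/-- An `x`-invariant subgroup of order nine of `V` (of order 27) is exactly the kernel of `(x-1)^2`. -/
theorem FF_of_mem [Finite G] (h : XAct x V) {U : Subgroup G} (hUV : U ≤ V)
    (hU : Nat.card ↥U = 9) (hUx : ∀ u ∈ U, x * u * x⁻¹ ∈ U) {u : G} (hu : u ∈ U) :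
    F x (F x u) = 1 := by
  have hinj : Function.Injective V.subtype := V.subtype_injective
  set B : Subgroup ↥V := U.subgroupOf V with hB
  have hBcard : Nat.card ↥B = 9 := by
    rw [hB, ← hU]
    exact Nat.card_congr (Subgroup.subgroupOfEquivOfLe hUV).toEquiv
  have hinv : ∀ b ∈ B, h.phi b ∈ B := by
    intro b hb
    rw [hB, Subgroup.mem_subgroupOf] at hb ⊢
    rw [phi_coe]
    exact U.mul_mem (hUx _ hb) (U.inv_mem hb)
  have := invariant_nine_le h.phi h.phi_cube h.card_ker_le B hBcard hinv ⟨u, hUV hu⟩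
    (by rw [hB, Subgroup.mem_subgroupOf]; exact hu)
  have := congrArg Subtype.val this
  simpa [phi_coe] using this

theorem mem_of_FF [Finite G] (h : XAct x V) (hV : Nat.card ↥V = 27) {U : Subgroup G} (hUV : U ≤ V)
    (hU : Nat.card ↥U = 9) (hUx : ∀ u ∈ U, x * u * x⁻¹ ∈ U) {v : G} (hv : v ∈ V)
    (h2 : F x (F x v) = 1) : v ∈ U := by
  obtain ⟨-, -, -, hK2⟩ := jordan_three h.phi h.phi_cube hV h.card_ker_le
  set B : Subgroup ↥V := U.subgroupOf V with hB
  have hBcard : Nat.card ↥B = 9 := by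
    rw [hB, ← hU]
    exact Nat.card_congr (Subgroup.subgroupOfEquivOfLe hUV).toEquiv
  have hle : B ≤ (h.phi.comp h.phi).ker := by
    intro b hb
    rw [hB, Subgroup.mem_subgroupOf] at hb
    apply MonoidHom.mem_ker.mpr
    apply Subtype.ext
    simp only [MonoidHom.comp_apply, phi_coe, Subgroup.coe_one]
    exact h.FF_of_mem hUV hU hUx hb
  have hEq : B = (h.phi.comp h.phi).ker := Subgroup.eq_of_le_of_card_ge hle (by rw [hBcard, hK2])
  have : (⟨v, hv⟩ : ↥V) ∈ B := by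
    rw [hEq]
    apply MonoidHom.mem_ker.mpr
    apply Subtype.ext
    simp only [MonoidHom.comp_apply, phi_coe, Subgroup.coe_one]
    exact h2
  rw [hB, Subgroup.mem_subgroupOf] at this
  exact this

end XAct

end concrete

end Cfsg.Agent.Lib.Helper30.MaxE9
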