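import Mathlib
import Cfsg.Agent.Lib.Helper24.NormalReplacement

/-!
# Relative normal replacement (helper30)

The "normal replacement" lemma of helper24 (`Cfsg.Agent.Lib.Helper24.normal_replacement`), with the
extra conclusion that the new element can be found inside a given normal subgroup `K` containing the
old one.  The proof is the same.
-/

set_option autoImplicit false

open scoped commutatorElement

namespace Cfsg.Agent.Lib.Helper30.MaxE9

open Cfsg.Agent.Lib.Helper24

theorem card_lt_of_le_of_ne_rel {R : Type*} [Group R] [Finite R] {H K : Subgroup R}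
    (h : H ≤ K) (hne : H ≠ K) : Nat.card ↥H < Nat.card ↥K := by
  by_contra hcon
  push Not at hcon
  exact hne (Subgroup.eq_of_le_of_card_ge h hcon)

/-- **Relative normal replacement.** Let `R` be a finite `p`-group, `p` odd, `C` a normal abelian
subgroup of exponent `p`, `K` a normal subgroup containing `C`. If `K ∩ C_R(C)` has an element of
order `p` outside `C`, then it has one that is central modulo `C`. -/
theorem normal_replacement_rel {R : Type*} [Group R] [Finite R] (p : ℕ) [hp : Fact p.Prime]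
    (hp2 : p ≠ 2) (hR : IsPGroup p R) (C K : Subgroup R) [hC : C.Normal] [hK : K.Normal]
    (hCK : C ≤ K) (hCexp : ∀ c ∈ C, c ^ p = 1)
    (hCab : C ≤ Subgroup.centralizer (C : Set R))
    (x : R) (hxK : x ∈ K) (hxT : x ∈ Subgroup.centralizer (C : Set R)) (hxC : x ∉ C)
    (hxp : x ^ p = 1) :
    ∃ y, y ∈ K ∧ y ∈ Subgroup.centralizer (C : Set R) ∧ y ∉ C ∧ y ^ p = 1 ∧ ∀ r : R, ⁅y, r⁆ ∈ C := by
  have : Group.IsNilpotent R := hR.isNilpotent
  -- the set of candidates
  let X : Type _ :=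
    {x : R // x ∈ K ∧ x ∈ Subgroup.centralizer (C : Set R) ∧ x ∉ C ∧ x ^ p = 1}
  have : Nonempty X := ⟨⟨x, hxK, hxT, hxC, hxp⟩⟩
  obtain ⟨x₀, hmax⟩ := Finite.exists_max (fun x : X => Nat.card (centMod C x.1))
  obtain ⟨x₀, hx₀K, hx₀T, hx₀C, hx₀p⟩ := x₀
  simp only at hmax
  suffices htop : centMod C x₀ = ⊤ by
    refine ⟨x₀, hx₀K, hx₀T, hx₀C, hx₀p, fun r => ?_⟩
    have : r ∈ centMod C x₀ := by rw [htop]; trivial
    exact this
  by_contra hne
  have hnc : NormalizerCondition R := Group.normalizerCondition_of_isNilpotent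
  have hlt := hnc _ (lt_top_iff_ne_top.mpr hne)
  set N := centMod C x₀ with hN
  set N₁ := Subgroup.normalizer (N : Set R) with hN₁
  -- generating set
  let S : Set R := (C : Set R) ∪ {g | ∃ n ∈ N₁, g = n * x₀ * n⁻¹}
  have hTn : (Subgroup.centralizer (C : Set R)).Normal := inferInstance
  have hST : ∀ s ∈ S, s ∈ Subgroup.centralizer (C : Set R) := by
    rintro s (hs | ⟨n, -, rfl⟩)
    · exact hCab hs
    · exact hTn.conj_mem _ hx₀T n
  have hSK : ∀ s ∈ S, s ∈ K := by
    rintro s (hs | ⟨n, -, rfl⟩)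
    · exact hCK hs
    · exact hK.conj_mem _ hx₀K n
  have hFT : Subgroup.closure S ≤ Subgroup.centralizer (C : Set R) := by
    rw [Subgroup.closure_le]; exact hST
  have hFK : Subgroup.closure S ≤ K := by
    rw [Subgroup.closure_le]; exact hSK
  have hSp : ∀ s ∈ S, s ^ p = 1 := by
    rintro s (hs | ⟨n, -, rfl⟩)
    · exact hCexp s hs
    · rw [conj_pow, hx₀p]; group
  have hx₀N : x₀ ∈ N := by rw [hN, mem_centMod]; simp
  have hScomm : ∀ s ∈ S, ∀ t ∈ S, ⁅s, t⁆ ∈ C := by
    rintro s (hs | ⟨n, hn, rfl⟩) t (ht | ⟨m, hm, rfl⟩)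
    · have : s * t = t * s := (Subgroup.mem_centralizer_iff.mp (hCab hs) t ht).symm
      rw [commutatorElement_eq_one_iff_mul_comm.mpr this]; exact C.one_mem
    · have hmT : m * x₀ * m⁻¹ ∈ Subgroup.centralizer (C : Set R) := hTn.conj_mem _ hx₀T m
      have : s * (m * x₀ * m⁻¹) = (m * x₀ * m⁻¹) * s := Subgroup.mem_centralizer_iff.mp hmT s hs
      rw [commutatorElement_eq_one_iff_mul_comm.mpr this]; exact C.one_mem
    · have hnT : n * x₀ * n⁻¹ ∈ Subgroup.centralizer (C : Set R) := hTn.conj_mem _ hx₀T n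
      have : (n * x₀ * n⁻¹) * t = t * (n * x₀ * n⁻¹) :=
        (Subgroup.mem_centralizer_iff.mp hnT t ht).symm
      rw [commutatorElement_eq_one_iff_mul_comm.mpr this]; exact C.one_mem
    · -- the main case
      have hk : n⁻¹ * m ∈ N₁ := N₁.mul_mem (N₁.inv_mem hn) hm
      have hk2 : (n⁻¹ * m) * x₀ * (n⁻¹ * m)⁻¹ ∈ N :=
        (Subgroup.mem_normalizer_iff.mp hk x₀).mp hx₀N
      rw [hN, mem_centMod] at hk2
      have := hC.conj_mem _ hk2 n
      rw [conjugate_commutatorElement] at this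
      have e : n * ((n⁻¹ * m) * x₀ * (n⁻¹ * m)⁻¹) * n⁻¹ = m * x₀ * m⁻¹ := by group
      rwa [e] at this
  have hcen : ∀ c ∈ C, ∀ f ∈ Subgroup.closure S, c * f = f * c := by
    intro c hc f hf
    exact (Subgroup.mem_centralizer_iff.mp (hFT hf) c hc)
  have hFexp : ∀ f ∈ Subgroup.closure S, f ^ p = 1 :=
    pow_eq_one_of_closure p hp2 C S hCexp hSp hScomm hcen
  -- `N₁` normalizes `F = closure S`
  have hN₁F : N₁ ≤ Subgroup.normalizer ((Subgroup.closure S : Subgroup R) : Set R) := by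
    rw [Subgroup.le_normalizer_closure_iff]
    rintro h hh g (hg | ⟨n, hn, rfl⟩)
    · exact Subgroup.subset_closure (Or.inl (hC.conj_mem g hg h))
    · apply Subgroup.subset_closure
      right
      exact ⟨h * n, N₁.mul_mem hh hn, by group⟩
  have hx₀F : x₀ ∈ Subgroup.closure S :=
    Subgroup.subset_closure (Or.inr ⟨1, N₁.one_mem, by group⟩)
  have hFC : ¬ Subgroup.closure S ≤ C := fun h => hx₀C (h hx₀F)
  obtain ⟨y, hyF, hyC, hyN⟩ := exists_mem_not_mem_comm_mem C N₁ (Subgroup.closure S) hN₁F hFC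
  -- `y` is a better candidate
  have h1 := hmax ⟨y, hFK hyF, hFT hyF, hyC, hFexp y hyF⟩
  simp only at h1
  have hle : N₁ ≤ centMod C y := fun n hn => hyN n hn
  have h2 : Nat.card N₁ ≤ Nat.card (centMod C y) := Subgroup.card_le_of_le hle
  have h3 : Nat.card N < Nat.card N₁ := card_lt_of_le_of_ne_rel hlt.le hlt.ne
  omega

end Cfsg.Agent.Lib.Helper30.MaxE9
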