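import Mathlib
import Cfsg.Agent.Lib.Helper30.MaxE9Jordan
import Cfsg.Agent.Lib.Helper30.MaxE9RelRepl
import Cfsg.Agent.Lib.Helper45.NormalEpp

/-!
# 3-groups with a maximal elementary abelian subgroup of order nine: the basic configuration (helper30)

`Cfg G`: `G = M⟨x⟩` a finite 3-group, `M` normal of index 3, `x ∉ M` of order 3 with `C_M(x)` cyclic
(generated by `c`), `U` a normal elementary abelian subgroup of order 9 centralized by `M`.
`VD D V`: `V` a normal elementary abelian subgroup of order 27 with `U ≤ V ≤ M`.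
-/

set_option autoImplicit false

open scoped commutatorElement

namespace Cfsg.Agent.Lib.Helper30.MaxE9

universe u

/-! ### General lemmas -/

section general

variable {G : Type*} [Group G]

theorem card_le_three_of_le_zpowers [Finite G] (c : G) (S : Subgroup G)
    (hS : S ≤ Subgroup.zpowers c) (hexp : ∀ s ∈ S, s ^ 3 = 1) : Nat.card ↥S ≤ 3 := by
  have hcyc : IsCyclic ↥(S.subgroupOf (Subgroup.zpowers c)) := inferInstance
  have hcard : Nat.card ↥(S.subgroupOf (Subgroup.zpowers c)) = Nat.card ↥S :=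
    Nat.card_congr (Subgroup.subgroupOfEquivOfLe hS).toEquiv
  have hexp' : Monoid.exponent ↥(S.subgroupOf (Subgroup.zpowers c)) ∣ 3 := by
    apply Monoid.exponent_dvd_of_forall_pow_eq_one
    intro s
    apply Subtype.ext
    apply Subtype.ext
    have := hexp _ (Subgroup.mem_subgroupOf.mp s.2)
    simpa using this
  rw [IsCyclic.exponent_eq_card, hcard] at hexp'
  exact Nat.le_of_dvd (by norm_num) hexp'

theorem pow_three_eq_one_of_mem_zpowers {z w : G} (hz3 : z ^ 3 = 1) (hw : w ∈ Subgroup.zpowers z) :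
    w ^ 3 = 1 := by
  obtain ⟨k, rfl⟩ := hw
  rw [← zpow_natCast, ← zpow_mul, mul_comm, zpow_mul, zpow_natCast, hz3, one_zpow]

theorem orderOf_eq_three {w : G} (hw3 : w ^ 3 = 1) (hw1 : w ≠ 1) : orderOf w = 3 := by
  have h := orderOf_dvd_of_pow_eq_one hw3
  have hp : Nat.Prime 3 := by norm_num
  rcases (Nat.dvd_prime hp).mp h with h1 | h3
  · exact absurd (orderOf_eq_one_iff.mp h1) hw1
  · exact h3

/-- In a group of order three generated by `z`, any nontrivial element `w` has every element as a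
power `w ^ i`, `i < 3`. -/
theorem exists_pow_eq_of_mem_zpowers [Finite G] {z w t : G} (hz3 : z ^ 3 = 1)
    (hw : w ∈ Subgroup.zpowers z) (hw1 : w ≠ 1) (ht : t ∈ Subgroup.zpowers z) :
    ∃ i : ℕ, i < 3 ∧ w ^ i = t := by
  classical
  have hz1 : z ≠ 1 := by
    rintro rfl
    rw [Subgroup.zpowers_one_eq_bot, Subgroup.mem_bot] at hw
    exact hw1 hw
  have hzo : orderOf z = 3 := orderOf_eq_three hz3 hz1
  have hwo : orderOf w = 3 := orderOf_eq_three (pow_three_eq_one_of_mem_zpowers hz3 hw) hw1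
  have hle : Subgroup.zpowers w ≤ Subgroup.zpowers z := by
    rw [Subgroup.zpowers_le]; exact hw
  have hEq : Subgroup.zpowers w = Subgroup.zpowers z := by
    apply Subgroup.eq_of_le_of_card_ge hle
    rw [Nat.card_zpowers, Nat.card_zpowers, hzo, hwo]
  rw [← hEq] at ht
  rw [mem_zpowers_iff_mem_range_orderOf, hwo] at ht
  simp only [Finset.mem_image, Finset.mem_range] at ht
  obtain ⟨i, hi, hit⟩ := ht
  exact ⟨i, hi, hit⟩

theorem F_one_left (v : G) : F (1 : G) v = 1 := by unfold F; group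

theorem F_one_right (x : G) : F x (1 : G) = 1 := by unfold F; group

/-- Product formula for `F · v` (the commutator `[m, v]`) in the first variable. -/
theorem F_mul_left (a b v : G) : F (a * b) v = (a * F b v * a⁻¹) * F a v := by
  unfold F; group

theorem F_conj_left (x m v : G) : F (x * m * x⁻¹) v = x * F m (x⁻¹ * v * x) * x⁻¹ := by
  unfold F; group

/-- If the values `F m y` (`m ∈ M`) lie in a subgroup `⟨z⟩` of order three centralized by `M`, and
`F g y ≠ 1`, then every `a ∈ M` can be corrected by a power of `g` so as to centralize `y`. -/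
theorem exists_pow_F_eq_one [Finite G] (M : Subgroup G) (y z g : G) (hz3 : z ^ 3 = 1)
    (hzM : ∀ w ∈ Subgroup.zpowers z, ∀ m ∈ M, m * w = w * m)
    (hy : ∀ m ∈ M, F m y ∈ Subgroup.zpowers z) (hg : g ∈ M) (hyg : F g y ≠ 1) :
    ∀ a ∈ M, ∃ i : ℕ, i < 3 ∧ F (a * g ^ i) y = 1 := by
  have hpow : ∀ i : ℕ, F (g ^ i) y = (F g y) ^ i := by
    intro i
    induction i with
    | zero => simp [F_one_left]
    | succ i ih =>
      rw [pow_succ', F_mul_left, ih]
      have h1 : (F g y) ^ i ∈ Subgroup.zpowers z := Subgroup.pow_mem _ (hy g hg) i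
      have h2 := hzM _ h1 g hg
      rw [h2, mul_inv_cancel_right, pow_succ]
  intro a ha
  have hta : (F a y)⁻¹ ∈ Subgroup.zpowers z := Subgroup.inv_mem _ (hy a ha)
  obtain ⟨i, hi, hit⟩ := exists_pow_eq_of_mem_zpowers hz3 (hy g hg) hyg hta
  refine ⟨i, hi, ?_⟩
  rw [F_mul_left, hpow, hit]
  have h2 := hzM _ hta a ha
  rw [h2, mul_inv_cancel_right, inv_mul_cancel]

/-- A subgroup generated by a set stable under conjugation is normal. -/
theorem normal_closure_of_conj_mem (S : Set G)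
    (h : ∀ s ∈ S, ∀ r : G, r * s * r⁻¹ ∈ Subgroup.closure S) : (Subgroup.closure S).Normal := by
  constructor
  intro n hn r
  induction hn using Subgroup.closure_induction with
  | mem s hs => exact h s hs r
  | one => simp
  | mul a b _ _ iha ihb =>
    have : r * (a * b) * r⁻¹ = (r * a * r⁻¹) * (r * b * r⁻¹) := by group
    rw [this]; exact Subgroup.mul_mem _ iha ihb
  | inv a _ iha =>
    have : r * a⁻¹ * r⁻¹ = (r * a * r⁻¹)⁻¹ := by group
    rw [this]; exact Subgroup.inv_mem _ iha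

/-- `C ⊔ ⟨y⟩` is normal when `C` is normal and `y` is central modulo `C`. -/
theorem sup_zpowers_normal (C : Subgroup G) [hC : C.Normal] (y : G) (hy : ∀ r : G, ⁅y, r⁆ ∈ C) :
    (C ⊔ Subgroup.zpowers y).Normal := by
  have h1 : C ⊔ Subgroup.zpowers y = Subgroup.closure ((C : Set G) ∪ {y}) := by
    rw [Subgroup.closure_union, Subgroup.closure_eq, Subgroup.zpowers_eq_closure]
  rw [h1]
  apply normal_closure_of_conj_mem
  rintro s (hs | hs) r
  · exact Subgroup.subset_closure (Or.inl (hC.conj_mem s hs r))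
  · rw [Set.mem_singleton_iff] at hs
    subst hs
    have h2 : r * s * r⁻¹ = (⁅s, r⁆)⁻¹ * s := by rw [commutatorElement_def]; group
    rw [h2]
    exact Subgroup.mul_mem _ (Subgroup.subset_closure (Or.inl (C.inv_mem (hy r))))
      (Subgroup.subset_closure (Or.inr rfl))

/-- `V ⊔ ⟨y⟩` is elementary abelian if `V` is and `y` of order three centralizes `V`. -/
theorem sup_zpowers_elemAb (V : Subgroup G) (y : G) (hab : ∀ a ∈ V, ∀ b ∈ V, a * b = b * a)
    (hexp : ∀ v ∈ V, v ^ 3 = 1) (hy : ∀ v ∈ V, y * v = v * y) (hy3 : y ^ 3 = 1) :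
    (∀ a ∈ V ⊔ Subgroup.zpowers y, ∀ b ∈ V ⊔ Subgroup.zpowers y, a * b = b * a) ∧
      ∀ a ∈ V ⊔ Subgroup.zpowers y, a ^ 3 = 1 := by
  have h1 : V ⊔ Subgroup.zpowers y = Subgroup.closure ((V : Set G) ∪ {y}) := by
    rw [Subgroup.closure_union, Subgroup.closure_eq, Subgroup.zpowers_eq_closure]
  have hS : ∀ s ∈ ((V : Set G) ∪ {y}), ∀ t ∈ ((V : Set G) ∪ {y}), s * t = t * s := by
    rintro s (hs | hs) t (ht | ht)
    · exact hab s hs t ht
    · rw [Set.mem_singleton_iff] at ht; subst ht; exact (hy s hs).symm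
    · rw [Set.mem_singleton_iff] at hs; subst hs; exact hy t ht
    · rw [Set.mem_singleton_iff] at hs ht; subst hs; subst ht; rfl
  have hcomm := Subgroup.isMulCommutative_closure hS
  have hab' : ∀ a ∈ Subgroup.closure ((V : Set G) ∪ {y}),
      ∀ b ∈ Subgroup.closure ((V : Set G) ∪ {y}), a * b = b * a := by
    intro a ha b hb
    exact congrArg Subtype.val (hcomm.is_comm.comm ⟨a, ha⟩ ⟨b, hb⟩)
  rw [h1]
  refine ⟨hab', ?_⟩
  intro a ha
  induction ha using Subgroup.closure_induction with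
  | mem s hs =>
    rcases hs with hs | hs
    · exact hexp s hs
    · rw [Set.mem_singleton_iff] at hs; subst hs; exact hy3
  | one => simp
  | mul a b ha hb iha ihb =>
    have : (a * b) ^ 3 = a ^ 3 * b ^ 3 := (Commute.mul_pow (hab' a ha b hb) 3)
    rw [this, iha, ihb, one_mul]
  | inv a _ iha => rw [inv_pow, iha, inv_one]

end general

/-! ### The configuration -/

/-- The basic configuration: `G = M⟨x⟩`. -/
structure Cfg (G : Type u) [Group G] : Type u where
  M : Subgroup G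
  x : G
  c : G
  U : Subgroup G
  hG : IsPGroup 3 G
  hMn : M.Normal
  hMi : M.index = 3
  hx3 : x ^ 3 = 1
  hxM : x ∉ M
  hcM : c ∈ M
  hcx : c * x = x * c
  hcyc : ∀ m ∈ M, m * x = x * m → m ∈ Subgroup.zpowers c
  hUn : U.Normal
  hUM : U ≤ M
  hUcard : Nat.card ↥U = 9
  hUexp : ∀ u ∈ U, u ^ 3 = 1
  hUc : ∀ u ∈ U, ∀ m ∈ M, u * m = m * u

namespace Cfg

variable {G : Type u} [Group G] [Finite G] (D : Cfg G)

theorem card_fixed_le (S : Subgroup G) (hS : S ≤ D.M) (hexp : ∀ s ∈ S, s ^ 3 = 1)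
    (hfix : ∀ s ∈ S, D.x * s = s * D.x) : Nat.card ↥S ≤ 3 :=
  card_le_three_of_le_zpowers D.c S (fun s hs => D.hcyc s (hS hs) (hfix s hs).symm) hexp

theorem xact (W : Subgroup G) (hW : W ≤ D.M) (hab : ∀ a ∈ W, ∀ b ∈ W, a * b = b * a)
    (hexp : ∀ w ∈ W, w ^ 3 = 1) (hinv : ∀ w ∈ W, D.x * w * D.x⁻¹ ∈ W) : XAct D.x W :=
  ⟨D.hx3, hab, hexp, hinv, fun S hSW hfix =>
    D.card_fixed_le S (hSW.trans hW) (fun s hs => hexp s (hSW hs)) hfix⟩

/-- `G = M ∪ Mx ∪ Mx²`. -/
theorem cov (r : G) : ∃ i : ℕ, i < 3 ∧ r * D.x ^ i ∈ D.M := by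
  classical
  haveI := D.hMn
  haveI : Fact (Nat.Prime 3) := ⟨by norm_num⟩
  have hcard : Nat.card (G ⧸ D.M) = 3 := by rw [← Subgroup.index_eq_card]; exact D.hMi
  have hx1 : ((D.x : G) : G ⧸ D.M) ≠ 1 := by
    rw [Ne, QuotientGroup.eq_one_iff]; exact D.hxM
  have hx3 : ((D.x : G) : G ⧸ D.M) ^ 3 = 1 := by
    rw [← QuotientGroup.mk_pow, D.hx3]; rfl
  have hord := orderOf_eq_three hx3 hx1
  have htop := zpowers_eq_top_of_prime_card hcard hx1
  have hmem : ((r : G) : G ⧸ D.M)⁻¹ ∈ Subgroup.zpowers ((D.x : G) : G ⧸ D.M) := by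
    rw [htop]; trivial
  rw [mem_zpowers_iff_mem_range_orderOf, hord] at hmem
  simp only [Finset.mem_image, Finset.mem_range] at hmem
  obtain ⟨i, hi, hit⟩ := hmem
  refine ⟨i, hi, ?_⟩
  rw [← QuotientGroup.eq_one_iff, QuotientGroup.mk_mul, QuotientGroup.mk_pow, hit]
  simp

theorem x_not_comm_U : ¬ ∀ u ∈ D.U, D.x * u = u * D.x := by
  intro h
  have := D.card_fixed_le D.U D.hUM D.hUexp h
  rw [D.hUcard] at this
  omega

/-- `C_G(U) = M`. -/
theorem mem_M_of_comm_U {r : G} (h : ∀ u ∈ D.U, r * u = u * r) : r ∈ D.M := by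
  obtain ⟨i, hi, hm⟩ := D.cov r
  -- `x ^ i` centralizes `U`
  have ht : ∀ u ∈ D.U, D.x ^ i * u = u * D.x ^ i := by
    intro u hu
    have h1 := D.hUc u hu _ hm
    have h2 := h u hu
    have h3 : r⁻¹ * u = u * r⁻¹ := by
      calc r⁻¹ * u = r⁻¹ * (u * r) * r⁻¹ := by group
        _ = r⁻¹ * (r * u) * r⁻¹ := by rw [h2]
        _ = u * r⁻¹ := by group
    calc D.x ^ i * u = r⁻¹ * ((r * D.x ^ i) * u) := by group
      _ = r⁻¹ * (u * (r * D.x ^ i)) := by rw [h1]
      _ = (r⁻¹ * u) * (r * D.x ^ i) := by group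
      _ = (u * r⁻¹) * (r * D.x ^ i) := by rw [h3]
      _ = u * D.x ^ i := by group
  interval_cases i
  · simpa using hm
  · exfalso
    apply D.x_not_comm_U
    intro u hu
    simpa using ht u hu
  · exfalso
    apply D.x_not_comm_U
    intro u hu
    have h4 : D.x = D.x ^ 2 * D.x ^ 2 := by
      calc D.x = D.x ^ 3 * D.x := by rw [D.hx3, one_mul]
        _ = D.x ^ 2 * D.x ^ 2 := by group
    have h5 := ht u hu
    calc D.x * u = D.x ^ 2 * (D.x ^ 2 * u) := by rw [← mul_assoc, ← h4]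
      _ = D.x ^ 2 * (u * D.x ^ 2) := by rw [h5]
      _ = (D.x ^ 2 * u) * D.x ^ 2 := by group
      _ = (u * D.x ^ 2) * D.x ^ 2 := by rw [h5]
      _ = u * (D.x ^ 2 * D.x ^ 2) := by group
      _ = u * D.x := by rw [← h4]

/-- The fixed points of `x` on `V`. -/
def Z (V : Subgroup G) : Subgroup G := V ⊓ Subgroup.centralizer {D.x}

theorem mem_Z_iff {V : Subgroup G} {z : G} : z ∈ D.Z V ↔ z ∈ V ∧ D.x * z = z * D.x := by
  unfold Z
  rw [Subgroup.mem_inf, Subgroup.mem_centralizer_singleton_iff]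
  constructor
  · rintro ⟨h1, h2⟩; exact ⟨h1, h2.symm⟩
  · rintro ⟨h1, h2⟩; exact ⟨h1, h2.symm⟩

end Cfg

/-- `V` is a normal elementary abelian subgroup of order 27 between `U` and `M`. -/
structure VD {G : Type u} [Group G] (D : Cfg G) (V : Subgroup G) : Prop where
  hVn : V.Normal
  hUV : D.U ≤ V
  hVM : V ≤ D.M
  hVcard : Nat.card ↥V = 27
  hVexp : ∀ v ∈ V, v ^ 3 = 1
  hVab : ∀ a ∈ V, ∀ b ∈ V, a * b = b * a

namespace VD

variable {G : Type u} [Group G] [Finite G] {D : Cfg G} {V : Subgroup G} (hV : VD D V)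

include hV

theorem xact : XAct D.x V :=
  D.xact V hV.hVM hV.hVab hV.hVexp (fun v hv => hV.hVn.conj_mem v hv D.x)

theorem card_Z : Nat.card ↥(D.Z V) = 3 := hV.xact.card_fix hV.hVcard

theorem U_inv : ∀ u ∈ D.U, D.x * u * D.x⁻¹ ∈ D.U := fun u hu => D.hUn.conj_mem u hu D.x

theorem FF_of_mem_U {u : G} (hu : u ∈ D.U) : F D.x (F D.x u) = 1 :=
  hV.xact.FF_of_mem hV.hUV D.hUcard hV.U_inv hu

theorem mem_U_of_FF {v : G} (hv : v ∈ V) (h2 : F D.x (F D.x v) = 1) : v ∈ D.U :=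
  hV.xact.mem_of_FF hV.hVcard hV.hUV D.hUcard hV.U_inv hv h2

theorem F_mem_U {v : G} (hv : v ∈ V) : F D.x v ∈ D.U :=
  hV.mem_U_of_FF (hV.xact.F_mem hv) (hV.xact.F_cube hv)

theorem F_mem_Z {u : G} (hu : u ∈ D.U) : F D.x u ∈ D.Z V := by
  rw [Cfg.mem_Z_iff]
  exact ⟨hV.xact.F_mem (hV.hUV hu), (F_eq_one_iff _ _).mp (hV.FF_of_mem_U hu)⟩

theorem Z_le_U : D.Z V ≤ D.U := by
  intro z hz
  rw [Cfg.mem_Z_iff] at hz
  apply hV.mem_U_of_FF hz.1
  rw [(F_eq_one_iff _ _).mpr hz.2, F_one_right]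

theorem Z_le_V : D.Z V ≤ V := fun z hz => ((Cfg.mem_Z_iff D).mp hz).1

theorem exists_F_eq {u : G} (hu : u ∈ D.U) : ∃ v ∈ V, F D.x v = u :=
  hV.xact.exists_F_eq hV.hVcard (hV.hUV hu) (hV.FF_of_mem_U hu)

theorem pow_three_Z {z : G} (hz : z ∈ D.Z V) : z ^ 3 = 1 := hV.hVexp z (hV.Z_le_V hz)

/-- Elements of `Z` are central in `G`. -/
theorem Z_central {z : G} (hz : z ∈ D.Z V) (r : G) : z * r = r * z := by
  obtain ⟨i, hi, hm⟩ := D.cov r
  have h1 := D.hUc z (hV.Z_le_U hz) _ hm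
  have h2 : D.x * z = z * D.x := ((Cfg.mem_Z_iff D).mp hz).2
  have h3 : D.x ^ i * z = z * D.x ^ i := by
    have : Commute D.x z := h2
    exact (this.pow_left i)
  have h4 : (D.x ^ i)⁻¹ * z = z * (D.x ^ i)⁻¹ := by
    calc (D.x ^ i)⁻¹ * z = (D.x ^ i)⁻¹ * (z * D.x ^ i) * (D.x ^ i)⁻¹ := by group
      _ = (D.x ^ i)⁻¹ * (D.x ^ i * z) * (D.x ^ i)⁻¹ := by rw [h3]
      _ = z * (D.x ^ i)⁻¹ := by group
  calc z * r = (z * (r * D.x ^ i)) * (D.x ^ i)⁻¹ := by group
    _ = ((r * D.x ^ i) * z) * (D.x ^ i)⁻¹ := by rw [h1]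
    _ = (r * D.x ^ i) * (z * (D.x ^ i)⁻¹) := by group
    _ = (r * D.x ^ i) * ((D.x ^ i)⁻¹ * z) := by rw [h4]
    _ = r * z := by group

/-- Step (1): the elements of order three of `C_G(V)` lie in `V`. -/
theorem mem_V_of_centralizes {t : G} (ht : ∀ v ∈ V, t * v = v * t) (ht3 : t ^ 3 = 1) : t ∈ V := by
  by_contra htV
  have := hV.hVn
  have : Fact (Nat.Prime 3) := ⟨by norm_num⟩
  have hCab : V ≤ Subgroup.centralizer (V : Set G) := by
    intro a ha
    rw [Subgroup.mem_centralizer_iff]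
    intro b hb
    exact hV.hVab b hb a ha
  have htT : t ∈ Subgroup.centralizer (V : Set G) := by
    rw [Subgroup.mem_centralizer_iff]
    intro v hv
    exact (ht v hv).symm
  obtain ⟨y, hyT, hyV, hy3, hyc⟩ := Cfsg.Agent.Lib.Helper24.normal_replacement 3 (by norm_num)
    D.hG V hV.hVexp hCab t htT htV ht3
  have hyV' : ∀ v ∈ V, y * v = v * y := by
    intro v hv
    exact (Subgroup.mem_centralizer_iff.mp hyT v hv).symm
  obtain ⟨hab, hexp⟩ := sup_zpowers_elemAb V y hV.hVab hV.hVexp hyV' hy3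
  have hWn : (V ⊔ Subgroup.zpowers y).Normal := sup_zpowers_normal V y hyc
  have hyM : y ∈ D.M := D.mem_M_of_comm_U (fun u hu => hyV' u (hV.hUV hu))
  have hWM : V ⊔ Subgroup.zpowers y ≤ D.M :=
    sup_le hV.hVM (by rw [Subgroup.zpowers_le]; exact hyM)
  have hX : XAct D.x (V ⊔ Subgroup.zpowers y) :=
    D.xact _ hWM hab hexp (fun w hw => hWn.conj_mem w hw D.x)
  have hcard := hX.card_le
  have hlt : V < V ⊔ Subgroup.zpowers y := by
    refine lt_of_le_of_ne le_sup_left ?_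
    intro h
    apply hyV
    rw [h]
    exact (le_sup_right : Subgroup.zpowers y ≤ _) (Subgroup.mem_zpowers y)
  have := card_lt_of_lt hlt
  rw [hV.hVcard] at this
  omega

end VD

end Cfsg.Agent.Lib.Helper30.MaxE9
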