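import Mathlib
import Cfsg.Agent.Lib.Helper30.MaxE9Cfg

/-!
# The central-type configuration (helper30)

`Star D V g`: `g ∈ M` of order three acts on `V` with `[V, g] ≤ Z = C_V(x)` but not trivially, and
`M` is generated by `V` and the `x`-conjugates of `g`.  First consequences.
-/

set_option autoImplicit false
set_option linter.unusedSectionVars false
set_option linter.unusedVariables false

open scoped commutatorElement

namespace Cfsg.Agent.Lib.Helper30.MaxE9

universe u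

/-- the generating set -/
def genSet {G : Type u} [Group G] (D : Cfg G) (V : Subgroup G) (g : G) : Set G :=
  (V : Set G) ∪ {g, D.x * g * D.x⁻¹, D.x * (D.x * g * D.x⁻¹) * D.x⁻¹}

structure Star {G : Type u} [Group G] (D : Cfg G) (V : Subgroup G) (g : G) : Prop where
  hV : VD D V
  hgM : g ∈ D.M
  hg3 : g ^ 3 = 1
  hct : ∀ v ∈ V, F g v ∈ D.Z V
  hgen : D.M = Subgroup.closure (genSet D V g)
  hnc : ¬ ∀ v ∈ V, g * v = v * g

namespace Star

variable {G : Type u} [Group G] [Finite G] {D : Cfg G} {V : Subgroup G} {g : G} (S : Star D V g)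

include S

theorem conj_mem_V {v : G} (hv : v ∈ V) (r : G) : r * v * r⁻¹ ∈ V := S.hV.hVn.conj_mem v hv r

theorem conj_mem_V' {v : G} (hv : v ∈ V) (r : G) : r⁻¹ * v * r ∈ V := by
  have := S.hV.hVn.conj_mem v hv r⁻¹
  rwa [inv_inv] at this

theorem conj_Z {z : G} (hz : z ∈ D.Z V) (r : G) : r * z * r⁻¹ = z := by
  rw [← S.hV.Z_central hz r, mul_inv_cancel_right]

/-- the central type property is stable under conjugation by `x` -/
theorem ct_conj {m : G} (hm : ∀ v ∈ V, F m v ∈ D.Z V) :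
    ∀ v ∈ V, F (D.x * m * D.x⁻¹) v ∈ D.Z V := by
  intro v hv
  rw [F_conj_left]
  have h1 := hm _ (S.conj_mem_V' hv D.x)
  rw [S.conj_Z h1]
  exact h1

/-- every element of `M` is of central type -/
theorem ctM : ∀ m ∈ D.M, ∀ v ∈ V, F m v ∈ D.Z V := by
  intro m hm
  rw [S.hgen] at hm
  induction hm using Subgroup.closure_induction with
  | mem s hs =>
    rcases hs with hs | hs | hs | hs
    · intro v hv
      have : F s v = 1 := by
        rw [F_eq_one_iff]; exact S.hV.hVab s hs v hv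
      rw [this]; exact Subgroup.one_mem _
    · rw [hs]; exact S.hct
    · rw [hs]; exact S.ct_conj S.hct
    · rw [Set.mem_singleton_iff] at hs
      rw [hs]; exact S.ct_conj (S.ct_conj S.hct)
  | one =>
    intro v _
    rw [F_one_left]; exact Subgroup.one_mem _
  | mul a b _ _ iha ihb =>
    intro v hv
    rw [F_mul_left, S.conj_Z (ihb v hv)]
    exact Subgroup.mul_mem _ (ihb v hv) (iha v hv)
  | inv a _ iha =>
    intro v hv
    have e : F a⁻¹ v = a⁻¹ * (F a v)⁻¹ * a := by unfold F; group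
    have h1 : (F a v)⁻¹ ∈ D.Z V := Subgroup.inv_mem _ (iha v hv)
    have h2 := S.conj_Z h1 a⁻¹
    rw [inv_inv] at h2
    rw [e, h2]
    exact h1

/-- `C = C_M(V)`. -/
def C (D : Cfg G) (V : Subgroup G) : Subgroup G := D.M ⊓ Subgroup.centralizer (V : Set G)

omit S [Finite G] in
theorem mem_C_iff {m : G} : m ∈ C D V ↔ m ∈ D.M ∧ ∀ v ∈ V, m * v = v * m := by
  unfold C
  rw [Subgroup.mem_inf, Subgroup.mem_centralizer_iff]
  constructor
  · rintro ⟨h1, h2⟩; exact ⟨h1, fun v hv => (h2 v hv).symm⟩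
  · rintro ⟨h1, h2⟩; exact ⟨h1, fun v hv => (h2 v hv).symm⟩

theorem C_normal : (C D V).Normal := by
  have := S.hV.hVn
  have := D.hMn
  unfold C
  infer_instance

theorem V_le_C : V ≤ C D V := fun v hv =>
  mem_C_iff.mpr ⟨S.hV.hVM hv, fun w hw => S.hV.hVab v hv w hw⟩

theorem C_le_M : C D V ≤ D.M := inf_le_left

theorem g_not_mem_C : g ∉ C D V := fun h => S.hnc (mem_C_iff.mp h).2

/-- the elements of order three of `C` lie in `V` -/
theorem mem_V_of_mem_C {t : G} (ht : t ∈ C D V) (ht3 : t ^ 3 = 1) : t ∈ V :=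
  S.hV.mem_V_of_centralizes (mem_C_iff.mp ht).2 ht3

/-- There is `y ∈ V` not centralized by `g`; then `V = U ⊔ ⟨y⟩`. -/
theorem exists_y : ∃ y ∈ V, F g y ≠ 1 ∧ y ∉ D.U ∧ D.U ⊔ Subgroup.zpowers y = V := by
  have h := S.hnc
  push Not at h
  obtain ⟨y, hy, hgy⟩ := h
  have hF : F g y ≠ 1 := fun h1 => hgy ((F_eq_one_iff g y).mp h1)
  have hyU : y ∉ D.U := fun hyU => hgy (D.hUc y hyU g S.hgM).symm
  refine ⟨y, hy, hF, hyU, ?_⟩
  have hle : D.U ⊔ Subgroup.zpowers y ≤ V :=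
    sup_le S.hV.hUV (by rw [Subgroup.zpowers_le]; exact hy)
  have hlt : D.U < D.U ⊔ Subgroup.zpowers y := by
    refine lt_of_le_of_ne le_sup_left ?_
    intro h
    apply hyU
    rw [h]
    exact (le_sup_right : Subgroup.zpowers y ≤ _) (Subgroup.mem_zpowers y)
  have h1 := card_lt_of_lt hlt
  rw [D.hUcard] at h1
  have h2 : Nat.card ↥(D.U ⊔ Subgroup.zpowers y : Subgroup G) ∣ 27 := by
    rw [← S.hV.hVcard]; exact Subgroup.card_dvd_of_le hle
  apply Subgroup.eq_of_le_of_card_ge hle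
  rw [S.hV.hVcard]
  generalize Nat.card ↥(D.U ⊔ Subgroup.zpowers y : Subgroup G) = n at h1 h2
  have h3 : n ≤ 27 := Nat.le_of_dvd (by norm_num) h2
  interval_cases n <;> omega

/-- `M = C ∪ Cg ∪ Cg²`. -/
theorem cov_C : ∀ a ∈ D.M, ∃ i : ℕ, i < 3 ∧ a * g ^ i ∈ C D V := by
  obtain ⟨y, hy, hF, hyU, hUy⟩ := S.exists_y
  have hzZ : F g y ∈ D.Z V := S.hct y hy
  have hz3 : (F g y) ^ 3 = 1 := S.hV.pow_three_Z hzZ
  have hcardZ := S.hV.card_Z
  -- `Z = ⟨F g y⟩`
  have hZeq : Subgroup.zpowers (F g y) = D.Z V := by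
    apply Subgroup.eq_of_le_of_card_ge
    · rw [Subgroup.zpowers_le]; exact hzZ
    · rw [hcardZ, Nat.card_zpowers, orderOf_eq_three hz3 hF]
  have h1 : ∀ w ∈ Subgroup.zpowers (F g y), ∀ m ∈ D.M, m * w = w * m := by
    intro w hw m _
    rw [hZeq] at hw
    exact (S.hV.Z_central hw m).symm
  have h2 : ∀ m ∈ D.M, F m y ∈ Subgroup.zpowers (F g y) := by
    intro m hm
    rw [hZeq]; exact S.ctM m hm y hy
  intro a ha
  obtain ⟨i, hi, hai⟩ := exists_pow_F_eq_one D.M y (F g y) g hz3 h1 h2 S.hgM hF a ha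
  refine ⟨i, hi, ?_⟩
  have hM : a * g ^ i ∈ D.M := D.M.mul_mem ha (D.M.pow_mem S.hgM i)
  rw [mem_C_iff]
  refine ⟨hM, ?_⟩
  have hcomm_y : (a * g ^ i) * y = y * (a * g ^ i) := (F_eq_one_iff _ _).mp hai
  -- the centralizer of `a g^i` contains `U` and `y`
  have hle : V ≤ Subgroup.centralizer ({a * g ^ i} : Set G) := by
    rw [← hUy]
    apply sup_le
    · intro u hu
      rw [Subgroup.mem_centralizer_singleton_iff]
      exact D.hUc u hu _ hM
    · rw [Subgroup.zpowers_le, Subgroup.mem_centralizer_singleton_iff]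
      exact hcomm_y.symm
  intro v hv
  have := hle hv
  rw [Subgroup.mem_centralizer_singleton_iff] at this
  exact this.symm

/-- `M = C ⊔ ⟨g⟩`. -/
theorem M_le_sup : D.M ≤ C D V ⊔ Subgroup.zpowers g := by
  intro a ha
  obtain ⟨i, -, hai⟩ := S.cov_C a ha
  have : a = (a * g ^ i) * (g ^ i)⁻¹ := by group
  rw [this]
  exact Subgroup.mul_mem _ ((le_sup_left : C D V ≤ _) hai)
    (Subgroup.inv_mem _ (Subgroup.pow_mem _ ((le_sup_right : Subgroup.zpowers g ≤ _)
      (Subgroup.mem_zpowers g)) i))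

/-- The "Aut(C₃)" argument: `x` acts trivially on `M / H`. -/
theorem F_x_g_mem (H : Subgroup G) [hH : H.Normal] (hgH : g ∉ H)
    (hcov : ∃ i : ℕ, i < 3 ∧ (D.x * g * D.x⁻¹) * g ^ i ∈ H) : F D.x g ∈ H := by
  obtain ⟨i, hi, h⟩ := hcov
  have hx3 := mul_self_mul_eq_one D.hx3
  have hg3' : g * g * g = 1 := mul_self_mul_eq_one S.hg3
  interval_cases i
  · exfalso
    apply hgH
    simp only [pow_zero, mul_one] at h
    have := hH.conj_mem _ h D.x⁻¹
    have e : D.x⁻¹ * (D.x * g * D.x⁻¹) * D.x⁻¹⁻¹ = g := by group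
    rwa [e] at this
  · exfalso
    apply hgH
    simp only [pow_one] at h
    -- work in the quotient
    set a := D.x * g * D.x⁻¹ with ha
    set b := D.x * a * D.x⁻¹ with hb
    have h1 : ((a * g : G) : G ⧸ H) = 1 := (QuotientGroup.eq_one_iff _).mpr h
    have h2 : ((b * a : G) : G ⧸ H) = 1 := by
      rw [QuotientGroup.eq_one_iff]
      have := hH.conj_mem _ h D.x
      have e : D.x * (a * g) * D.x⁻¹ = b * a := by rw [hb, ha]; group
      rwa [e] at this
    have h3 : ((g * b : G) : G ⧸ H) = 1 := by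
      rw [QuotientGroup.eq_one_iff]
      have h2' := (QuotientGroup.eq_one_iff _).mp h2
      have := hH.conj_mem _ h2' D.x
      have e : D.x * (b * a) * D.x⁻¹ = g * b := by
        have e1 : D.x * b * D.x⁻¹ = g := by
          calc D.x * b * D.x⁻¹ = (D.x * D.x * D.x) * g * (D.x * D.x * D.x)⁻¹ := by
                rw [hb, ha]; group
            _ = g := by rw [hx3]; group
        calc D.x * (b * a) * D.x⁻¹ = (D.x * b * D.x⁻¹) * (D.x * a * D.x⁻¹) := by group
          _ = g * b := by rw [e1]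
      rwa [e] at this
    rw [QuotientGroup.mk_mul] at h1 h2 h3
    have e1 : ((a : G) : G ⧸ H) = ((g : G) : G ⧸ H)⁻¹ := eq_inv_of_mul_eq_one_left h1
    have e2 : ((b : G) : G ⧸ H) = ((a : G) : G ⧸ H)⁻¹ := eq_inv_of_mul_eq_one_left h2
    rw [e2, e1, inv_inv] at h3
    have e3 : ((g : G) : G ⧸ H) * ((g : G) : G ⧸ H) * ((g : G) : G ⧸ H) = 1 := by
      rw [← QuotientGroup.mk_mul, ← QuotientGroup.mk_mul, hg3']; rfl
    rw [h3, one_mul] at e3
    exact (QuotientGroup.eq_one_iff _).mp e3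
  · have e : F D.x g = (D.x * g * D.x⁻¹) * g ^ 2 := by
      have : g⁻¹ = g ^ 2 := by
        rw [pow_two]
        exact inv_eq_of_mul_eq_one_right (by rw [← mul_assoc]; exact hg3')
      unfold F
      rw [this]
    rw [e]; exact h

/-- Uniqueness of the `x`-invariant maximal subgroup of `M` over `V`. -/
theorem unique_max (H K : Subgroup G) [hH : H.Normal] [hK : K.Normal] (hVH : V ≤ H) (hVK : V ≤ K)
    (hgH : g ∉ H) (hgK : g ∉ K) (hHM : H ≤ D.M) (hxH : F D.x g ∈ H) (hxK : F D.x g ∈ K) :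
    H ≤ K := by
  have hg3' : g * g * g = 1 := mul_self_mul_eq_one S.hg3
  have hDn : (H ⊓ K).Normal := inferInstance
  -- all generators lie in `(H ⊓ K) ⊔ ⟨g⟩`
  have hgE : g ∈ (H ⊓ K) ⊔ Subgroup.zpowers g :=
    (le_sup_right : Subgroup.zpowers g ≤ _) (Subgroup.mem_zpowers g)
  have hD : F D.x g ∈ H ⊓ K := ⟨hxH, hxK⟩
  have ha : D.x * g * D.x⁻¹ ∈ (H ⊓ K) ⊔ Subgroup.zpowers g := by
    rw [conj_eq_F_mul]
    exact Subgroup.mul_mem _ ((le_sup_left : H ⊓ K ≤ _) hD) hgE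
  have hb : D.x * (D.x * g * D.x⁻¹) * D.x⁻¹ ∈ (H ⊓ K) ⊔ Subgroup.zpowers g := by
    have e : D.x * (D.x * g * D.x⁻¹) * D.x⁻¹ = (D.x * F D.x g * D.x⁻¹) * (F D.x g * g) := by
      unfold F; group
    rw [e]
    exact Subgroup.mul_mem _ ((le_sup_left : H ⊓ K ≤ _) (hDn.conj_mem _ hD D.x))
      (Subgroup.mul_mem _ ((le_sup_left : H ⊓ K ≤ _) hD) hgE)
  have hM : D.M ≤ (H ⊓ K) ⊔ Subgroup.zpowers g := by
    rw [S.hgen, Subgroup.closure_le]
    rintro s (hs | hs | hs | hs)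
    · exact (le_sup_left : H ⊓ K ≤ _) ⟨hVH hs, hVK hs⟩
    · rw [hs]; exact hgE
    · rw [hs]; exact ha
    · rw [Set.mem_singleton_iff] at hs; rw [hs]; exact hb
  intro h hh
  have h1 := hM (hHM hh)
  rw [Subgroup.mem_sup_of_normal_left] at h1
  obtain ⟨d, hd, k, hk, rfl⟩ := h1
  -- `k ∈ ⟨g⟩ ∩ H` is trivial
  have hkH : k ∈ H := by
    have : k = d⁻¹ * (d * k) := by group
    rw [this]; exact H.mul_mem (H.inv_mem hd.1) hh
  have hk1 : k = 1 := by
    by_contra hne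
    apply hgH
    -- `g` is a power of `k`
    have hgz : g ∈ Subgroup.zpowers g := Subgroup.mem_zpowers g
    obtain ⟨i, -, hi⟩ := exists_pow_eq_of_mem_zpowers S.hg3 hk hne hgz
    rw [← hi]; exact H.pow_mem hkH i
  rw [hk1, mul_one]
  exact hd.2

theorem unique_max_eq (H K : Subgroup G) [hH : H.Normal] [hK : K.Normal] (hVH : V ≤ H) (hVK : V ≤ K)
    (hgH : g ∉ H) (hgK : g ∉ K) (hHM : H ≤ D.M) (hKM : K ≤ D.M) (hxH : F D.x g ∈ H)
    (hxK : F D.x g ∈ K) : H = K :=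
  le_antisymm (S.unique_max H K hVH hVK hgH hgK hHM hxH hxK)
    (S.unique_max K H hVK hVH hgK hgH hKM hxK hxH)

/-- `[x, g] ∈ C`. -/
theorem F_x_g_mem_C : F D.x g ∈ C D V := by
  have := S.C_normal
  apply S.F_x_g_mem (C D V) S.g_not_mem_C
  exact S.cov_C _ (D.hMn.conj_mem g S.hgM D.x)

end Star

end Cfsg.Agent.Lib.Helper30.MaxE9
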