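import Mathlib
import Cfsg.Agent.Lib.Helper30.MaxE9Star
import Cfsg.Agent.Lib.Helper24.PGroupBasic
import Cfsg.Agent.Lib.Helper45.NormalEpp

/-!
# The quotient of a configuration by `V` (helper30)

General lemmas, the configuration induced on `G ⧸ V`, and the element `z₁`.
-/

set_option autoImplicit false
set_option linter.unusedSectionVars false
set_option linter.unusedVariables false

open scoped commutatorElement

namespace Cfsg.Agent.Lib.Helper30.MaxE9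

universe u

/-! ### General lemmas -/

section general

variable {G : Type*} [Group G]

theorem map_F {H : Type*} [Group H] (f : G →* H) (x v : G) : f (F x v) = F (f x) (f v) := by
  unfold F; simp

theorem F_mul_right (m v w : G) : F m (v * w) = F m v * (v * F m w * v⁻¹) := by
  unfold F; group

theorem F_inv_right (m v : G) : F m v⁻¹ = v⁻¹ * (F m v)⁻¹ * v := by
  unfold F; group

theorem F_eq_commutator (m v : G) : F m v = ⁅m, v⁆ := by
  unfold F; rw [commutatorElement_def]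

theorem comm_of_conj_eq {x k : G} (h : x * k * x⁻¹ = k) : k * x = x * k := by
  calc k * x = (x * k * x⁻¹) * x := by rw [h]
    _ = x * k := by group

/-- the cube of a product in class two with commutator of exponent three -/
theorem cube_mul {a b t : G} (ht : b * a = t * a * b) (hta : Commute t a) (htb : Commute t b)
    (ht3 : t ^ 3 = 1) : (a * b) ^ 3 = a ^ 3 * b ^ 3 := by
  have h := Cfsg.Agent.Lib.Helper24.mul_pow_of_central_comm a b t ht hta htb 3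
  have h3 : Nat.choose 3 2 = 3 := by decide
  rw [h3, ht3, mul_one] at h
  exact h

theorem sup_zpowers_eq_closure (V : Subgroup G) (y : G) :
    V ⊔ Subgroup.zpowers y = Subgroup.closure ((V : Set G) ∪ {y}) := by
  rw [Subgroup.closure_union, Subgroup.closure_eq, Subgroup.zpowers_eq_closure]

/-- `V ⊔ ⟨y⟩` is abelian if `V` is and `y` centralizes `V`. -/
theorem sup_zpowers_comm (V : Subgroup G) (y : G) (hab : ∀ a ∈ V, ∀ b ∈ V, a * b = b * a)
    (hy : ∀ v ∈ V, y * v = v * y) :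
    ∀ a ∈ V ⊔ Subgroup.zpowers y, ∀ b ∈ V ⊔ Subgroup.zpowers y, a * b = b * a := by
  have hS : ∀ s ∈ ((V : Set G) ∪ {y}), ∀ t ∈ ((V : Set G) ∪ {y}), s * t = t * s := by
    rintro s (hs | hs) t (ht | ht)
    · exact hab s hs t ht
    · rw [Set.mem_singleton_iff] at ht; subst ht; exact (hy s hs).symm
    · rw [Set.mem_singleton_iff] at hs; subst hs; exact hy t ht
    · rw [Set.mem_singleton_iff] at hs ht; subst hs; subst ht; rfl
  have hcomm := Subgroup.isMulCommutative_closure hS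
  rw [sup_zpowers_eq_closure]
  intro a ha b hb
  exact congrArg Subtype.val (hcomm.is_comm.comm ⟨a, ha⟩ ⟨b, hb⟩)

/-- `|A ⊔ ⟨y⟩| = 3 |A|` when `A` is normal, `y ^ 3 = 1` and `y ∉ A`. -/
theorem card_sup_zpowers [Finite G] (A : Subgroup G) [hA : A.Normal] {y : G} (hy3 : y ^ 3 = 1)
    (hyA : y ∉ A) : Nat.card ↥(A ⊔ Subgroup.zpowers y : Subgroup G) = 3 * Nat.card ↥A := by
  have hy1 : y ≠ 1 := fun h => hyA (h ▸ A.one_mem)
  have hord : orderOf y = 3 := orderOf_eq_three hy3 hy1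
  have hcz : Nat.card ↥(Subgroup.zpowers y) = 3 := by rw [Nat.card_zpowers, hord]
  have h1 := card_inf_mul_relIndex A (A ⊔ Subgroup.zpowers y)
  rw [inf_of_le_left (le_sup_left : A ≤ A ⊔ Subgroup.zpowers y)] at h1
  have h2 : A.relIndex (A ⊔ Subgroup.zpowers y) = A.relIndex (Subgroup.zpowers y) :=
    Subgroup.relIndex_sup_left (Subgroup.zpowers y) A
  have h3 := card_inf_mul_relIndex A (Subgroup.zpowers y)
  rw [hcz] at h3
  have h4 : Nat.card ↥(A ⊓ Subgroup.zpowers y : Subgroup G) ≠ 3 := by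
    intro h
    have : A ⊓ Subgroup.zpowers y = Subgroup.zpowers y :=
      Subgroup.eq_of_le_of_card_ge inf_le_right (by rw [h, hcz])
    apply hyA
    have h5 : y ∈ A ⊓ Subgroup.zpowers y := by rw [this]; exact Subgroup.mem_zpowers y
    exact h5.1
  have h6 : Nat.card ↥(A ⊓ Subgroup.zpowers y : Subgroup G) ∣ 3 := Dvd.intro _ h3
  have hp : Nat.Prime 3 := by norm_num
  rcases (Nat.dvd_prime hp).mp h6 with h7 | h7
  · rw [h7, one_mul] at h3
    rw [h2, h3] at h1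
    omega
  · exact absurd h7 h4

end general

/-! ### The quotient by `V` -/

section quot

variable {G : Type u} [Group G] [Finite G] {D : Cfg G} {V : Subgroup G} [hVn : V.Normal]

/-- the image of `M` in `G ⧸ V` -/
def Mq (D : Cfg G) (V : Subgroup G) [V.Normal] : Subgroup (G ⧸ V) :=
  D.M.map (QuotientGroup.mk' V)

theorem mk_mem_Mq_iff (hVM : V ≤ D.M) {m : G} :
    (QuotientGroup.mk' V m) ∈ Mq D V ↔ m ∈ D.M := by
  constructor
  · rintro ⟨m', hm', h⟩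
    have h1 : m'⁻¹ * m ∈ V := by
      rw [← QuotientGroup.eq_one_iff, QuotientGroup.mk_mul, QuotientGroup.mk_inv]
      have : ((m' : G) : G ⧸ V) = ((m : G) : G ⧸ V) := h
      rw [this]; simp
    have : m = m' * (m'⁻¹ * m) := by group
    rw [this]; exact D.M.mul_mem hm' (hVM h1)
  · intro hm; exact ⟨m, hm, rfl⟩

theorem Mq_normal : (Mq D V).Normal :=
  Subgroup.Normal.map D.hMn _ (QuotientGroup.mk'_surjective V)

theorem Mq_index (hVM : V ≤ D.M) : (Mq D V).index = 3 := by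
  unfold Mq
  rw [Subgroup.index_map_eq _ (QuotientGroup.mk'_surjective V) (by rw [QuotientGroup.ker_mk']; exact hVM)]
  exact D.hMi

theorem mk_eq_one_iff {a : G} : QuotientGroup.mk' V a = 1 ↔ a ∈ V := QuotientGroup.eq_one_iff a

/-- an element of `M` commuting with `x` modulo `V` can be corrected by an element of `V` to
commute with `x` -/
theorem lift_comm (hV : VD D V) {m : G} (hm : m ∈ D.M) (hw : F D.x m ∈ V) :
    ∃ v ∈ V, (v⁻¹ * m) * D.x = D.x * (v⁻¹ * m) := by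
  have h1 : F D.x (F D.x (F D.x m)) = 1 := by
    rw [hV.xact.FF_eq hw]; exact norm_F D.hx3 m
  have hU : F D.x m ∈ D.U := hV.mem_U_of_FF hw h1
  obtain ⟨v, hv, hvw⟩ := hV.exists_F_eq hU
  refine ⟨v, hv, ?_⟩
  apply comm_of_conj_eq
  have e1 : D.x * v * D.x⁻¹ = F D.x m * v := by rw [conj_eq_F_mul, hvw]
  have e2 : D.x * m * D.x⁻¹ = F D.x m * m := conj_eq_F_mul _ _
  calc D.x * (v⁻¹ * m) * D.x⁻¹ = (D.x * v * D.x⁻¹)⁻¹ * (D.x * m * D.x⁻¹) := by group
    _ = (F D.x m * v)⁻¹ * (F D.x m * m) := by rw [e1, e2]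
    _ = v⁻¹ * m := by group

/-- `C_{M/V}(x)` is cyclic, generated by the image of `c` -/
theorem hcyc_quot (hV : VD D V) : ∀ m ∈ Mq D V,
    m * QuotientGroup.mk' V D.x = QuotientGroup.mk' V D.x * m →
      m ∈ Subgroup.zpowers (QuotientGroup.mk' V D.c) := by
  rintro _ ⟨m, hm, rfl⟩ hcomm
  have h1 : F (QuotientGroup.mk' V D.x) (QuotientGroup.mk' V m) = 1 :=
    (F_eq_one_iff _ _).mpr hcomm.symm
  rw [← map_F, mk_eq_one_iff] at h1
  obtain ⟨v, hv, hk⟩ := lift_comm hV hm h1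
  have hkM : v⁻¹ * m ∈ D.M := D.M.mul_mem (D.M.inv_mem (hV.hVM hv)) hm
  obtain ⟨n, hn⟩ := D.hcyc _ hkM hk
  refine ⟨n, ?_⟩
  have hv1 : QuotientGroup.mk' V v = 1 := mk_eq_one_iff.mpr hv
  have : QuotientGroup.mk' V (v⁻¹ * m) = QuotientGroup.mk' V m := by
    rw [map_mul, map_inv, hv1, inv_one, one_mul]
  show (QuotientGroup.mk' V D.c) ^ n = QuotientGroup.mk' V m
  rw [← this, ← hn, map_zpow]

/-- the configuration induced on `G ⧸ V` by a normal elementary abelian subgroup `U₁` of order nine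
of `M ⧸ V` centralized by `M ⧸ V` -/
def quotCfg (D : Cfg G) (V : Subgroup G) [V.Normal] (hV : VD D V) (U₁ : Subgroup (G ⧸ V))
    (hU₁n : U₁.Normal) (hU₁M : U₁ ≤ Mq D V) (hU₁card : Nat.card ↥U₁ = 9)
    (hU₁exp : ∀ u ∈ U₁, u ^ 3 = 1) (hU₁c : ∀ u ∈ U₁, ∀ m ∈ Mq D V, u * m = m * u) :
    Cfg (G ⧸ V) where
  M := Mq D V
  x := QuotientGroup.mk' V D.x
  c := QuotientGroup.mk' V D.c
  U := U₁
  hG := D.hG.to_quotient V
  hMn := Mq_normal
  hMi := Mq_index hV.hVM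
  hx3 := by rw [← map_pow, D.hx3, map_one]
  hxM := fun h => D.hxM ((mk_mem_Mq_iff hV.hVM).mp h)
  hcM := ⟨D.c, D.hcM, rfl⟩
  hcx := by rw [← map_mul, ← map_mul, D.hcx]
  hcyc := hcyc_quot hV
  hUn := hU₁n
  hUM := hU₁M
  hUcard := hU₁card
  hUexp := hU₁exp
  hUc := hU₁c

/-- Step (3): a normal subgroup `N` of `G` with `V < N ≤ M` contains an element `z₁` commuting with
`x`, central modulo `V`, with `z₁ ^ 3` a generator of `Z`. -/
theorem VD.exists_z1 (hV : VD D V) (N : Subgroup G) [hN : N.Normal] (hVN : V ≤ N) (hNM : N ≤ D.M)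
    (hne : ∃ n ∈ N, n ∉ V) :
    ∃ z₁ ∈ N, z₁ * D.x = D.x * z₁ ∧ z₁ ∉ V ∧ (∀ r : G, ⁅z₁, r⁆ ∈ V) ∧ z₁ ^ 3 ∈ D.Z V ∧
      z₁ ^ 3 ≠ 1 := by
  have : Fact (Nat.Prime 3) := ⟨by norm_num⟩
  have hQ : IsPGroup 3 (G ⧸ V) := D.hG.to_quotient V
  have hNq : (N.map (QuotientGroup.mk' V)).Normal :=
    Subgroup.Normal.map hN _ (QuotientGroup.mk'_surjective V)
  have hNq1 : N.map (QuotientGroup.mk' V) ≠ ⊥ := by
    obtain ⟨n, hn, hnV⟩ := hne
    intro h
    have : QuotientGroup.mk' V n ∈ N.map (QuotientGroup.mk' V) := ⟨n, hn, rfl⟩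
    rw [h, Subgroup.mem_bot, mk_eq_one_iff] at this
    exact hnV this
  obtain ⟨zq, hzN, hzc, hzo⟩ := Cfsg.Agent.Lib.Helper45.exists_central_orderOf_eq hQ _ hNq1
  obtain ⟨n, hn, rfl⟩ := hzN
  have h1 : F D.x n ∈ V := by
    rw [← mk_eq_one_iff, map_F, F_eq_one_iff]
    exact Subgroup.mem_center_iff.mp hzc _
  obtain ⟨v, hv, hk⟩ := lift_comm hV (hNM hn) h1
  have hv1 : QuotientGroup.mk' V v = 1 := mk_eq_one_iff.mpr hv
  have hpi : QuotientGroup.mk' V (v⁻¹ * n) = QuotientGroup.mk' V n := by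
    rw [map_mul, map_inv, hv1, inv_one, one_mul]
  have hzN : v⁻¹ * n ∈ N := N.mul_mem (N.inv_mem (hVN hv)) hn
  have hzV : v⁻¹ * n ∉ V := by
    intro h
    rw [← mk_eq_one_iff, hpi] at h
    rw [h, orderOf_one] at hzo
    omega
  have hz3V : (v⁻¹ * n) ^ 3 ∈ V := by
    rw [← mk_eq_one_iff, map_pow, hpi, ← hzo]
    exact pow_orderOf_eq_one _
  have hz3x : D.x * (v⁻¹ * n) ^ 3 = (v⁻¹ * n) ^ 3 * D.x := by
    have : Commute D.x (v⁻¹ * n) := hk.symm
    exact this.pow_right 3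
  refine ⟨v⁻¹ * n, hzN, hk, hzV, ?_, (Cfg.mem_Z_iff D).mpr ⟨hz3V, hz3x⟩, ?_⟩
  · intro r
    rw [← mk_eq_one_iff, map_commutatorElement, hpi, commutatorElement_eq_one_iff_commute]
    exact (Subgroup.mem_center_iff.mp hzc _).symm
  · intro h3
    have hZab : ∀ a ∈ D.Z V, ∀ b ∈ D.Z V, a * b = b * a :=
      fun a ha b hb => hV.hVab a (hV.Z_le_V ha) b (hV.Z_le_V hb)
    have hZexp : ∀ a ∈ D.Z V, a ^ 3 = 1 := fun a ha => hV.pow_three_Z ha
    have hzZ : ∀ a ∈ D.Z V, (v⁻¹ * n) * a = a * (v⁻¹ * n) :=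
      fun a ha => (hV.Z_central ha _).symm
    obtain ⟨hab, hexp⟩ := sup_zpowers_elemAb (D.Z V) (v⁻¹ * n) hZab hZexp hzZ h3
    have hle : D.Z V ⊔ Subgroup.zpowers (v⁻¹ * n) ≤ Subgroup.zpowers D.c := by
      apply sup_le
      · intro a ha
        have := (Cfg.mem_Z_iff D).mp ha
        exact D.hcyc a (hV.hVM this.1) this.2.symm
      · rw [Subgroup.zpowers_le]; exact D.hcyc _ (hNM hzN) hk
    have hcard := card_le_three_of_le_zpowers D.c _ hle hexp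
    have hlt : D.Z V < D.Z V ⊔ Subgroup.zpowers (v⁻¹ * n) := by
      refine lt_of_le_of_ne le_sup_left ?_
      intro h
      apply hzV
      apply hV.Z_le_V
      rw [h]
      exact (le_sup_right : Subgroup.zpowers (v⁻¹ * n) ≤ _) (Subgroup.mem_zpowers _)
    have := card_lt_of_lt hlt
    rw [hV.card_Z] at this
    omega

/-- `C ≠ V`. -/
theorem Star.C_ne_V {g : G} (S : Star D V g) : ∃ n ∈ Star.C D V, n ∉ V := by
  have := D.hMn
  by_contra hcon
  push Not at hcon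
  have hgV : g ∉ V := fun h => S.g_not_mem_C (S.V_le_C h)
  obtain ⟨z₁, hz₁M, hz₁x, hz₁V, -, -, hz₁3⟩ :=
    S.hV.exists_z1 D.M S.hV.hVM le_rfl ⟨g, S.hgM, hgV⟩
  obtain ⟨i, -, hi⟩ := S.cov_C z₁ hz₁M
  have hv := hcon _ hi
  obtain ⟨v, hvdef⟩ : ∃ v, v = z₁ * g ^ i := ⟨_, rfl⟩
  rw [← hvdef] at hv
  have e : z₁ = v * (g ^ i)⁻¹ := by rw [hvdef]; group
  apply hz₁3
  rw [e]
  have hbM : (g ^ i)⁻¹ ∈ D.M := D.M.inv_mem (D.M.pow_mem S.hgM i)
  have htZ : F (g ^ i)⁻¹ v ∈ D.Z V := S.ctM _ hbM v hv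
  have ht : (g ^ i)⁻¹ * v = F (g ^ i)⁻¹ v * v * (g ^ i)⁻¹ := by unfold F; group
  have hta : Commute (F (g ^ i)⁻¹ v) v := S.hV.Z_central htZ v
  have htb : Commute (F (g ^ i)⁻¹ v) (g ^ i)⁻¹ := S.hV.Z_central htZ _
  rw [cube_mul ht hta htb (S.hV.pow_three_Z htZ), S.hV.hVexp v hv, one_mul, inv_pow, ← pow_mul,
    mul_comm, pow_mul, S.hg3, one_pow, inv_one]

namespace Star

variable {g : G} (S : Star D V g)

include S

/-- the cube of `d g` for `d ∈ C` with `[g, d] ∈ V` -/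
theorem cube_dg {d : G} (hd : d ∈ C D V) (hu : F g d ∈ V) :
    (d * g) ^ 3 = F g (F g d) * d ^ 3 := by
  obtain ⟨u, hudef⟩ : ∃ u, u = F g d := ⟨_, rfl⟩
  rw [← hudef] at hu ⊢
  obtain ⟨ζ, hζdef⟩ : ∃ ζ, ζ = F g u := ⟨_, rfl⟩
  rw [← hζdef]
  have hζZ : ζ ∈ D.Z V := hζdef ▸ S.hct u hu
  have hζc : ∀ r : G, ζ * r = r * ζ := fun r => S.hV.Z_central hζZ r
  have h1 : g * d = u * d * g := by rw [hudef]; unfold F; group
  have h2 : g * u = ζ * u * g := by rw [hζdef]; unfold F; group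
  have h3 : u * d = d * u := ((mem_C_iff.mp hd).2 u hu).symm
  have hg3' : g * g * g = 1 := mul_self_mul_eq_one S.hg3
  have hu3 : u * u * u = 1 := mul_self_mul_eq_one (S.hV.hVexp u hu)
  rw [pow_three', pow_three']
  calc (d * g) * (d * g) * (d * g) = d * (g * d) * (g * d) * g := by group
    _ = d * (u * d * g) * (u * d * g) * g := by rw [h1]
    _ = d * u * d * (g * u) * d * g * g := by group
    _ = d * u * d * (ζ * u * g) * d * g * g := by rw [h2]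
    _ = d * u * d * ζ * u * (g * d) * g * g := by group
    _ = d * u * d * ζ * u * (u * d * g) * g * g := by rw [h1]
    _ = (d * u * d) * ζ * (u * u * d) * (g * g * g) := by group
    _ = ζ * (d * u * d) * (u * u * d) := by rw [hg3', mul_one, ← hζc]
    _ = ζ * (d * (u * d) * u * u * d) := by group
    _ = ζ * (d * (d * u) * u * u * d) := by rw [h3]
    _ = ζ * (d * d * (u * u * u) * d) := by group
    _ = ζ * (d * d * d) := by rw [hu3, mul_one]

/-- Step (10′): `M ⧸ V` is not abelian. -/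
theorem abelian_false (hab : ∀ a ∈ D.M, ∀ b ∈ D.M, ⁅a, b⁆ ∈ V) : False := by
  have hCn := S.C_normal
  obtain ⟨z₁, hz₁C, hz₁x, hz₁V, hz₁c, hz₁Z, hz₁3⟩ :=
    S.hV.exists_z1 (C D V) S.V_le_C S.C_le_M S.C_ne_V
  have hz₁M : z₁ ∈ D.M := S.C_le_M hz₁C
  obtain ⟨d, hddef⟩ : ∃ d, d = F D.x g := ⟨_, rfl⟩
  have hdC : d ∈ C D V := hddef ▸ S.F_x_g_mem_C
  have hdM : d ∈ D.M := S.C_le_M hdC
  have huV : F g d ∈ V := by rw [F_eq_commutator]; exact hab g S.hgM d hdM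
  -- `ζ d³ = 1`
  have hcube : F g (F g d) * d ^ 3 = 1 := by
    rw [← S.cube_dg hdC huV, hddef, ← conj_eq_F_mul, conj_pow, S.hg3, mul_one, mul_inv_cancel]
  have hζZ : F g (F g d) ∈ D.Z V := S.hct _ huV
  have hd3Z : d ^ 3 ∈ D.Z V := by
    have : d ^ 3 = (F g (F g d))⁻¹ := eq_inv_of_mul_eq_one_right hcube
    rw [this]; exact Subgroup.inv_mem _ hζZ
  -- `Z = ⟨z₁³⟩`
  have hz9 : (z₁ ^ 3) ^ 3 = 1 := S.hV.pow_three_Z hz₁Z
  obtain ⟨j, -, hj⟩ := exists_pow_eq_of_mem_zpowers hz9 (Subgroup.mem_zpowers _) hz₁3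
    (by
      have hZeq : Subgroup.zpowers (z₁ ^ 3) = D.Z V := by
        apply Subgroup.eq_of_le_of_card_ge
        · rw [Subgroup.zpowers_le]; exact hz₁Z
        · rw [S.hV.card_Z, Nat.card_zpowers, orderOf_eq_three hz9 hz₁3]
      rw [hZeq]; exact hd3Z : d ^ 3 ∈ Subgroup.zpowers (z₁ ^ 3))
  -- `e = z₁^{-j} d` has order three
  have hzjC : (z₁ ^ j)⁻¹ ∈ C D V := (C D V).inv_mem ((C D V).pow_mem hz₁C j)
  have heC : (z₁ ^ j)⁻¹ * d ∈ C D V := (C D V).mul_mem hzjC hdC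
  have he3 : ((z₁ ^ j)⁻¹ * d) ^ 3 = 1 := by
    have htV : ⁅d, (z₁ ^ j)⁻¹⁆ ∈ V := hab d hdM _ (S.C_le_M hzjC)
    have ht : d * (z₁ ^ j)⁻¹ = ⁅d, (z₁ ^ j)⁻¹⁆ * (z₁ ^ j)⁻¹ * d := by
      rw [commutatorElement_def]; group
    have hta : Commute ⁅d, (z₁ ^ j)⁻¹⁆ (z₁ ^ j)⁻¹ := ((mem_C_iff.mp hzjC).2 _ htV).symm
    have htb : Commute ⁅d, (z₁ ^ j)⁻¹⁆ d := ((mem_C_iff.mp hdC).2 _ htV).symm
    rw [cube_mul ht hta htb (S.hV.hVexp _ htV), inv_pow, ← pow_mul, mul_comm j 3, pow_mul, hj,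
      inv_mul_cancel]
  have heV : (z₁ ^ j)⁻¹ * d ∈ V := S.mem_V_of_mem_C heC he3
  -- `d ∈ N = V ⊔ ⟨z₁⟩`
  have hz₁N : z₁ ∈ V ⊔ Subgroup.zpowers z₁ :=
    (le_sup_right : Subgroup.zpowers z₁ ≤ _) (Subgroup.mem_zpowers z₁)
  have hdN : d ∈ V ⊔ Subgroup.zpowers z₁ := by
    have : d = z₁ ^ j * ((z₁ ^ j)⁻¹ * d) := by group
    rw [this]
    exact Subgroup.mul_mem _ (Subgroup.pow_mem _ hz₁N j) ((le_sup_left : V ≤ _) heV)
  have hNn : (V ⊔ Subgroup.zpowers z₁).Normal := sup_zpowers_normal V z₁ hz₁c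
  have hNC : V ⊔ Subgroup.zpowers z₁ ≤ C D V :=
    sup_le S.V_le_C (by rw [Subgroup.zpowers_le]; exact hz₁C)
  have hgN : g ∉ V ⊔ Subgroup.zpowers z₁ := fun h => S.g_not_mem_C (hNC h)
  have hNeq : V ⊔ Subgroup.zpowers z₁ = C D V :=
    S.unique_max_eq _ _ le_sup_left S.V_le_C hgN S.g_not_mem_C (hNC.trans S.C_le_M) S.C_le_M
      (hddef ▸ hdN) S.F_x_g_mem_C
  -- `C` is abelian
  have hCab : ∀ a ∈ C D V, ∀ b ∈ C D V, a * b = b * a := by
    rw [← hNeq]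
    exact sup_zpowers_comm V z₁ S.hV.hVab (mem_C_iff.mp hz₁C).2
  -- `θ₁ = [g, z₁] ∈ Z`
  have hθV : F g z₁ ∈ V := by
    have h1 := V.inv_mem (hz₁c g)
    have e : (⁅z₁, g⁆)⁻¹ = F g z₁ := by rw [commutatorElement_def]; unfold F; group
    rwa [e] at h1
  have hθZ : F g z₁ ∈ D.Z V := by
    rw [Cfg.mem_Z_iff]
    refine ⟨hθV, ?_⟩
    -- `x θ x⁻¹ = θ`
    have h1 : D.x * z₁ * D.x⁻¹ = z₁ := by rw [← hz₁x]; group
    have h2 : D.x * g * D.x⁻¹ = d * g := by rw [hddef]; exact conj_eq_F_mul _ _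
    have h3 : z₁ * d = d * z₁ := hCab z₁ hz₁C d hdC
    have h3' : z₁⁻¹ * d⁻¹ = d⁻¹ * z₁⁻¹ := by rw [← mul_inv_rev, ← mul_inv_rev, h3]
    have h4 : d * F g z₁ = F g z₁ * d := (mem_C_iff.mp hdC).2 _ hθV
    have h5 : D.x * F g z₁ * D.x⁻¹ = F g z₁ := by
      calc D.x * F g z₁ * D.x⁻¹
          = (D.x * g * D.x⁻¹) * (D.x * z₁ * D.x⁻¹) * (D.x * g * D.x⁻¹)⁻¹ * (D.x * z₁ * D.x⁻¹)⁻¹ := by
            unfold F; group
        _ = (d * g) * z₁ * (d * g)⁻¹ * z₁⁻¹ := by rw [h1, h2]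
        _ = d * g * z₁ * g⁻¹ * (d⁻¹ * z₁⁻¹) := by group
        _ = d * g * z₁ * g⁻¹ * (z₁⁻¹ * d⁻¹) := by rw [h3']
        _ = (d * F g z₁) * d⁻¹ := by unfold F; group
        _ = F g z₁ := by rw [h4]; group
    exact (comm_of_conj_eq h5).symm
  -- `[g, k] ∈ Z` for all `k ∈ C`
  have hall : ∀ k ∈ V ⊔ Subgroup.zpowers z₁, F g k ∈ D.Z V := by
    intro k hk
    rw [sup_zpowers_eq_closure] at hk
    induction hk using Subgroup.closure_induction with
    | mem s hs =>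
      rcases hs with hs | hs
      · exact S.hct s hs
      · rw [Set.mem_singleton_iff] at hs; rw [hs]; exact hθZ
    | one => rw [F_one_right]; exact Subgroup.one_mem _
    | mul a b _ _ iha ihb =>
      rw [F_mul_right, S.conj_Z ihb]
      exact Subgroup.mul_mem _ iha ihb
    | inv a _ iha =>
      rw [F_inv_right]
      have h1 : (F g a)⁻¹ ∈ D.Z V := Subgroup.inv_mem _ iha
      have h2 := S.conj_Z h1 a⁻¹
      rw [inv_inv] at h2
      rw [h2]; exact h1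
  have huZ : F g d ∈ D.Z V := hall d hdN
  have hζ1 : F g (F g d) = 1 := by
    rw [F_eq_one_iff]
    exact (S.hV.Z_central huZ g).symm
  rw [hζ1, one_mul] at hcube
  have hdV : d ∈ V := S.mem_V_of_mem_C hdC hcube
  have hgV : g ∉ V := fun h => S.g_not_mem_C (S.V_le_C h)
  have hVn' : V.Normal := S.hV.hVn
  have hVC : V = C D V :=
    S.unique_max_eq V (C D V) le_rfl S.V_le_C hgV S.g_not_mem_C S.hV.hVM S.C_le_M
      (hddef ▸ hdV) S.F_x_g_mem_C
  apply hz₁V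
  rw [hVC]; exact hz₁C

end Star

end quot

end Cfsg.Agent.Lib.Helper30.MaxE9
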