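import Mathlib
import Cfsg.Agent.Lib.Helper30.MaxE9Quot

/-!
# No configuration of central type exists (helper30)

The inductive step: from a configuration `Star D V g` on `G` we build one on `G ⧸ V`.
-/

set_option autoImplicit false
set_option linter.unusedSectionVars false
set_option linter.unusedVariables false

open scoped commutatorElement

namespace Cfsg.Agent.Lib.Helper30.MaxE9

universe u

/-! ### General lemmas -/

section general

variable {G : Type*} [Group G]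

theorem F_inv_left (a v : G) : F a⁻¹ v = a⁻¹ * (F a v)⁻¹ * a := by unfold F; group

/-- If `F m s` lies in a central subgroup `Z₀` for all `s ∈ S` then also for `s ∈ closure S`. -/
theorem F_mem_of_closure {Z₀ : Subgroup G} (hZ₀ : ∀ z ∈ Z₀, ∀ r : G, r * z * r⁻¹ = z) (m : G)
    (S : Set G) (hS : ∀ s ∈ S, F m s ∈ Z₀) : ∀ k ∈ Subgroup.closure S, F m k ∈ Z₀ := by
  intro k hk
  induction hk using Subgroup.closure_induction with
  | mem s hs => exact hS s hs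
  | one => rw [F_one_right]; exact Subgroup.one_mem _
  | mul a b _ _ iha ihb =>
    rw [F_mul_right, hZ₀ _ ihb]
    exact Subgroup.mul_mem _ iha ihb
  | inv a _ iha =>
    rw [F_inv_right]
    have h1 : (F m a)⁻¹ ∈ Z₀ := Subgroup.inv_mem _ iha
    have h2 := hZ₀ _ h1 a⁻¹
    rw [inv_inv] at h2
    rw [h2]; exact h1

theorem zpowers_normal_of_central {z : G} (hz : ∀ r : G, z * r = r * z) :
    (Subgroup.zpowers z).Normal := by
  constructor
  intro n hn r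
  obtain ⟨k, hk⟩ := hn
  have h1 : Commute z r := hz r
  have h2 : Commute n r := by rw [← hk]; exact h1.zpow_left k
  have : r * n * r⁻¹ = n := by rw [← h2.eq]; group
  rw [this]; exact ⟨k, hk⟩

theorem zpowers_central {z : G} (hz : ∀ r : G, z * r = r * z) :
    ∀ w ∈ Subgroup.zpowers z, ∀ r : G, w * r = r * w := by
  intro w hw r
  obtain ⟨k, hk⟩ := hw
  have h1 : Commute z r := hz r
  have h2 : Commute w r := by rw [← hk]; exact h1.zpow_left k
  exact h2.eq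

end general

section VDlemmas

variable {G : Type u} [Group G] [Finite G] {D : Cfg G} {V : Subgroup G}

theorem VD.conj_Z (hV : VD D V) {z : G} (hz : z ∈ D.Z V) (r : G) : r * z * r⁻¹ = z := by
  rw [← hV.Z_central hz r, mul_inv_cancel_right]

/-- the subgroup of the elements of `M` of central type -/
def VD.ctSub (hV : VD D V) : Subgroup G where
  carrier := {m | m ∈ D.M ∧ ∀ v ∈ V, F m v ∈ D.Z V}
  mul_mem' := by
    rintro a b ⟨haM, ha⟩ ⟨hbM, hb⟩
    refine ⟨D.M.mul_mem haM hbM, fun v hv => ?_⟩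
    rw [F_mul_left, hV.conj_Z (hb v hv)]
    exact Subgroup.mul_mem _ (hb v hv) (ha v hv)
  one_mem' := ⟨D.M.one_mem, fun v _ => by rw [F_one_left]; exact Subgroup.one_mem _⟩
  inv_mem' := by
    rintro a ⟨haM, ha⟩
    refine ⟨D.M.inv_mem haM, fun v hv => ?_⟩
    rw [F_inv_left]
    have h1 : (F a v)⁻¹ ∈ D.Z V := Subgroup.inv_mem _ (ha v hv)
    have h2 := hV.conj_Z h1 a⁻¹
    rw [inv_inv] at h2
    rw [h2]; exact h1

theorem VD.mem_ctSub (hV : VD D V) {m : G} :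
    m ∈ hV.ctSub ↔ m ∈ D.M ∧ ∀ v ∈ V, F m v ∈ D.Z V := Iff.rfl

theorem VD.ctSub_normal (hV : VD D V) : hV.ctSub.Normal := by
  constructor
  rintro m ⟨hmM, hm⟩ r
  refine ⟨D.hMn.conj_mem m hmM r, fun v hv => ?_⟩
  rw [F_conj_left]
  have h1 : r⁻¹ * v * r ∈ V := by
    have := hV.hVn.conj_mem v hv r⁻¹
    rwa [inv_inv] at this
  rw [hV.conj_Z (hm _ h1)]
  exact hm _ h1

theorem VD.V_le_ctSub (hV : VD D V) : V ≤ hV.ctSub := by
  intro a ha
  refine ⟨hV.hVM ha, fun v hv => ?_⟩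
  have : F a v = 1 := (F_eq_one_iff a v).mpr (hV.hVab a ha v hv)
  rw [this]; exact Subgroup.one_mem _

end VDlemmas

namespace Star

variable {G : Type u} [Group G] [Finite G] {D : Cfg G} {V : Subgroup G} [hVn : V.Normal] {g : G}
  (S : Star D V g)

include S

/-- a normal subgroup containing `V` and `g` contains `M` -/
theorem M_le_of_normal (H : Subgroup G) [hH : H.Normal] (hVH : V ≤ H) (hg : g ∈ H) : D.M ≤ H := by
  rw [S.hgen, Subgroup.closure_le]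
  rintro s (hs | hs | hs | hs)
  · exact hVH hs
  · rw [hs]; exact hg
  · rw [hs]; exact hH.conj_mem g hg D.x
  · rw [Set.mem_singleton_iff] at hs; rw [hs]
    exact hH.conj_mem _ (hH.conj_mem g hg D.x) D.x

/-- the image of `g` does not lie in an abelian normal subgroup of `G ⧸ V` -/
theorem quot_abelian_false (A : Subgroup (G ⧸ V)) [hA : A.Normal]
    (hAab : ∀ a ∈ A, ∀ b ∈ A, a * b = b * a) (hg : QuotientGroup.mk' V g ∈ A) : False := by
  have hcn : (A.comap (QuotientGroup.mk' V)).Normal := inferInstance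
  have hVle : V ≤ A.comap (QuotientGroup.mk' V) := by
    intro v hv
    rw [Subgroup.mem_comap, mk_eq_one_iff.mpr hv]
    exact A.one_mem
  have hM := S.M_le_of_normal (A.comap (QuotientGroup.mk' V)) hVle hg
  apply S.abelian_false
  intro a ha b hb
  rw [← mk_eq_one_iff, map_commutatorElement, commutatorElement_eq_one_iff_commute]
  exact hAab _ (hM ha) _ (hM hb)

/-- the cube map is a homomorphism on a subgroup of `C` which is abelian modulo `V` -/
theorem cube_hom (W : Subgroup G) (hWC : W ≤ C D V) (hW : ∀ a ∈ W, ∀ b ∈ W, ⁅b, a⁆ ∈ V) {a b : G}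
    (ha : a ∈ W) (hb : b ∈ W) : (a * b) ^ 3 = a ^ 3 * b ^ 3 := by
  have htV : ⁅b, a⁆ ∈ V := hW a ha b hb
  have ht : b * a = ⁅b, a⁆ * a * b := by rw [commutatorElement_def]; group
  have hta : Commute ⁅b, a⁆ a := ((mem_C_iff.mp (hWC ha)).2 _ htV).symm
  have htb : Commute ⁅b, a⁆ b := ((mem_C_iff.mp (hWC hb)).2 _ htV).symm
  exact cube_mul ht hta htb (S.hV.hVexp _ htV)

end Star

/-! ### Step (7): the subgroup `U₁` of `G ⧸ V` -/

/-- the data of step (7): `z₁ ∈ C` and `y₁ ∈ M ⧸ V` -/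
structure QD {G : Type u} [Group G] (D : Cfg G) (V : Subgroup G) [V.Normal] (z₁ : G)
    (y₁ : G ⧸ V) : Prop where
  hzC : z₁ ∈ Star.C D V
  hzx : z₁ * D.x = D.x * z₁
  hzV : z₁ ∉ V
  hzc : ∀ r : G, ⁅z₁, r⁆ ∈ V
  hzZ : z₁ ^ 3 ∈ D.Z V
  hz3 : z₁ ^ 3 ≠ 1
  hyM : y₁ ∈ Mq D V
  hyz : y₁ ∉ Subgroup.zpowers (QuotientGroup.mk' V z₁)
  hy3 : y₁ ^ 3 = 1
  hyc : ∀ r : G ⧸ V, ⁅y₁, r⁆ ∈ Subgroup.zpowers (QuotientGroup.mk' V z₁)

namespace QD

variable {G : Type u} [Group G] [Finite G] {D : Cfg G} {V : Subgroup G} [hVn : V.Normal] {g : G}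
  {z₁ : G} {y₁ : G ⧸ V} (T : QD D V z₁ y₁)

include T

theorem zq_central : ∀ r : G ⧸ V, QuotientGroup.mk' V z₁ * r = r * QuotientGroup.mk' V z₁ := by
  intro r
  obtain ⟨r, rfl⟩ := QuotientGroup.mk'_surjective V r
  have h := T.hzc r
  rw [← mk_eq_one_iff, map_commutatorElement, commutatorElement_eq_one_iff_commute] at h
  exact h

theorem zq_pow (hV : VD D V) : (QuotientGroup.mk' V z₁) ^ 3 = 1 := by
  rw [← map_pow, mk_eq_one_iff]
  exact hV.Z_le_V T.hzZ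

theorem zq_ne : QuotientGroup.mk' V z₁ ≠ 1 := by
  intro h
  rw [mk_eq_one_iff] at h
  exact T.hzV h

theorem zpowers_zq_normal : (Subgroup.zpowers (QuotientGroup.mk' V z₁)).Normal :=
  zpowers_normal_of_central T.zq_central

/-- `U₁ = ⟨z₁, y₁⟩` -/
def U1 (T : QD D V z₁ y₁) : Subgroup (G ⧸ V) :=
  Subgroup.zpowers (QuotientGroup.mk' V z₁) ⊔ Subgroup.zpowers y₁

theorem zq_mem_U1 : QuotientGroup.mk' V z₁ ∈ T.U1 :=
  (le_sup_left : Subgroup.zpowers (QuotientGroup.mk' V z₁) ≤ _) (Subgroup.mem_zpowers _)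

theorem y_mem_U1 : y₁ ∈ T.U1 :=
  (le_sup_right : Subgroup.zpowers y₁ ≤ _) (Subgroup.mem_zpowers _)

theorem U1_normal : T.U1.Normal := by
  have := T.zpowers_zq_normal
  exact sup_zpowers_normal _ y₁ T.hyc

theorem U1_elemAb (hV : VD D V) : (∀ a ∈ T.U1, ∀ b ∈ T.U1, a * b = b * a) ∧ ∀ a ∈ T.U1, a ^ 3 = 1 := by
  apply sup_zpowers_elemAb _ y₁
  · intro a ha b hb
    exact zpowers_central T.zq_central a ha b
  · intro a ha
    exact pow_three_eq_one_of_mem_zpowers (T.zq_pow hV) ha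
  · intro v hv
    exact (zpowers_central T.zq_central v hv y₁).symm
  · exact T.hy3

theorem U1_card (hV : VD D V) : Nat.card ↥T.U1 = 9 := by
  have := T.zpowers_zq_normal
  unfold U1
  rw [card_sup_zpowers _ T.hy3 T.hyz, Nat.card_zpowers, orderOf_eq_three (T.zq_pow hV) T.zq_ne]

theorem zq_mem_Mq : QuotientGroup.mk' V z₁ ∈ Mq D V := ⟨z₁, (Star.mem_C_iff.mp T.hzC).1, rfl⟩

theorem U1_le_Mq : T.U1 ≤ Mq D V := by
  apply sup_le
  · rw [Subgroup.zpowers_le]; exact T.zq_mem_Mq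
  · rw [Subgroup.zpowers_le]; exact T.hyM

end QD

namespace Star

variable {G : Type u} [Group G] [Finite G] {D : Cfg G} {V : Subgroup G} [hVn : V.Normal] {g : G}
  (S : Star D V g)

include S

theorem mk_g_mem_Mq : QuotientGroup.mk' V g ∈ Mq D V := ⟨g, S.hgM, rfl⟩

theorem mk_g_pow : (QuotientGroup.mk' V g) ^ 3 = 1 := by rw [← map_pow, S.hg3, map_one]

theorem exists_QD : ∃ (z₁ : G) (y₁ : G ⧸ V), QD D V z₁ y₁ := by
  have hCn := S.C_normal
  have hp : Fact (Nat.Prime 3) := ⟨by norm_num⟩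
  have hQ : IsPGroup 3 (G ⧸ V) := D.hG.to_quotient V
  obtain ⟨z₁, hz₁C, hz₁x, hz₁V, hz₁c, hz₁Z, hz₁3⟩ :=
    S.hV.exists_z1 (C D V) S.V_le_C S.C_le_M S.C_ne_V
  -- central in the quotient
  have hzc : ∀ r : G ⧸ V, QuotientGroup.mk' V z₁ * r = r * QuotientGroup.mk' V z₁ := by
    intro r
    obtain ⟨r, rfl⟩ := QuotientGroup.mk'_surjective V r
    have h := hz₁c r
    rw [← mk_eq_one_iff, map_commutatorElement, commutatorElement_eq_one_iff_commute] at h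
    exact h
  have hzpow : (QuotientGroup.mk' V z₁) ^ 3 = 1 := by
    rw [← map_pow, mk_eq_one_iff]
    exact S.hV.Z_le_V hz₁Z
  have hn1 := zpowers_normal_of_central hzc
  have hn2 : (Mq D V).Normal := Mq_normal
  have hCK : Subgroup.zpowers (QuotientGroup.mk' V z₁) ≤ Mq D V := by
    rw [Subgroup.zpowers_le]; exact ⟨z₁, S.C_le_M hz₁C, rfl⟩
  have hCexp : ∀ c ∈ Subgroup.zpowers (QuotientGroup.mk' V z₁), c ^ 3 = 1 :=
    fun c hc => pow_three_eq_one_of_mem_zpowers hzpow hc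
  have hcent : ∀ r : G ⧸ V, r ∈ Subgroup.centralizer
      (Subgroup.zpowers (QuotientGroup.mk' V z₁) : Set (G ⧸ V)) := by
    intro r
    rw [Subgroup.mem_centralizer_iff]
    intro w hw
    exact zpowers_central hzc w hw r
  have hgC : QuotientGroup.mk' V g ∉ Subgroup.zpowers (QuotientGroup.mk' V z₁) := by
    rintro ⟨k, hk⟩
    apply S.g_not_mem_C
    have h1 : QuotientGroup.mk' V ((z₁ ^ k)⁻¹ * g) = 1 := by
      rw [map_mul, map_inv, map_zpow]
      have : (QuotientGroup.mk' V z₁) ^ k = QuotientGroup.mk' V g := hk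
      rw [this, inv_mul_cancel]
    rw [mk_eq_one_iff] at h1
    have : g = z₁ ^ k * ((z₁ ^ k)⁻¹ * g) := by group
    rw [this]
    exact (C D V).mul_mem ((C D V).zpow_mem hz₁C k) (S.V_le_C h1)
  obtain ⟨y₁, hyK, -, hyC, hy3, hyc⟩ := normal_replacement_rel 3 (by norm_num) hQ
    (Subgroup.zpowers (QuotientGroup.mk' V z₁)) (Mq D V) hCK hCexp (fun c _ => hcent c)
    (QuotientGroup.mk' V g) S.mk_g_mem_Mq (hcent _) hgC S.mk_g_pow
  exact ⟨z₁, y₁, hz₁C, hz₁x, hz₁V, hz₁c, hz₁Z, hz₁3, hyK, hyC, hy3, hyc⟩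

/-- Step (β): `U₁` is centralized by `M ⧸ V`. -/
theorem U1_central {z₁ : G} {y₁ : G ⧸ V} (T : QD D V z₁ y₁) :
    ∀ u ∈ T.U1, ∀ m ∈ Mq D V, u * m = m * u := by
  by_contra hcon
  have hU1n := T.U1_normal
  have hMqn : (Mq D V).Normal := Mq_normal
  have hCn := S.C_normal
  obtain ⟨hU1ab, hU1exp⟩ := T.U1_elemAb S.hV
  have hzc := T.zq_central
  -- the subgroups `H̃` and `H`
  obtain ⟨Hq, hHq⟩ : ∃ Hq : Subgroup (G ⧸ V),
      Hq = Mq D V ⊓ Subgroup.centralizer (T.U1 : Set (G ⧸ V)) := ⟨_, rfl⟩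
  have hHqn : Hq.Normal := by rw [hHq]; infer_instance
  have hmemHq : ∀ a : G ⧸ V, a ∈ Hq ↔ a ∈ Mq D V ∧ ∀ u ∈ T.U1, u * a = a * u := by
    intro a
    rw [hHq, Subgroup.mem_inf, Subgroup.mem_centralizer_iff]
    exact Iff.rfl
  obtain ⟨H, hH⟩ : ∃ H : Subgroup G, H = Hq.comap (QuotientGroup.mk' V) := ⟨_, rfl⟩
  have hHn : H.Normal := by rw [hH]; infer_instance
  have hmemH : ∀ a : G, a ∈ H ↔ QuotientGroup.mk' V a ∈ Hq := by
    intro a; rw [hH, Subgroup.mem_comap]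
  have hVH : V ≤ H := by
    intro v hv
    rw [hmemH, mk_eq_one_iff.mpr hv]
    exact Hq.one_mem
  have hHM : H ≤ D.M := by
    intro a ha
    rw [hmemH, hmemHq] at ha
    exact (mk_mem_Mq_iff S.hV.hVM).mp ha.1
  have hgH : g ∉ H := by
    intro hg
    have hM := S.M_le_of_normal H hVH hg
    apply hcon
    rintro u hu _ ⟨m, hm, rfl⟩
    have := hM hm
    rw [hmemH, hmemHq] at this
    exact this.2 u hu
  -- criterion for membership in `H̃`
  have hcrit : ∀ a ∈ Mq D V, F a y₁ = 1 → a ∈ Hq := by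
    intro a ha h1
    rw [hmemHq]
    refine ⟨ha, ?_⟩
    have hle : T.U1 ≤ Subgroup.centralizer ({a} : Set (G ⧸ V)) := by
      apply sup_le
      · rw [Subgroup.zpowers_le, Subgroup.mem_centralizer_singleton_iff]
        exact hzc a
      · rw [Subgroup.zpowers_le, Subgroup.mem_centralizer_singleton_iff]
        exact ((F_eq_one_iff _ _).mp h1).symm
    intro u hu
    have := hle hu
    rw [Subgroup.mem_centralizer_singleton_iff] at this
    exact this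
  have hyg : F (QuotientGroup.mk' V g) y₁ ≠ 1 := by
    intro h
    apply hgH
    rw [hmemH]
    exact hcrit _ S.mk_g_mem_Mq h
  have hy : ∀ m ∈ Mq D V, F m y₁ ∈ Subgroup.zpowers (QuotientGroup.mk' V z₁) := by
    intro m _
    rw [F_eq_commutator, ← commutatorElement_inv]
    exact Subgroup.inv_mem _ (T.hyc m)
  have hzM : ∀ w ∈ Subgroup.zpowers (QuotientGroup.mk' V z₁), ∀ m ∈ Mq D V, m * w = w * m :=
    fun w hw m _ => (zpowers_central hzc w hw m).symm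
  have hconjM : D.x * g * D.x⁻¹ ∈ D.M := D.hMn.conj_mem g S.hgM D.x
  obtain ⟨i, hi, hFi⟩ := exists_pow_F_eq_one (Mq D V) y₁ (QuotientGroup.mk' V z₁)
    (QuotientGroup.mk' V g) (T.zq_pow S.hV) hzM hy S.mk_g_mem_Mq hyg
    (QuotientGroup.mk' V (D.x * g * D.x⁻¹)) ⟨_, hconjM, rfl⟩
  have hxH : F D.x g ∈ H := by
    apply S.F_x_g_mem H hgH
    refine ⟨i, hi, ?_⟩
    rw [hmemH, map_mul, map_pow]
    apply hcrit _ _ hFi
    exact (Mq D V).mul_mem ⟨_, hconjM, rfl⟩ ((Mq D V).pow_mem S.mk_g_mem_Mq i)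
  have hHC : H = C D V :=
    S.unique_max_eq H (C D V) hVH S.V_le_C hgH S.g_not_mem_C hHM S.C_le_M hxH S.F_x_g_mem_C
  -- the preimage of `U₁`
  obtain ⟨U₁, hU₁⟩ : ∃ U₁ : Subgroup G, U₁ = T.U1.comap (QuotientGroup.mk' V) := ⟨_, rfl⟩
  have hU₁n : U₁.Normal := by rw [hU₁]; infer_instance
  have hmemU₁ : ∀ a : G, a ∈ U₁ ↔ QuotientGroup.mk' V a ∈ T.U1 := by
    intro a; rw [hU₁, Subgroup.mem_comap]
  have hU₁C : U₁ ≤ C D V := by
    rw [← hHC]
    intro k hk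
    rw [hmemU₁] at hk
    rw [hmemH, hmemHq]
    exact ⟨T.U1_le_Mq hk, fun u hu => hU1ab u hu _ hk⟩
  have hU₁comm : ∀ a ∈ U₁, ∀ b ∈ U₁, ⁅b, a⁆ ∈ V := by
    intro a ha b hb
    rw [hmemU₁] at ha hb
    rw [← mk_eq_one_iff, map_commutatorElement, commutatorElement_eq_one_iff_commute]
    exact hU1ab _ hb _ ha
  have hz₁U₁ : z₁ ∈ U₁ := by rw [hmemU₁]; exact T.zq_mem_U1
  have hVU₁ : V ≤ U₁ := by
    intro v hv
    rw [hmemU₁, mk_eq_one_iff.mpr hv]
    exact T.U1.one_mem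
  have hcube : ∀ a ∈ U₁, ∀ b ∈ U₁, (a * b) ^ 3 = a ^ 3 * b ^ 3 :=
    fun a ha b hb => S.cube_hom U₁ hU₁C hU₁comm ha hb
  -- `[g, k] ∈ V` for `k ∈ U₁`
  have hkey : ∀ k ∈ U₁, ⁅g, k⁆ ∈ V := by
    intro k hk
    have hkq : QuotientGroup.mk' V k ∈ T.U1 := (hmemU₁ k).mp hk
    -- (a)
    have hFx : QuotientGroup.mk' V (F D.x k) ∈ Subgroup.zpowers (QuotientGroup.mk' V z₁) := by
      rw [map_F]
      have hkq' := hkq
      unfold QD.U1 at hkq'
      rw [sup_zpowers_eq_closure] at hkq'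
      refine F_mem_of_closure (Z₀ := Subgroup.zpowers (QuotientGroup.mk' V z₁)) ?_ _ _ ?_ _ hkq'
      · intro z hz r
        rw [← zpowers_central hzc z hz r, mul_inv_cancel_right]
      · rintro s (hs | hs)
        · have : F (QuotientGroup.mk' V D.x) s = 1 := by
            rw [F_eq_one_iff]
            exact (zpowers_central hzc s hs _).symm
          rw [this]; exact Subgroup.one_mem _
        · rw [Set.mem_singleton_iff] at hs
          rw [hs, F_eq_commutator, ← commutatorElement_inv]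
          exact Subgroup.inv_mem _ (T.hyc _)
    obtain ⟨n, hn⟩ := hFx
    have hn' : (QuotientGroup.mk' V z₁) ^ n = QuotientGroup.mk' V (F D.x k) := hn
    -- (b)
    have hv'V : (z₁ ^ n)⁻¹ * F D.x k ∈ V := by
      rw [← mk_eq_one_iff, map_mul, map_inv, map_zpow, hn', inv_mul_cancel]
    have hznU : z₁ ^ n ∈ U₁ := U₁.zpow_mem hz₁U₁ n
    -- (c)
    have e1 : D.x * k * D.x⁻¹ = z₁ ^ n * ((z₁ ^ n)⁻¹ * F D.x k) * k := by
      rw [conj_eq_F_mul]; group
    have e2 : D.x * k ^ 3 * D.x⁻¹ = (z₁ ^ n) ^ 3 * k ^ 3 := by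
      rw [← conj_pow, e1, hcube _ (U₁.mul_mem hznU (hVU₁ hv'V)) _ hk,
        hcube _ hznU _ (hVU₁ hv'V), S.hV.hVexp _ hv'V, mul_one]
    have e3 : F D.x (k ^ 3) = (z₁ ^ 3) ^ n := by
      unfold F
      rw [e2, mul_inv_cancel_right, ← zpow_natCast, ← zpow_mul, mul_comm, zpow_mul, zpow_natCast]
    have hFZ : F D.x (k ^ 3) ∈ D.Z V := by rw [e3]; exact Subgroup.zpow_mem _ T.hzZ n
    -- (d)
    have hk3V : k ^ 3 ∈ V := by
      rw [← mk_eq_one_iff, map_pow]; exact hU1exp _ hkq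
    -- (e)
    have hk3U : k ^ 3 ∈ D.U := by
      apply S.hV.mem_U_of_FF hk3V
      rw [F_eq_one_iff]
      exact ((Cfg.mem_Z_iff D).mp hFZ).2
    -- (f), (g)
    have hf : g * k ^ 3 * g⁻¹ = k ^ 3 := by
      rw [← D.hUc _ hk3U g S.hgM]; group
    have hconj : g * k * g⁻¹ ∈ U₁ := hU₁n.conj_mem k hk g
    have hcomm3 : (⁅g, k⁆) ^ 3 = 1 := by
      rw [commutatorElement_def, hcube _ hconj _ (U₁.inv_mem hk), conj_pow, hf, inv_pow,
        mul_inv_cancel]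
    -- (h)
    have hcommU : ⁅g, k⁆ ∈ U₁ := by
      rw [commutatorElement_def]; exact U₁.mul_mem hconj (U₁.inv_mem hk)
    exact S.mem_V_of_mem_C (hU₁C hcommU) hcomm3
  apply hgH
  rw [hmemH, hmemHq]
  refine ⟨S.mk_g_mem_Mq, ?_⟩
  intro u hu
  obtain ⟨k, rfl⟩ := QuotientGroup.mk'_surjective V u
  have h := hkey k ((hmemU₁ k).mpr hu)
  rw [← mk_eq_one_iff, map_commutatorElement, commutatorElement_eq_one_iff_commute] at h
  exact h.eq.symm

/-- cube roots modulo `V` -/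
theorem exists_pow_mul_mem_V {z₁ : G} (hzZ : z₁ ^ 3 ∈ D.Z V) (hz3 : z₁ ^ 3 ≠ 1) (W : Subgroup G)
    (hWC : W ≤ C D V) (hW : ∀ a ∈ W, ∀ b ∈ W, ⁅b, a⁆ ∈ V) (hzW : z₁ ∈ W) {d : G} (hdW : d ∈ W)
    (hd3 : d ^ 3 ∈ D.Z V) : ∃ j : ℕ, (z₁ ^ j)⁻¹ * d ∈ V := by
  have hz9 : (z₁ ^ 3) ^ 3 = 1 := S.hV.pow_three_Z hzZ
  have hZeq : Subgroup.zpowers (z₁ ^ 3) = D.Z V := by
    apply Subgroup.eq_of_le_of_card_ge
    · rw [Subgroup.zpowers_le]; exact hzZ
    · rw [S.hV.card_Z, Nat.card_zpowers, orderOf_eq_three hz9 hz3]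
  obtain ⟨j, -, hj⟩ := exists_pow_eq_of_mem_zpowers hz9 (Subgroup.mem_zpowers _) hz3
    (by rw [hZeq]; exact hd3 : d ^ 3 ∈ Subgroup.zpowers (z₁ ^ 3))
  refine ⟨j, ?_⟩
  have hzjW : (z₁ ^ j)⁻¹ ∈ W := W.inv_mem (W.pow_mem hzW j)
  have he3 : ((z₁ ^ j)⁻¹ * d) ^ 3 = 1 := by
    rw [S.cube_hom W hWC hW hzjW hdW, inv_pow, ← pow_mul, mul_comm j 3, pow_mul, hj,
      inv_mul_cancel]
  exact S.mem_V_of_mem_C (hWC (W.mul_mem hzjW hdW)) he3

end Star

/-- A commutator identity: if `U` is an abelian normal subgroup centralized by the normal subgroup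
`M ∋ g`, and `y` is central modulo `U`, then `[[x, g], y] = [x, [g, y]]`. -/
theorem F_F_eq {Q : Type*} [Group Q] (U M : Subgroup Q) [hUn : U.Normal] [hMn : M.Normal]
    (hUab : ∀ a ∈ U, ∀ b ∈ U, a * b = b * a) (hUc : ∀ u ∈ U, ∀ m ∈ M, u * m = m * u)
    {x g y : Q} (hg : g ∈ M) (hy : ∀ r : Q, ⁅y, r⁆ ∈ U) : F (F x g) y = F x (F g y) := by
  obtain ⟨t, ht⟩ : ∃ t, t = F g y := ⟨_, rfl⟩
  have htU : t ∈ U := by
    rw [ht, F_eq_commutator, ← commutatorElement_inv]; exact U.inv_mem (hy g)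
  obtain ⟨a, ha⟩ : ∃ a, a = x * g * x⁻¹ := ⟨_, rfl⟩
  have haM : a ∈ M := ha ▸ hMn.conj_mem g hg x
  have e0 : F x g = a * g⁻¹ := by rw [ha]; rfl
  -- `F g⁻¹ y = t⁻¹`
  have e1 : F g⁻¹ y = t⁻¹ := by
    rw [F_inv_left, ← ht]
    have := hUc t⁻¹ (U.inv_mem htU) g hg
    rw [mul_assoc, this]; group
  have e2 : a * t⁻¹ * a⁻¹ = t⁻¹ := by
    have := hUc t⁻¹ (U.inv_mem htU) a haM
    rw [← this]; group
  -- `x⁻¹ y x = w y`
  obtain ⟨w, hw⟩ : ∃ w, w = F x⁻¹ y := ⟨_, rfl⟩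
  have hwU : w ∈ U := by
    rw [hw, F_eq_commutator, ← commutatorElement_inv]; exact U.inv_mem (hy x⁻¹)
  have e3 : x⁻¹ * y * x = w * y := by rw [hw]; unfold F; group
  have e4 : F g w = 1 := by
    rw [F_eq_one_iff]; exact (hUc w hwU g hg).symm
  have e5 : w * t * w⁻¹ = t := by rw [hUab w hwU t htU]; group
  have e6 : F a y = x * t * x⁻¹ := by
    rw [ha, F_conj_left, e3, F_mul_right, e4, one_mul, ← ht, e5]
  have hxt : x * t * x⁻¹ ∈ U := hUn.conj_mem t htU x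
  rw [e0, F_mul_left, e1, e2, e6, ← ht, hUab _ (U.inv_mem htU) _ hxt]
  rfl

namespace Star

variable {G : Type u} [Group G] [Finite G] {D : Cfg G} {V : Subgroup G} [hVn : V.Normal] {g : G}
  (S : Star D V g)

include S

/-- the generation property passes to the quotient -/
theorem Mq_eq_closure (Dq : Cfg (G ⧸ V)) (hDM : Dq.M = Mq D V)
    (hDx : Dq.x = QuotientGroup.mk' V D.x) (V₁q : Subgroup (G ⧸ V)) (hV₁M : V₁q ≤ Mq D V) :
    Dq.M = Subgroup.closure (genSet Dq V₁q (QuotientGroup.mk' V g)) := by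
  have hMqn : (Mq D V).Normal := Mq_normal
  apply le_antisymm
  · rw [hDM]
    unfold Mq
    rw [S.hgen, MonoidHom.map_closure, Subgroup.closure_le]
    rintro _ ⟨t, ht, rfl⟩
    rcases ht with ht | ht | ht | ht
    · rw [mk_eq_one_iff.mpr ht]; exact Subgroup.one_mem _
    · rw [ht]; exact Subgroup.subset_closure (Or.inr (Or.inl rfl))
    · rw [ht]
      apply Subgroup.subset_closure
      right; right; left
      rw [hDx, map_mul, map_mul, map_inv]
    · rw [Set.mem_singleton_iff] at ht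
      rw [ht]
      apply Subgroup.subset_closure
      right; right; right
      rw [Set.mem_singleton_iff, hDx]
      simp only [map_mul, map_inv]
  · rw [Subgroup.closure_le, hDM]
    rintro s (hs | hs | hs | hs)
    · exact hV₁M hs
    · rw [hs]; exact S.mk_g_mem_Mq
    · rw [hs]; exact hMqn.conj_mem _ S.mk_g_mem_Mq _
    · rw [Set.mem_singleton_iff] at hs
      rw [hs]; exact hMqn.conj_mem _ (hMqn.conj_mem _ S.mk_g_mem_Mq _) _

/-- The inductive step. -/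
theorem step (ih : ∀ (D' : Cfg (G ⧸ V)) (V' : Subgroup (G ⧸ V)) (g' : G ⧸ V),
    Star D' V' g' → False) : False := by
  obtain ⟨z₁, y₁, T⟩ := S.exists_QD
  have hU1n := T.U1_normal
  have hMqn : (Mq D V).Normal := Mq_normal
  have hCn := S.C_normal
  obtain ⟨hU1ab, hU1exp⟩ := T.U1_elemAb S.hV
  have hU1c := S.U1_central T
  have hzc := T.zq_central
  have hp : Fact (Nat.Prime 3) := ⟨by norm_num⟩
  have hQ : IsPGroup 3 (G ⧸ V) := D.hG.to_quotient V
  -- the quotient configuration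
  obtain ⟨Dq, hDq⟩ : ∃ Dq : Cfg (G ⧸ V), Dq = quotCfg D V S.hV T.U1 hU1n T.U1_le_Mq
    (T.U1_card S.hV) hU1exp hU1c := ⟨_, rfl⟩
  have hDM : Dq.M = Mq D V := by rw [hDq]; rfl
  have hDx : Dq.x = QuotientGroup.mk' V D.x := by rw [hDq]; rfl
  have hDU : Dq.U = T.U1 := by rw [hDq]; rfl
  by_cases hgU : QuotientGroup.mk' V g ∈ T.U1
  · exact S.quot_abelian_false T.U1 hU1ab hgU
  -- normal replacement
  have hgT : QuotientGroup.mk' V g ∈ Subgroup.centralizer (T.U1 : Set (G ⧸ V)) := by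
    rw [Subgroup.mem_centralizer_iff]
    intro u hu
    exact hU1c u hu _ S.mk_g_mem_Mq
  have hCab : T.U1 ≤ Subgroup.centralizer (T.U1 : Set (G ⧸ V)) := by
    intro a ha
    rw [Subgroup.mem_centralizer_iff]
    intro b hb
    exact hU1ab b hb a ha
  obtain ⟨y₂, hy₂T, hy₂U, hy₂3, hy₂c⟩ := Cfsg.Agent.Lib.Helper24.normal_replacement 3
    (by norm_num) hQ T.U1 hU1exp hCab (QuotientGroup.mk' V g) hgT hgU S.mk_g_pow
  have hy₂comm : ∀ u ∈ T.U1, y₂ * u = u * y₂ :=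
    fun u hu => (Subgroup.mem_centralizer_iff.mp hy₂T u hu).symm
  have hy₂M : y₂ ∈ Mq D V := by
    rw [← hDM]
    apply Dq.mem_M_of_comm_U
    rw [hDU]; exact hy₂comm
  -- `V₁`
  obtain ⟨V₁q, hV₁q⟩ : ∃ V₁q : Subgroup (G ⧸ V), V₁q = T.U1 ⊔ Subgroup.zpowers y₂ := ⟨_, rfl⟩
  have hV₁n : V₁q.Normal := by rw [hV₁q]; exact sup_zpowers_normal T.U1 y₂ hy₂c
  obtain ⟨hV₁ab, hV₁exp⟩ : (∀ a ∈ V₁q, ∀ b ∈ V₁q, a * b = b * a) ∧ ∀ a ∈ V₁q, a ^ 3 = 1 := by
    rw [hV₁q]; exact sup_zpowers_elemAb T.U1 y₂ hU1ab hU1exp hy₂comm hy₂3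
  have hV₁card : Nat.card ↥V₁q = 27 := by
    rw [hV₁q, card_sup_zpowers T.U1 hy₂3 hy₂U, T.U1_card S.hV]
  have hU1V₁ : T.U1 ≤ V₁q := by rw [hV₁q]; exact le_sup_left
  have hV₁M : V₁q ≤ Mq D V := by
    rw [hV₁q]; exact sup_le T.U1_le_Mq (by rw [Subgroup.zpowers_le]; exact hy₂M)
  have hVD : VD Dq V₁q :=
    ⟨hV₁n, by rw [hDU]; exact hU1V₁, by rw [hDM]; exact hV₁M, hV₁card, hV₁exp, hV₁ab⟩
  -- `Z̃ = ⟨z̃₁⟩`
  have hzZq : QuotientGroup.mk' V z₁ ∈ Dq.Z V₁q := by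
    rw [Cfg.mem_Z_iff]
    exact ⟨hU1V₁ T.zq_mem_U1, (hzc _).symm⟩
  have hZq : Subgroup.zpowers (QuotientGroup.mk' V z₁) = Dq.Z V₁q := by
    apply Subgroup.eq_of_le_of_card_ge
    · rw [Subgroup.zpowers_le]; exact hzZq
    · rw [hVD.card_Z, Nat.card_zpowers, orderOf_eq_three (T.zq_pow S.hV) T.zq_ne]
  by_cases hct : ∀ v ∈ V₁q, F (QuotientGroup.mk' V g) v ∈ Dq.Z V₁q
  · -- sub-case A
    by_cases hcent : ∀ v ∈ V₁q, QuotientGroup.mk' V g * v = v * QuotientGroup.mk' V g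
    · have hgV₁ : QuotientGroup.mk' V g ∈ V₁q := hVD.mem_V_of_centralizes hcent S.mk_g_pow
      exact S.quot_abelian_false V₁q hV₁ab hgV₁
    · apply ih Dq V₁q (QuotientGroup.mk' V g)
      exact ⟨hVD, by rw [hDM]; exact S.mk_g_mem_Mq, S.mk_g_pow, hct,
        S.Mq_eq_closure Dq hDM hDx V₁q hV₁M, hcent⟩
  · -- sub-case B
    apply hct
    have hHqn := hVD.ctSub_normal
    obtain ⟨H, hH⟩ : ∃ H : Subgroup G, H = hVD.ctSub.comap (QuotientGroup.mk' V) := ⟨_, rfl⟩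
    have hHn : H.Normal := by rw [hH]; infer_instance
    have hmemH : ∀ a : G, a ∈ H ↔ QuotientGroup.mk' V a ∈ hVD.ctSub := by
      intro a; rw [hH, Subgroup.mem_comap]
    have hVH : V ≤ H := by
      intro v hv
      rw [hmemH, mk_eq_one_iff.mpr hv]
      exact Subgroup.one_mem _
    have hHM : H ≤ D.M := by
      intro a ha
      rw [hmemH, hVD.mem_ctSub, hDM] at ha
      exact (mk_mem_Mq_iff S.hV.hVM).mp ha.1
    have hgH : g ∉ H := by
      intro hg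
      rw [hmemH, hVD.mem_ctSub] at hg
      exact hct hg.2
    have hFM : F D.x g ∈ D.M := by
      unfold F
      exact D.M.mul_mem (D.hMn.conj_mem g S.hgM D.x) (D.M.inv_mem S.hgM)
    have hxH : F D.x g ∈ H := by
      rw [hmemH, hVD.mem_ctSub, hDM]
      refine ⟨⟨_, hFM, rfl⟩, ?_⟩
      intro v hv
      rw [hV₁q, sup_zpowers_eq_closure] at hv
      refine F_mem_of_closure (Z₀ := Dq.Z V₁q) (fun z hz r => hVD.conj_Z hz r) _ _ ?_ v hv
      rintro s (hs | hs)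
      · have : F (QuotientGroup.mk' V (F D.x g)) s = 1 := by
          rw [F_eq_one_iff]
          exact (hU1c s hs _ ⟨_, hFM, rfl⟩).symm
        rw [this]; exact Subgroup.one_mem _
      · rw [Set.mem_singleton_iff] at hs
        rw [hs, map_F, F_F_eq T.U1 (Mq D V) hU1ab hU1c S.mk_g_mem_Mq hy₂c, ← hDx]
        apply hVD.F_mem_Z
        rw [hDU, F_eq_commutator, ← commutatorElement_inv]
        exact Subgroup.inv_mem _ (hy₂c _)
    have hHC : H = C D V :=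
      S.unique_max_eq H (C D V) hVH S.V_le_C hgH S.g_not_mem_C hHM S.C_le_M hxH S.F_x_g_mem_C
    -- the preimage of `V₁`
    obtain ⟨V₁, hV₁⟩ : ∃ V₁ : Subgroup G, V₁ = V₁q.comap (QuotientGroup.mk' V) := ⟨_, rfl⟩
    have hV₁n' : V₁.Normal := by rw [hV₁]; infer_instance
    have hmemV₁ : ∀ a : G, a ∈ V₁ ↔ QuotientGroup.mk' V a ∈ V₁q := by
      intro a; rw [hV₁, Subgroup.mem_comap]
    have hV₁C : V₁ ≤ C D V := by
      rw [← hHC]
      intro k hk
      rw [hmemV₁] at hk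
      rw [hmemH]
      exact hVD.V_le_ctSub hk
    have hV₁comm : ∀ a ∈ V₁, ∀ b ∈ V₁, ⁅b, a⁆ ∈ V := by
      intro a ha b hb
      rw [hmemV₁] at ha hb
      rw [← mk_eq_one_iff, map_commutatorElement, commutatorElement_eq_one_iff_commute]
      exact hV₁ab _ hb _ ha
    have hz₁V₁ : z₁ ∈ V₁ := by rw [hmemV₁]; exact hU1V₁ T.zq_mem_U1
    intro v hv
    obtain ⟨k, rfl⟩ := QuotientGroup.mk'_surjective V v
    have hk : k ∈ V₁ := (hmemV₁ k).mpr hv
    have hk3V : k ^ 3 ∈ V := by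
      rw [← mk_eq_one_iff, map_pow]; exact hV₁exp _ hv
    have hconj : g * k * g⁻¹ ∈ V₁ := hV₁n'.conj_mem k hk g
    have hdV₁ : F g k ∈ V₁ := by
      unfold F; exact V₁.mul_mem hconj (V₁.inv_mem hk)
    have hd3 : (F g k) ^ 3 = F g (k ^ 3) := by
      have : F g k = (g * k * g⁻¹) * k⁻¹ := rfl
      rw [this, S.cube_hom V₁ hV₁C hV₁comm hconj (V₁.inv_mem hk), conj_pow, inv_pow]
      rfl
    have hd3Z : (F g k) ^ 3 ∈ D.Z V := by rw [hd3]; exact S.hct _ hk3V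
    obtain ⟨j, hj⟩ := S.exists_pow_mul_mem_V T.hzZ T.hz3 V₁ hV₁C hV₁comm hz₁V₁ hdV₁ hd3Z
    rw [← hZq, ← map_F]
    refine ⟨(j : ℤ), ?_⟩
    have h1 : QuotientGroup.mk' V ((z₁ ^ j)⁻¹ * F g k) = 1 := mk_eq_one_iff.mpr hj
    rw [map_mul, map_inv, map_pow] at h1
    have h2 := eq_of_inv_mul_eq_one h1
    show (QuotientGroup.mk' V z₁) ^ (j : ℤ) = _
    rw [zpow_natCast, h2]

end Star

/-- **Main theorem**: no configuration of central type exists. -/
theorem no_star : ∀ (n : ℕ) (G : Type u) [Group G] [Finite G], Nat.card G = n →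
    ∀ (D : Cfg G) (V : Subgroup G) (g : G), Star D V g → False := by
  intro n
  induction n using Nat.strong_induction_on with
  | _ n ih =>
    intro G _ _ hn D V g S
    have hVn : V.Normal := S.hV.hVn
    apply S.step
    intro D' V' g' S'
    refine ih (Nat.card (G ⧸ V)) ?_ (G ⧸ V) rfl D' V' g' S'
    rw [← hn, Subgroup.card_eq_card_quotient_mul_card_subgroup V, S.hV.hVcard]
    have : 0 < Nat.card (G ⧸ V) := Nat.card_pos
    omega


end Cfsg.Agent.Lib.Helper30.MaxE9
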