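import Mathlib
import Cfsg.Agent.Lib.Helper30.MaxE9Main
import Cfsg.Agent.Lib.Helper45.RankTools
import Cfsg.Agent.Lib.Helper49.RankOneCyclic

/-!
# A 3-group with a maximal elementary abelian subgroup of order nine has rank at most three (helper30)

Reduction to `no_star`.
-/

set_option autoImplicit false
set_option linter.unusedSectionVars false
set_option linter.unusedVariables false

open scoped commutatorElement

namespace Cfsg.Agent.Lib.Helper30.MaxE9

universe u

/-! ### Restriction of a configuration to a subgroup -/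

section restrict

variable {G : Type u} [Group G] [Finite G]

omit [Finite G] in
theorem coe_F (T : Subgroup G) (a b : ↥T) : ((F a b : ↥T) : G) = F (a : G) (b : G) := by
  unfold F; simp

/-- restriction of a configuration to a subgroup `T` containing `x` and `U` -/
def Cfg.restrict (D : Cfg G) (T : Subgroup G) (hxT : D.x ∈ T) (hUT : D.U ≤ T) (c' : G)
    (hc'T : c' ∈ T) (hc'M : c' ∈ D.M) (hc'x : c' * D.x = D.x * c')
    (hc' : ∀ m ∈ D.M ⊓ T, m * D.x = D.x * m → m ∈ Subgroup.zpowers c') : Cfg ↥T where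
  M := D.M.subgroupOf T
  x := ⟨D.x, hxT⟩
  c := ⟨c', hc'T⟩
  U := D.U.subgroupOf T
  hG := D.hG.to_subgroup T
  hMn := D.hMn.subgroupOf T
  hMi := by
    have := D.hMn
    have h1 : D.M.relIndex T ∣ 3 := D.hMi ▸ Subgroup.relIndex_dvd_index_of_normal D.M T
    have h2 : D.M.relIndex T ≠ 1 := by
      rw [Ne, Subgroup.relIndex_eq_one]
      intro h
      exact D.hxM (h hxT)
    have hp : Nat.Prime 3 := by norm_num
    rcases (Nat.dvd_prime hp).mp h1 with h | h
    · exact absurd h h2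
    · exact h
  hx3 := Subtype.ext (by simpa using D.hx3)
  hxM := fun h => D.hxM (Subgroup.mem_subgroupOf.mp h)
  hcM := Subgroup.mem_subgroupOf.mpr hc'M
  hcx := Subtype.ext hc'x
  hcyc := by
    intro m hm hcomm
    have hm' : (m : G) ∈ D.M ⊓ T := ⟨Subgroup.mem_subgroupOf.mp hm, m.2⟩
    have hcomm' : (m : G) * D.x = D.x * (m : G) := congrArg Subtype.val hcomm
    obtain ⟨n, hn⟩ := hc' _ hm' hcomm'
    refine ⟨n, Subtype.ext ?_⟩
    simpa using hn
  hUn := D.hUn.subgroupOf T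
  hUM := fun u hu => Subgroup.mem_subgroupOf.mpr (D.hUM (Subgroup.mem_subgroupOf.mp hu))
  hUcard := (Nat.card_congr (Subgroup.subgroupOfEquivOfLe hUT).toEquiv).trans D.hUcard
  hUexp := by
    intro u hu
    apply Subtype.ext
    simpa using D.hUexp _ (Subgroup.mem_subgroupOf.mp hu)
  hUc := by
    intro u hu m hm
    apply Subtype.ext
    simpa using D.hUc _ (Subgroup.mem_subgroupOf.mp hu) _ (Subgroup.mem_subgroupOf.mp hm)

end restrict

/-! ### Cyclic subgroups -/

/-- a subgroup of a 3-group all of whose elements of order three lie in `⟨z⟩` is cyclic -/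
theorem exists_cyclic_gen {P : Type u} [Group P] [Finite P] (hP : IsPGroup 3 P) (L : Subgroup P)
    (z : P) (hz3 : z ^ 3 = 1) (hL : ∀ t ∈ L, t ^ 3 = 1 → t ∈ Subgroup.zpowers z) :
    ∃ c ∈ L, ∀ m ∈ L, m ∈ Subgroup.zpowers c := by
  have hp : Fact (Nat.Prime 3) := ⟨by norm_num⟩
  have hrk : Cfsg.PRankLE 3 1 ↥L := by
    intro B _ hBexp
    have hle : B.map L.subtype ≤ Subgroup.zpowers z := by
      rintro _ ⟨b, hb, rfl⟩
      apply hL _ b.2
      have := hBexp b hb
      have := congrArg Subtype.val this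
      simpa using this
    have h1 : Nat.card ↥B = Nat.card ↥(B.map L.subtype) :=
      (Subgroup.card_map_of_injective L.subtype_injective).symm
    rw [h1]
    calc Nat.card ↥(B.map L.subtype) ≤ Nat.card ↥(Subgroup.zpowers z) := Subgroup.card_le_of_le hle
      _ = orderOf z := Nat.card_zpowers z
      _ ≤ 3 := Nat.le_of_dvd (by norm_num) (orderOf_dvd_of_pow_eq_one hz3)
      _ = 3 ^ 1 := by norm_num
  have hcyc : IsCyclic ↥L :=
    Cfsg.Agent.Lib.Helper49.isCyclic_of_pRankLE_one (by norm_num) (hP.to_subgroup L) hrk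
  obtain ⟨c, hc⟩ := hcyc.exists_generator
  refine ⟨c.1, c.2, ?_⟩
  intro m hm
  obtain ⟨n, hn⟩ := hc ⟨m, hm⟩
  refine ⟨n, ?_⟩
  have := congrArg Subtype.val hn
  simpa using this

/-! ### The reduction -/

section rank

variable {P : Type u} [Group P] [Finite P]

theorem relIndex_le_index' (H K : Subgroup P) : H.relIndex K ≤ H.index := by
  have h0 : H.relIndex ⊤ ≠ 0 := by
    rw [Subgroup.relIndex_top_right]; exact Subgroup.index_ne_zero_of_finite
  have := Subgroup.relIndex_le_of_le_right (H := H) (K := K) (L := ⊤) le_top h0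
  rwa [Subgroup.relIndex_top_right] at this

/-- the setup: `X` is a maximal elementary abelian subgroup, of order nine, and `A` is elementary
abelian of order greater than 27 -/
structure MaxSetup (X A : Subgroup P) : Prop where
  hP : IsPGroup 3 P
  hXab : ∀ a ∈ X, ∀ b ∈ X, a * b = b * a
  hXexp : ∀ a ∈ X, a ^ 3 = 1
  hXcard : Nat.card ↥X = 9
  hXmax : ∀ t : P, (∀ a ∈ X, t * a = a * t) → t ^ 3 = 1 → t ∈ X
  hAab : ∀ a ∈ A, ∀ b ∈ A, a * b = b * a
  hAexp : ∀ a ∈ A, a ^ 3 = 1
  hAcard : 27 < Nat.card ↥A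

theorem MaxSetup.exists_cfg {X A : Subgroup P} (h : MaxSetup X A) :
    ∃ (D : Cfg P) (z : P), (∀ r : P, z * r = r * z) ∧ z ^ 3 = 1 ∧ z ≠ 1 ∧ z ∈ D.U ∧
      D.M = Subgroup.centralizer (D.U : Set P) ∧
      ∀ t ∈ D.M, t * D.x = D.x * t → t ^ 3 = 1 → t ∈ Subgroup.zpowers z := by
  have hp : Fact (Nat.Prime 3) := ⟨by norm_num⟩
  have hP := h.hP
  -- (1) a central element of order three
  have htop : (⊤ : Subgroup P) ≠ ⊥ := by
    intro htb
    have : X = ⊥ := by rw [eq_bot_iff, ← htb]; exact le_top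
    have h1 := h.hXcard
    rw [this, Subgroup.card_bot] at h1
    omega
  obtain ⟨z, -, hzc, hzo⟩ := Cfsg.Agent.Lib.Helper45.exists_central_orderOf_eq hP ⊤ htop
  have hzc' : ∀ r : P, z * r = r * z := fun r => (Subgroup.mem_center_iff.mp hzc r).symm
  have hz3 : z ^ 3 = 1 := by rw [← hzo]; exact pow_orderOf_eq_one z
  have hz1 : z ≠ 1 := by
    rintro rfl
    rw [orderOf_one] at hzo; omega
  have hzX : z ∈ X := h.hXmax z (fun a _ => hzc' a) hz3
  have hzn : (Subgroup.zpowers z).Normal := zpowers_normal_of_central hzc'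
  have hcz : Nat.card ↥(Subgroup.zpowers z) = 3 := by rw [Nat.card_zpowers, hzo]
  -- (2) `x ∈ X ∖ ⟨z⟩`
  obtain ⟨x, hxX, hxz⟩ : ∃ x ∈ X, x ∉ Subgroup.zpowers z := by
    by_contra hcon
    push Not at hcon
    have hle : X ≤ Subgroup.zpowers z := hcon
    have := Subgroup.card_le_of_le hle
    rw [hcz, h.hXcard] at this
    omega
  have hx3 : x ^ 3 = 1 := h.hXexp x hxX
  have hXeq : Subgroup.zpowers z ⊔ Subgroup.zpowers x = X := by
    apply Subgroup.eq_of_le_of_card_ge
    · exact sup_le (by rw [Subgroup.zpowers_le]; exact hzX) (by rw [Subgroup.zpowers_le]; exact hxX)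
    · rw [card_sup_zpowers _ hx3 hxz, hcz, h.hXcard]
  have hXcomm : ∀ t : P, t * x = x * t → ∀ a ∈ X, t * a = a * t := by
    intro t htx
    have hle : X ≤ Subgroup.centralizer ({t} : Set P) := by
      rw [← hXeq]
      apply sup_le
      · rw [Subgroup.zpowers_le, Subgroup.mem_centralizer_singleton_iff]
        exact hzc' t
      · rw [Subgroup.zpowers_le, Subgroup.mem_centralizer_singleton_iff]
        exact htx.symm
    intro a ha
    have := hle ha
    rw [Subgroup.mem_centralizer_singleton_iff] at this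
    exact this.symm
  -- (3) the normal subgroup `U`
  have hAc : IsMulCommutative ↥A := ⟨⟨fun a b => Subtype.ext (h.hAab a a.2 b b.2)⟩⟩
  obtain ⟨U, hUn, ⟨hUc, hUexp⟩, hUcard⟩ :=
    Cfsg.Agent.Lib.Helper45.exists_normal_elementaryAbelian_sq hP A hAc h.hAexp
      (by have := h.hAcard; omega)
  have hUcard9 : Nat.card ↥U = 9 := by rw [hUcard]; norm_num
  have hUab : ∀ a ∈ U, ∀ b ∈ U, a * b = b * a :=
    fun a ha b hb => congrArg Subtype.val (hUc.is_comm.comm ⟨a, ha⟩ ⟨b, hb⟩)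
  -- (4) central elements of order three lie in `⟨z⟩`
  have hcent : ∀ w : P, (∀ r : P, w * r = r * w) → w ^ 3 = 1 → w ∈ Subgroup.zpowers z := by
    intro w hwc hw3
    by_contra hw
    have hwX : w ∈ X := h.hXmax w (fun a _ => hwc a) hw3
    have hWeq : Subgroup.zpowers z ⊔ Subgroup.zpowers w = X := by
      apply Subgroup.eq_of_le_of_card_ge
      · exact sup_le (by rw [Subgroup.zpowers_le]; exact hzX)
          (by rw [Subgroup.zpowers_le]; exact hwX)
      · rw [card_sup_zpowers _ hw3 hw, hcz, h.hXcard]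
    have hXc : X ≤ Subgroup.center P := by
      rw [← hWeq]
      apply sup_le
      · rw [Subgroup.zpowers_le]; exact hzc
      · rw [Subgroup.zpowers_le, Subgroup.mem_center_iff]
        exact fun r => (hwc r).symm
    have hAX : A ≤ X := by
      intro a ha
      apply h.hXmax a _ (h.hAexp a ha)
      intro b hb
      exact Subgroup.mem_center_iff.mp (hXc hb) a
    have := Subgroup.card_le_of_le hAX
    rw [h.hXcard] at this
    have := h.hAcard
    omega
  -- (5) `z ∈ U`
  have hU1 : U ≠ ⊥ := by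
    rintro rfl
    rw [Subgroup.card_bot] at hUcard9
    omega
  have hzU : z ∈ U := by
    obtain ⟨w, hwU, hwc, hwo⟩ := Cfsg.Agent.Lib.Helper45.exists_central_orderOf_eq hP U hU1
    have hw3 : w ^ 3 = 1 := by rw [← hwo]; exact pow_orderOf_eq_one w
    have hw1 : w ≠ 1 := by
      rintro rfl
      rw [orderOf_one] at hwo; omega
    have hwz := hcent w (fun r => (Subgroup.mem_center_iff.mp hwc r).symm) hw3
    obtain ⟨i, -, hi⟩ := exists_pow_eq_of_mem_zpowers hz3 hwz hw1 (Subgroup.mem_zpowers z)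
    rw [← hi]; exact U.pow_mem hwU i
  -- (6) `M = C_P(U)`
  have hMn : (Subgroup.centralizer (U : Set P)).Normal := inferInstance
  have hMle : (Subgroup.centralizer (U : Set P)).index ≤ 3 :=
    Cfsg.Agent.Lib.Helper45.index_centralizer_normal_sq_le hP U hUcard
  have hzM : z ∈ Subgroup.centralizer (U : Set P) := by
    rw [Subgroup.mem_centralizer_iff]
    intro u _
    exact (hzc' u).symm
  -- (7) `x ∉ M`
  have hxM : x ∉ Subgroup.centralizer (U : Set P) := by
    intro hxM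
    rw [Subgroup.mem_centralizer_iff] at hxM
    have hUX : U ≤ X := by
      intro u hu
      exact h.hXmax u (hXcomm u (hxM u hu)) (hUexp u hu)
    have hUeqX : U = X := Subgroup.eq_of_le_of_card_ge hUX (by rw [hUcard9, h.hXcard])
    have hCle : (Subgroup.centralizer (X : Set P)).index ≤ 3 := by rw [← hUeqX]; exact hMle
    have h1 := card_inf_mul_relIndex (Subgroup.centralizer (X : Set P)) A
    have h2 := relIndex_le_index' (Subgroup.centralizer (X : Set P)) A
    have h3 : Subgroup.centralizer (X : Set P) ⊓ A ≤ X := by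
      intro a ha
      apply h.hXmax a _ (h.hAexp a ha.2)
      intro b hb
      exact (Subgroup.mem_centralizer_iff.mp ha.1 b hb).symm
    have h4 := Subgroup.card_le_of_le h3
    rw [h.hXcard] at h4
    have h5 := h.hAcard
    have h6 : (Subgroup.centralizer (X : Set P)).relIndex A ≤ 3 := le_trans h2 hCle
    have h7 : Nat.card ↥(Subgroup.centralizer (X : Set P) ⊓ A : Subgroup P) *
        (Subgroup.centralizer (X : Set P)).relIndex A ≤ 9 * 3 := Nat.mul_le_mul h4 h6
    omega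
  -- (8) the index is three
  have hMi : (Subgroup.centralizer (U : Set P)).index = 3 := by
    obtain ⟨n, hn⟩ := hP.exists_card_eq
    have h1 : (Subgroup.centralizer (U : Set P)).index ∣ 3 ^ n :=
      hn ▸ Subgroup.index_dvd_card _
    obtain ⟨k, -, hk⟩ := (Nat.dvd_prime_pow (by norm_num : Nat.Prime 3)).mp h1
    have h2 : (Subgroup.centralizer (U : Set P)).index ≠ 1 := by
      rw [Ne, Subgroup.index_eq_one]
      intro h
      apply hxM
      rw [h]; trivial
    rw [hk] at h2 hMle ⊢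
    have hk1 : k ≤ 1 := by
      by_contra hk2
      push Not at hk2
      have : 3 ^ 2 ≤ 3 ^ k := Nat.pow_le_pow_right (by norm_num) hk2
      omega
    interval_cases k
    · simp at h2
    · norm_num
  -- (9) elements of order three of `C_M(x)`
  have hXM : X ⊓ Subgroup.centralizer (U : Set P) = Subgroup.zpowers z := by
    symm
    apply Subgroup.eq_of_le_of_card_ge
    · rw [Subgroup.zpowers_le]; exact ⟨hzX, hzM⟩
    · rw [hcz]
      have hlt : X ⊓ Subgroup.centralizer (U : Set P) < X := by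
        refine lt_of_le_of_ne inf_le_left ?_
        intro heq
        apply hxM
        have : x ∈ X ⊓ Subgroup.centralizer (U : Set P) := by rw [heq]; exact hxX
        exact this.2
      have h1 := card_lt_of_lt hlt
      have h2 : Nat.card ↥(X ⊓ Subgroup.centralizer (U : Set P) : Subgroup P) ∣ 9 :=
        h.hXcard ▸ Subgroup.card_dvd_of_le inf_le_left
      rw [h.hXcard] at h1
      generalize Nat.card ↥(X ⊓ Subgroup.centralizer (U : Set P) : Subgroup P) = m at h1 h2
      interval_cases m <;> omega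
  have hord3 : ∀ t ∈ Subgroup.centralizer (U : Set P), t * x = x * t → t ^ 3 = 1 →
      t ∈ Subgroup.zpowers z := by
    intro t htM htx ht3
    rw [← hXM]
    exact ⟨h.hXmax t (hXcomm t htx) ht3, htM⟩
  -- (10) the generator of `C_M(x)`
  obtain ⟨c, hcL, hc⟩ := exists_cyclic_gen hP
    (Subgroup.centralizer (U : Set P) ⊓ Subgroup.centralizer ({x} : Set P)) z hz3
    (by
      intro t ht ht3
      apply hord3 t ht.1 _ ht3
      exact Subgroup.mem_centralizer_singleton_iff.mp ht.2)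
  -- (11) the configuration
  refine ⟨⟨Subgroup.centralizer (U : Set P), x, c, U, hP, hMn, hMi, hx3, hxM, hcL.1,
    Subgroup.mem_centralizer_singleton_iff.mp hcL.2, ?_, hUn, ?_, hUcard9, hUexp, ?_⟩, z, hzc',
    hz3, hz1, hzU, rfl, hord3⟩
  · intro m hm hmx
    exact hc m ⟨hm, Subgroup.mem_centralizer_singleton_iff.mpr hmx⟩
  · intro u hu
    rw [Subgroup.mem_centralizer_iff]
    intro v hv
    exact hUab v hv u hu
  · intro u hu m hm
    exact Subgroup.mem_centralizer_iff.mp hm u hu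

/-- the subgroup `A' = (A ∩ M) U` -/
theorem exists_A' (D : Cfg P) (hDM : D.M = Subgroup.centralizer (D.U : Set P)) (A : Subgroup P)
    (hAab : ∀ a ∈ A, ∀ b ∈ A, a * b = b * a) (hAexp : ∀ a ∈ A, a ^ 3 = 1)
    (hAcard : 27 < Nat.card ↥A) :
    ∃ A' : Subgroup P, (∀ a ∈ A', ∀ b ∈ A', a * b = b * a) ∧ (∀ a ∈ A', a ^ 3 = 1) ∧ A' ≤ D.M ∧
      D.U ≤ A' ∧ 27 < Nat.card ↥A' := by
  have hUab : ∀ a ∈ D.U, ∀ b ∈ D.U, a * b = b * a := fun a ha b hb => D.hUc a ha b (D.hUM hb)
  have hBU : ∀ a ∈ A ⊓ D.M, ∀ u ∈ D.U, a * u = u * a :=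
    fun a ha u hu => (D.hUc u hu a ha.2).symm
  have hEA : Cfsg.IsElementaryAbelian 3 (A ⊓ D.M) :=
    ⟨⟨⟨fun a b => Subtype.ext (hAab a a.2.1 b b.2.1)⟩⟩, fun a ha => hAexp a ha.1⟩
  have hEU : Cfsg.IsElementaryAbelian 3 D.U :=
    ⟨⟨⟨fun a b => Subtype.ext (hUab a a.2 b b.2)⟩⟩, D.hUexp⟩
  have hE := Cfsg.Agent.Lib.Helper45.isElementaryAbelian_sup hEA hEU hBU
  refine ⟨(A ⊓ D.M) ⊔ D.U,
    fun a ha b hb => Cfsg.Agent.Lib.Helper45.IsElementaryAbelian_comm hE ha hb, hE.2,
    sup_le inf_le_right D.hUM, le_sup_right, ?_⟩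
  by_cases hUA : D.U ≤ A
  · have hAM : A ≤ D.M := by
      intro a ha
      rw [hDM, Subgroup.mem_centralizer_iff]
      intro u hu
      exact hAab u (hUA hu) a ha
    have : A ≤ (A ⊓ D.M) ⊔ D.U := le_trans (le_inf le_rfl hAM) le_sup_left
    exact lt_of_lt_of_le hAcard (Subgroup.card_le_of_le this)
  · have hlt : A ⊓ D.M < (A ⊓ D.M) ⊔ D.U := by
      refine lt_of_le_of_ne le_sup_left ?_
      intro heq
      apply hUA
      have : D.U ≤ A ⊓ D.M := by rw [heq]; exact le_sup_right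
      exact this.trans inf_le_left
    have h1 := card_lt_of_lt hlt
    have h2 := card_inf_mul_relIndex D.M A
    have h3 := relIndex_le_index' D.M A
    rw [D.hMi] at h3
    rw [inf_comm] at h2
    obtain ⟨j, hj⟩ := (D.hG.to_subgroup (A ⊓ D.M)).exists_card_eq
    have h4 : 9 < Nat.card ↥(A ⊓ D.M : Subgroup P) := by nlinarith
    have hj3 : 3 ≤ j := by
      by_contra hj2
      push Not at hj2
      have : 3 ^ j ≤ 3 ^ 2 := Nat.pow_le_pow_right (by norm_num) (by omega)
      omega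
    have : 3 ^ 3 ≤ 3 ^ j := Nat.pow_le_pow_right (by norm_num) hj3
    omega

/-- the normal subgroup `V` of order 27 -/
theorem exists_V (D : Cfg P) (hDM : D.M = Subgroup.centralizer (D.U : Set P)) (A' : Subgroup P)
    (hA'exp : ∀ a ∈ A', a ^ 3 = 1) (hA'M : A' ≤ D.M) (hA'card : 27 < Nat.card ↥A') :
    ∃ (V : Subgroup P) (y : P), VD D V ∧ D.U ⊔ Subgroup.zpowers y = V ∧ y ∈ D.M ∧ y ^ 3 = 1 ∧
      y ∉ D.U ∧ ∀ r : P, ⁅y, r⁆ ∈ D.U := by
  have hp : Fact (Nat.Prime 3) := ⟨by norm_num⟩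
  have hUn := D.hUn
  have hUab : ∀ a ∈ D.U, ∀ b ∈ D.U, a * b = b * a := fun a ha b hb => D.hUc a ha b (D.hUM hb)
  obtain ⟨t, htA, htU⟩ : ∃ t ∈ A', t ∉ D.U := by
    by_contra hcon
    push Not at hcon
    have := Subgroup.card_le_of_le (show A' ≤ D.U from hcon)
    rw [D.hUcard] at this
    omega
  have hCab : D.U ≤ Subgroup.centralizer (D.U : Set P) := by rw [← hDM]; exact D.hUM
  have htT : t ∈ Subgroup.centralizer (D.U : Set P) := by rw [← hDM]; exact hA'M htA
  obtain ⟨y, hyT, hyU, hy3, hyc⟩ := Cfsg.Agent.Lib.Helper24.normal_replacement 3 (by norm_num)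
    D.hG D.U D.hUexp hCab t htT htU (hA'exp t htA)
  have hyM : y ∈ D.M := by rw [hDM]; exact hyT
  have hyU' : ∀ u ∈ D.U, y * u = u * y := fun u hu => (D.hUc u hu y hyM).symm
  obtain ⟨hab, hexp⟩ := sup_zpowers_elemAb D.U y hUab D.hUexp hyU' hy3
  refine ⟨D.U ⊔ Subgroup.zpowers y, y, ⟨sup_zpowers_normal D.U y hyc, le_sup_left,
    sup_le D.hUM (by rw [Subgroup.zpowers_le]; exact hyM), ?_, hexp, hab⟩, rfl, hyM, hy3, hyU, hyc⟩
  rw [card_sup_zpowers D.U hy3 hyU, D.hUcard]

/-- the element `a₀` of central type -/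
theorem exists_a0 (D : Cfg P) {V : Subgroup P} {y : P} (hV : VD D V)
    (hUy : D.U ⊔ Subgroup.zpowers y = V) (hyM : y ∈ D.M) (hyc : ∀ r : P, ⁅y, r⁆ ∈ D.U)
    (A' : Subgroup P) (hA'ab : ∀ a ∈ A', ∀ b ∈ A', a * b = b * a) (hA'exp : ∀ a ∈ A', a ^ 3 = 1)
    (hA'M : A' ≤ D.M) (hUA' : D.U ≤ A') (hA'card : 27 < Nat.card ↥A') :
    ∃ a₀ ∈ D.M, a₀ ^ 3 = 1 ∧ (∀ v ∈ V, F a₀ v ∈ D.Z V) ∧ ¬ ∀ v ∈ V, a₀ * v = v * a₀ := by
  have hUn := D.hUn
  have hVn := hV.hVn
  have hUab : ∀ a ∈ D.U, ∀ b ∈ D.U, a * b = b * a := fun a ha b hb => D.hUc a ha b (D.hUM hb)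
  have hyV : y ∈ V := by
    rw [← hUy]; exact (le_sup_right : Subgroup.zpowers y ≤ _) (Subgroup.mem_zpowers y)
  have hβU : ∀ m : P, F m y ∈ D.U := by
    intro m
    rw [F_eq_commutator, ← commutatorElement_inv]
    exact D.U.inv_mem (hyc m)
  have hβmul : ∀ a ∈ D.M, ∀ b : P, F (a * b) y = F b y * F a y := by
    intro a ha b
    rw [F_mul_left]
    have := D.hUc _ (hβU b) a ha
    rw [← this, mul_inv_cancel_right]
  have hβpow : ∀ a ∈ D.M, ∀ i : ℕ, F (a ^ i) y = (F a y) ^ i := by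
    intro a ha i
    induction i with
    | zero => simp [F_one_left]
    | succ i ih => rw [pow_succ', hβmul a ha, ih, pow_succ]
  have hZc : ∀ z ∈ D.Z V, ∀ r : P, r * z * r⁻¹ = z := fun z hz r => hV.conj_Z hz r
  have hct : ∀ m ∈ D.M, F m y ∈ D.Z V → ∀ v ∈ V, F m v ∈ D.Z V := by
    intro m hm hmy v hv
    rw [← hUy, sup_zpowers_eq_closure] at hv
    refine F_mem_of_closure hZc m _ ?_ v hv
    rintro s (hs | hs)
    · have : F m s = 1 := (F_eq_one_iff m s).mpr (D.hUc s hs m hm).symm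
      rw [this]; exact Subgroup.one_mem _
    · rw [Set.mem_singleton_iff] at hs; rw [hs]; exact hmy
  -- `A' ∩ V = U`
  have hA'V : A' ⊓ V = D.U := by
    symm
    apply Subgroup.eq_of_le_of_card_ge (le_inf hUA' hV.hUV)
    rw [D.hUcard]
    have hdvd : Nat.card ↥(A' ⊓ V : Subgroup P) ∣ 27 :=
      hV.hVcard ▸ Subgroup.card_dvd_of_le inf_le_right
    have hne : Nat.card ↥(A' ⊓ V : Subgroup P) ≠ 27 := by
      intro heq
      have hVA' : V ≤ A' := by
        have : A' ⊓ V = V := Subgroup.eq_of_le_of_card_ge inf_le_right (by rw [heq, hV.hVcard])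
        rw [← this]; exact inf_le_left
      have hA'V' : A' ≤ V := by
        intro a ha
        exact hV.mem_V_of_centralizes (fun v hv => hA'ab a ha v (hVA' hv)) (hA'exp a ha)
      have := Subgroup.card_le_of_le hA'V'
      rw [hV.hVcard] at this
      omega
    have hle : Nat.card ↥(A' ⊓ V : Subgroup P) ≤ 27 := Nat.le_of_dvd (by norm_num) hdvd
    generalize Nat.card ↥(A' ⊓ V : Subgroup P) = m at hdvd hne hle
    interval_cases m <;> omega
  -- the kernel
  have hker : ∀ a ∈ A', F a y = 1 → a ∈ D.U := by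
    intro a ha h1
    have hay : a * y = y * a := (F_eq_one_iff a y).mp h1
    have hcent : ∀ v ∈ V, a * v = v * a := by
      have hle : V ≤ Subgroup.centralizer ({a} : Set P) := by
        rw [← hUy]
        apply sup_le
        · intro u hu
          rw [Subgroup.mem_centralizer_singleton_iff]
          exact D.hUc u hu a (hA'M ha)
        · rw [Subgroup.zpowers_le, Subgroup.mem_centralizer_singleton_iff]
          exact hay.symm
      intro v hv
      have := hle hv
      rw [Subgroup.mem_centralizer_singleton_iff] at this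
      exact this.symm
    have haV := hV.mem_V_of_centralizes hcent (hA'exp a ha)
    rw [← hA'V]; exact ⟨ha, haV⟩
  -- pick `a`
  obtain ⟨a, haA, haU⟩ : ∃ a ∈ A', a ∉ D.U := by
    by_contra hcon
    push Not at hcon
    have := Subgroup.card_le_of_le (show A' ≤ D.U from hcon)
    rw [D.hUcard] at this
    omega
  have haM := hA'M haA
  have ht1 : F a y ≠ 1 := fun h => haU (hker a haA h)
  by_cases htZ : F a y ∈ D.Z V
  · refine ⟨a, haM, hA'exp a haA, hct a haM htZ, ?_⟩
    intro hc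
    exact ht1 ((F_eq_one_iff a y).mpr (hc y hyV))
  · obtain ⟨t, ht⟩ : ∃ t, t = F a y := ⟨_, rfl⟩
    rw [← ht] at ht1 htZ
    have htU : t ∈ D.U := ht ▸ hβU a
    have ht3 : t ^ 3 = 1 := D.hUexp t htU
    have hZn : (D.Z V).Normal := ⟨fun n hn r => by rw [hV.conj_Z hn]; exact hn⟩
    have hUeq : D.Z V ⊔ Subgroup.zpowers t = D.U := by
      apply Subgroup.eq_of_le_of_card_ge
        (sup_le hV.Z_le_U (by rw [Subgroup.zpowers_le]; exact htU))
      rw [card_sup_zpowers _ ht3 htZ, hV.card_Z, D.hUcard]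
    have hWcard : Nat.card ↥(D.U ⊔ Subgroup.zpowers a : Subgroup P) = 27 := by
      rw [card_sup_zpowers D.U (hA'exp a haA) haU, D.hUcard]
    obtain ⟨b, hbA, hbW⟩ : ∃ b ∈ A', b ∉ D.U ⊔ Subgroup.zpowers a := by
      by_contra hcon
      push Not at hcon
      have := Subgroup.card_le_of_le (show A' ≤ D.U ⊔ Subgroup.zpowers a from hcon)
      rw [hWcard] at this
      omega
    have hbM := hA'M hbA
    have hFb : F b y ∈ D.Z V ⊔ Subgroup.zpowers t := by rw [hUeq]; exact hβU b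
    rw [Subgroup.mem_sup_of_normal_left] at hFb
    obtain ⟨ζ, hζ, w, hw, hζw⟩ := hFb
    obtain ⟨i, -, hi⟩ := exists_pow_eq_of_mem_zpowers ht3 (Subgroup.mem_zpowers t) ht1
      (Subgroup.inv_mem _ hw)
    have ha₀A : b * a ^ i ∈ A' := A'.mul_mem hbA (A'.pow_mem haA i)
    have hζU := hV.Z_le_U hζ
    have hwU : w ∈ D.U := by
      rw [← hUeq]; exact (le_sup_right : Subgroup.zpowers t ≤ _) hw
    have hβ : F (b * a ^ i) y = ζ := by
      rw [hβmul b hbM, hβpow a haM, ← ht, hi, ← hζw, hUab ζ hζU w hwU]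
      group
    refine ⟨b * a ^ i, hA'M ha₀A, hA'exp _ ha₀A, hct _ (hA'M ha₀A) (hβ ▸ hζ), ?_⟩
    intro hc
    have h1 : F (b * a ^ i) y = 1 := (F_eq_one_iff _ _).mpr (hc y hyV)
    have h2 := hker _ ha₀A h1
    apply hbW
    have : b = (b * a ^ i) * (a ^ i)⁻¹ := by group
    rw [this]
    exact Subgroup.mul_mem _ ((le_sup_left : D.U ≤ _) h2)
      (Subgroup.inv_mem _ (Subgroup.pow_mem _
        ((le_sup_right : Subgroup.zpowers a ≤ _) (Subgroup.mem_zpowers a)) i))

/-- Dedekind's law for `M' ⟨x⟩ ∩ M`. -/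
theorem inf_sup_zpowers_le (M M' : Subgroup P) (x : P) (hM'M : M' ≤ M) (hx3 : x ^ 3 = 1)
    (hxM : x ∉ M) (hconj : ∀ m ∈ M', x * m * x⁻¹ ∈ M') :
    M ⊓ (M' ⊔ Subgroup.zpowers x) ≤ M' := by
  have hxxx : x * (x * x) = 1 := by rw [← pow_three]; exact hx3
  have hxx : x⁻¹ = x * x := inv_eq_of_mul_eq_one_right hxxx
  have hconj' : ∀ m ∈ M', x⁻¹ * m * x ∈ M' := by
    intro m hm
    have e : x⁻¹ * m * x = x * (x * m * x⁻¹) * x⁻¹ := by
      have h1 : x * (x * m * x⁻¹) * x⁻¹ = (x * x) * m * (x * x)⁻¹ := by group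
      rw [h1, ← hxx, inv_inv]
    rw [e]
    exact hconj _ (hconj m hm)
  have hxN : x ∈ Subgroup.normalizer (M' : Set P) := by
    rw [Subgroup.mem_normalizer_iff]
    intro m
    constructor
    · exact hconj m
    · intro hm
      have := hconj' _ hm
      have e : x⁻¹ * (x * m * x⁻¹) * x = m := by group
      rwa [e] at this
  have hle : Subgroup.zpowers x ≤ Subgroup.normalizer (M' : Set P) := by
    rw [Subgroup.zpowers_le]; exact hxN
  intro r hr
  have hr2 : r ∈ ((M' ⊔ Subgroup.zpowers x : Subgroup P) : Set P) := hr.2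
  rw [Subgroup.coe_mul_of_right_le_normalizer_left M' (Subgroup.zpowers x) hle] at hr2
  obtain ⟨m, hm, w, hw, hmw⟩ := hr2
  have hmw' : m * w = r := hmw
  have hwM : w ∈ M := by
    have : w = m⁻¹ * r := by rw [← hmw']; group
    rw [this]
    exact M.mul_mem (M.inv_mem (hM'M hm)) hr.1
  have hw1 : w = 1 := by
    by_contra hne
    apply hxM
    obtain ⟨i, -, hi⟩ := exists_pow_eq_of_mem_zpowers hx3 hw hne (Subgroup.mem_zpowers x)
    rw [← hi]; exact M.pow_mem hwM i
  rw [← hmw', hw1, mul_one]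
  exact hm

/-- **Theorem R**: a 3-group with a maximal elementary abelian subgroup of order nine has no
elementary abelian subgroup of order greater than 27. -/
theorem MaxSetup.false {X A : Subgroup P} (h : MaxSetup X A) : False := by
  obtain ⟨D, z, hzc, hz3, hz1, hzU, hDM, hord3⟩ := h.exists_cfg
  obtain ⟨A', hA'ab, hA'exp, hA'M, hUA', hA'card⟩ :=
    exists_A' D hDM A h.hAab h.hAexp h.hAcard
  obtain ⟨V, y, hV, hUy, hyM, hy3, hyU, hyc⟩ := exists_V D hDM A' hA'exp hA'M hA'card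
  obtain ⟨a₀, ha₀M, ha₀3, ha₀ct, ha₀nc⟩ :=
    exists_a0 D hV hUy hyM hyc A' hA'ab hA'exp hA'M hUA' hA'card
  -- `M'` and `T`
  obtain ⟨M', hM'⟩ : ∃ M' : Subgroup P, M' = Subgroup.closure (genSet D V a₀) := ⟨_, rfl⟩
  obtain ⟨T, hT⟩ : ∃ T : Subgroup P, T = M' ⊔ Subgroup.zpowers D.x := ⟨_, rfl⟩
  have hVM' : V ≤ M' := by
    rw [hM']; intro v hv; exact Subgroup.subset_closure (Or.inl hv)
  have ha₀M' : a₀ ∈ M' := by
    rw [hM']; exact Subgroup.subset_closure (Or.inr (Or.inl rfl))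
  have hM'M : M' ≤ D.M := by
    rw [hM', Subgroup.closure_le]
    rintro s (hs | hs | hs | hs)
    · exact hV.hVM hs
    · rw [hs]; exact ha₀M
    · rw [hs]; exact D.hMn.conj_mem _ ha₀M _
    · rw [Set.mem_singleton_iff] at hs
      rw [hs]; exact D.hMn.conj_mem _ (D.hMn.conj_mem _ ha₀M _) _
  have hconj : ∀ m ∈ M', D.x * m * D.x⁻¹ ∈ M' := by
    intro m hm
    rw [hM'] at hm ⊢
    induction hm using Subgroup.closure_induction with
    | mem s hs =>
      rcases hs with hs | hs | hs | hs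
      · exact Subgroup.subset_closure (Or.inl (hV.hVn.conj_mem s hs D.x))
      · rw [hs]; exact Subgroup.subset_closure (Or.inr (Or.inr (Or.inl rfl)))
      · rw [hs]; exact Subgroup.subset_closure (Or.inr (Or.inr (Or.inr rfl)))
      · rw [Set.mem_singleton_iff] at hs
        rw [hs]
        have e : D.x * (D.x * (D.x * a₀ * D.x⁻¹) * D.x⁻¹) * D.x⁻¹ = a₀ := by
          have h3 := mul_self_mul_eq_one D.hx3
          calc D.x * (D.x * (D.x * a₀ * D.x⁻¹) * D.x⁻¹) * D.x⁻¹
              = (D.x * D.x * D.x) * a₀ * (D.x * D.x * D.x)⁻¹ := by group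
            _ = a₀ := by rw [h3]; group
        rw [e]; exact Subgroup.subset_closure (Or.inr (Or.inl rfl))
    | one => simp
    | mul a b _ _ iha ihb =>
      have : D.x * (a * b) * D.x⁻¹ = (D.x * a * D.x⁻¹) * (D.x * b * D.x⁻¹) := by group
      rw [this]; exact Subgroup.mul_mem _ iha ihb
    | inv a _ iha =>
      have : D.x * a⁻¹ * D.x⁻¹ = (D.x * a * D.x⁻¹)⁻¹ := by group
      rw [this]; exact Subgroup.inv_mem _ iha
  have hxT : D.x ∈ T := by
    rw [hT]; exact (le_sup_right : Subgroup.zpowers D.x ≤ _) (Subgroup.mem_zpowers _)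
  have hM'T : M' ≤ T := by rw [hT]; exact le_sup_left
  have hMT : D.M ⊓ T = M' :=
    le_antisymm (by rw [hT]; exact inf_sup_zpowers_le D.M M' D.x hM'M D.hx3 D.hxM hconj)
      (le_inf hM'M hM'T)
  have hVT : V ≤ T := hVM'.trans hM'T
  have hUT : D.U ≤ T := hV.hUV.trans hVT
  have ha₀T : a₀ ∈ T := hM'T ha₀M'
  -- the generator `c'`
  obtain ⟨c', hc'L, hc'⟩ := exists_cyclic_gen D.hG
    (D.M ⊓ T ⊓ Subgroup.centralizer ({D.x} : Set P)) z hz3 (by
      intro t ht ht3
      exact hord3 t ht.1.1 (Subgroup.mem_centralizer_singleton_iff.mp ht.2) ht3)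
  -- the restricted configuration
  obtain ⟨D', hD'⟩ : ∃ D' : Cfg ↥T, D' = D.restrict T hxT hUT c' hc'L.1.2 hc'L.1.1
      (Subgroup.mem_centralizer_singleton_iff.mp hc'L.2)
      (fun m hm hmx => hc' m ⟨hm, Subgroup.mem_centralizer_singleton_iff.mpr hmx⟩) := ⟨_, rfl⟩
  have hD'M : D'.M = D.M.subgroupOf T := by rw [hD']; rfl
  have hD'x : (D'.x : P) = D.x := by rw [hD']; rfl
  have hD'U : D'.U = D.U.subgroupOf T := by rw [hD']; rfl
  have hVD' : VD D' (V.subgroupOf T) := by
    refine ⟨hV.hVn.subgroupOf T, ?_, ?_, ?_, ?_, ?_⟩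
    · rw [hD'U]
      intro u hu
      exact Subgroup.mem_subgroupOf.mpr (hV.hUV (Subgroup.mem_subgroupOf.mp hu))
    · rw [hD'M]
      intro v hv
      exact Subgroup.mem_subgroupOf.mpr (hV.hVM (Subgroup.mem_subgroupOf.mp hv))
    · exact (Nat.card_congr (Subgroup.subgroupOfEquivOfLe hVT).toEquiv).trans hV.hVcard
    · intro v hv
      apply Subtype.ext
      simpa using hV.hVexp _ (Subgroup.mem_subgroupOf.mp hv)
    · intro a ha b hb
      apply Subtype.ext
      simpa using hV.hVab _ (Subgroup.mem_subgroupOf.mp ha) _ (Subgroup.mem_subgroupOf.mp hb)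
  have hStar : Star D' (V.subgroupOf T) ⟨a₀, ha₀T⟩ := by
    refine ⟨hVD', ?_, ?_, ?_, ?_, ?_⟩
    · rw [hD'M]; exact Subgroup.mem_subgroupOf.mpr ha₀M
    · apply Subtype.ext
      simpa using ha₀3
    · intro v hv
      rw [Cfg.mem_Z_iff]
      have h1 := ha₀ct _ (Subgroup.mem_subgroupOf.mp hv)
      rw [Cfg.mem_Z_iff] at h1
      constructor
      · rw [Subgroup.mem_subgroupOf, coe_F]; exact h1.1
      · apply Subtype.ext
        rw [Subgroup.coe_mul, Subgroup.coe_mul, coe_F, hD'x]; exact h1.2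
    · apply Subgroup.map_injective T.subtype_injective
      rw [hD'M, Subgroup.subgroupOf_map_subtype, MonoidHom.map_closure, hMT, hM']
      congr 1
      ext s
      constructor
      · rintro (hs | hs | hs | hs)
        · exact ⟨⟨s, hVT hs⟩, Or.inl (Subgroup.mem_subgroupOf.mpr hs), rfl⟩
        · exact ⟨⟨a₀, ha₀T⟩, Or.inr (Or.inl rfl), hs.symm⟩
        · refine ⟨D'.x * ⟨a₀, ha₀T⟩ * D'.x⁻¹, Or.inr (Or.inr (Or.inl rfl)), ?_⟩
          rw [hs]; simp [hD'x]
        · rw [Set.mem_singleton_iff] at hs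
          refine ⟨D'.x * (D'.x * ⟨a₀, ha₀T⟩ * D'.x⁻¹) * D'.x⁻¹, Or.inr (Or.inr (Or.inr rfl)), ?_⟩
          rw [hs]; simp [hD'x]
      · rintro ⟨s', hs', rfl⟩
        rcases hs' with hs' | hs' | hs' | hs'
        · exact Or.inl (Subgroup.mem_subgroupOf.mp hs')
        · rw [hs']; exact Or.inr (Or.inl rfl)
        · rw [hs']; right; right; left; simp [hD'x]
        · rw [Set.mem_singleton_iff] at hs'
          rw [hs']; right; right; right; simp [hD'x]
    · intro hc
      apply ha₀nc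
      intro v hv
      have := hc ⟨v, hVT hv⟩ (Subgroup.mem_subgroupOf.mpr hv)
      exact congrArg Subtype.val this
  exact no_star _ ↥T rfl D' _ _ hStar

end rank

end Cfsg.Agent.Lib.Helper30.MaxE9
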