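import Mathlib
import Cfsg.Prelude.Def_Characters
import Cfsg.Prelude.Def_OddOrderLocal
import Cfsg.Agent.Lib.Helper30.PFTwelveT1
import Cfsg.Agent.Lib.Helper23.TypeP
import Cfsg.Agent.S1536
import Cfsg.Agent.S1491

/-!
# Peterfalvi (12.2)(a), module (T2) of board #2768

For a group `L` of Frobenius type with `H = L_F`, the character induced from a nonprincipal
irreducible character of `H` is a multiplicity-free sum of irreducible characters of equal degrees,
none of which has `H` in its kernel.
-/

set_option autoImplicit false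

namespace Cfsg.Agent.Lib.Helper30.PFTwelve

open Cfsg

/-- The sum of the values of a nonprincipal irreducible character vanishes. -/
theorem sum_character_eq_zero_of_irr {H : Type*} [Group H] [Fintype H] {n : ℕ}
    (ρ : Representation ℂ H (Fin n → ℂ)) (hirr : ρ.IsIrreducible)
    (hne : ρ.character ≠ fun _ => 1) : ∑ h : H, ρ.character h = 0 := by
  classical
  have hF : fixedSub (⊤ : Subgroup H) ρ = ⊥ ∨ fixedSub (⊤ : Subgroup H) ρ = ⊤ :=
    eq_bot_or_eq_top _
  have hFtop : fixedSub (⊤ : Subgroup H) ρ ≠ ⊤ := by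
    intro htop
    apply hne
    have h1 : ∀ h : H, ρ h = 1 := by
      intro h
      apply LinearMap.ext
      intro v
      have hv : v ∈ fixedSub (⊤ : Subgroup H) ρ := by
        rw [htop]
        trivial
      exact hv h (Subgroup.mem_top h)
    -- the space is one-dimensional
    have hnt : (⊥ : Subrepresentation ρ) ≠ ⊤ := bot_ne_top
    obtain ⟨v, hv⟩ : ∃ v : Fin n → ℂ, v ≠ 0 := by
      by_contra hcon
      push Not at hcon
      apply hnt
      apply Subrepresentation.toSubmodule_injective
      ext w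
      simp [hcon w]
    let S : Subrepresentation ρ :=
      { toSubmodule := Submodule.span ℂ {v}
        apply_mem_toSubmodule := by
          intro g w hw
          rw [h1 g]
          exact hw }
    have hS : S = ⊥ ∨ S = ⊤ := eq_bot_or_eq_top _
    have hSbot : S ≠ ⊥ := by
      intro hb
      have hvS : v ∈ S := Submodule.mem_span_singleton_self v
      rw [hb] at hvS
      exact hv hvS
    have hStop : S = ⊤ := hS.resolve_left hSbot
    have hspan : Submodule.span ℂ {v} = ⊤ := congrArg Subrepresentation.toSubmodule hStop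
    have hrank : Module.finrank ℂ (Fin n → ℂ) = 1 := by
      rw [← finrank_top ℂ (Fin n → ℂ), ← hspan]
      exact finrank_span_singleton hv
    funext h
    simp only [Representation.character, h1 h]
    rw [LinearMap.trace_one, hrank]
    simp
  have hFbot : fixedSub (⊤ : Subgroup H) ρ = ⊥ := hF.resolve_right hFtop
  have hs : (∑ h : H, ρ h) = 0 := by
    apply LinearMap.ext
    intro v
    have hv : (∑ h : H, ρ h) v ∈ fixedSub (⊤ : Subgroup H) ρ := by
      intro k _
      rw [LinearMap.sum_apply, map_sum]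
      have : ∀ h : H, ρ k (ρ h v) = ρ (k * h) v := by
        intro h
        rw [map_mul]
        rfl
      simp only [this]
      exact Fintype.sum_equiv (Equiv.mulLeft k) _ _ (fun h => rfl)
    rw [hFbot] at hv
    exact hv
  simp only [Representation.character]
  rw [← map_sum, hs, map_zero]

/-- The sum of a character over a subgroup is a natural multiple of the order of the subgroup. -/
theorem exists_sum_character_eq {L : Type*} [Group L] (H : Subgroup L) [Fintype H] {n : ℕ}
    (ρ : Representation ℂ L (Fin n → ℂ)) :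
    ∃ m : ℕ, ∑ h : H, ρ.character (h : L) = (Nat.card H : ℂ) * m := by
  have : Invertible (Nat.card H : ℂ) :=
    invertibleOfNonzero (by exact_mod_cast (Nat.card_pos (α := H)).ne')
  let σ : Representation ℂ H (Fin n → ℂ) := ρ.comp H.subtype
  have h1 := Representation.card_inv_mul_sum_char_eq_finrank σ
  refine ⟨Module.finrank ℂ (Representation.invariants σ), ?_⟩
  rw [← h1, ← mul_assoc, mul_inv_cancel₀ (by exact_mod_cast (Nat.card_pos (α := H)).ne'), one_mul]
  rfl

/-- Module (T2) of #2768. -/
theorem typeF_ind_decomp {L : Type*} [Group L] [Fintype L] (hF : IsOfTypeF L)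
    (θ : ↥(fittingHall L) → ℂ) (hθ : IsIrrCharacter ↥(fittingHall L) θ)
    (hθ1 : θ ≠ fun _ => 1) :
    ∃ C : Finset (L → ℂ), (∀ χ ∈ C, IsIrrCharacter L χ) ∧
      indFun (fittingHall L) θ = ∑ χ ∈ C, χ ∧ (∀ χ ∈ C, ∀ χ' ∈ C, χ 1 = χ' 1) ∧
      ∀ χ ∈ C, ∃ h ∈ fittingHall L, χ h ≠ χ 1 := by
  classical
  obtain ⟨-, -, -, -, U, -, hcompl, ⟨U₁, hU₁U, -, hU₁c, hU₁⟩, -⟩ := hF
  have hN : (fittingHall L).Normal := fittingHall_normal L
  -- conjugation on `H`
  let cj : L → ↥(fittingHall L) → ↥(fittingHall L) :=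
    fun g h => ⟨g * h * g⁻¹, hN.conj_mem h h.2 g⟩
  have hcj_mul : ∀ a b h, cj (a * b) h = cj a (cj b h) := by
    intro a b h
    apply Subtype.ext
    change a * b * h * (a * b)⁻¹ = a * (b * h * b⁻¹) * a⁻¹
    group
  have hcj_one : ∀ h, cj 1 h = h := by
    intro h
    apply Subtype.ext
    change 1 * (h : L) * 1⁻¹ = h
    group
  -- the inertia group
  let T : Subgroup L :=
    { carrier := {g | ∀ h, θ (cj g h) = θ h}
      mul_mem' := by
        intro a b ha hb h
        rw [hcj_mul, ha, hb]
      one_mem' := by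
        intro h
        rw [hcj_one]
      inv_mem' := by
        intro a ha h
        have h1 := ha (cj a⁻¹ h)
        rw [← hcj_mul, mul_inv_cancel, hcj_one] at h1
        exact h1.symm }
  have hT : ∀ g : L, g ∈ T ↔ ∀ h : ↥(fittingHall L),
      θ ⟨g * h * g⁻¹, hN.conj_mem h h.2 g⟩ = θ h := fun g => Iff.rfl
  -- `H ≤ T`
  have hHT : ∀ k ∈ fittingHall L, k ∈ T := by
    intro k hk h
    obtain ⟨n, ρ, -, hρ⟩ := hθ
    have h1 : cj k h = (⟨k, hk⟩ : ↥(fittingHall L)) * h * (⟨k, hk⟩ : ↥(fittingHall L))⁻¹ := by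
      apply Subtype.ext
      rfl
    rw [h1, ← hρ, Representation.char_conj]
  have hHall : Nat.Coprime (Nat.card (fittingHall L)) (fittingHall L).index :=
    Cfsg.Agent.Lib.Helper23.fittingHall_coprime L
  -- every element of `T` is in `H U₁`
  have hdecomp : ∀ x ∈ T, ∃ h ∈ fittingHall L, ∃ u ∈ U₁, x = h * u := by
    intro x hx
    obtain ⟨⟨h, u⟩, hhu, -⟩ := (Subgroup.isComplement'_def.mp hcompl).existsUnique x
    have hhu' : (h : L) * (u : L) = x := hhu
    have huT : (u : L) ∈ T := by
      have : (u : L) = (h : L)⁻¹ * x := by rw [← hhu']; group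
      rw [this]
      exact T.mul_mem (T.inv_mem (hHT h h.2)) hx
    have h2 := (Cfsg.Agent.S1536.result (fittingHall L) hHall (u : L)).mp
      ⟨θ, hθ, hθ1, funext fun k => huT k⟩
    obtain ⟨k, hk, hk1, hku⟩ := h2
    have huU₁ : (u : L) ∈ U₁ := by
      apply hU₁ k hk hk1
      refine ⟨u.2, Subgroup.mem_centralizer_iff.mpr ?_⟩
      intro y hy
      rw [Set.mem_singleton_iff] at hy
      rw [hy]
      exact hku.symm
    exact ⟨h, h.2, u, huU₁, hhu'.symm⟩
  have hab : ∀ x ∈ T, ∀ y ∈ T, x * y * x⁻¹ * y⁻¹ ∈ fittingHall L := by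
    intro x hx y hy
    obtain ⟨h, hh, u, hu, rfl⟩ := hdecomp x hx
    obtain ⟨h', hh', u', hu', rfl⟩ := hdecomp y hy
    rw [← QuotientGroup.eq_one_iff]
    have e1 : ((h : L) : L ⧸ fittingHall L) = 1 := (QuotientGroup.eq_one_iff _).mpr hh
    have e2 : ((h' : L) : L ⧸ fittingHall L) = 1 := (QuotientGroup.eq_one_iff _).mpr hh'
    have e3 : u * u' = u' * u := by
      have := hU₁c.is_comm.comm (⟨u, hu⟩ : U₁) ⟨u', hu'⟩
      exact congrArg Subtype.val this
    have e4 : ((u : L) : L ⧸ fittingHall L) * (u' : L ⧸ fittingHall L)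
        = (u' : L ⧸ fittingHall L) * (u : L ⧸ fittingHall L) := by
      rw [← QuotientGroup.mk_mul, ← QuotientGroup.mk_mul, e3]
    simp only [QuotientGroup.mk_mul, QuotientGroup.mk_inv, e1, e2, one_mul]
    rw [e4]
    group
  have hcop : Nat.Coprime (Nat.card (fittingHall L)) ((fittingHall L).relIndex T) :=
    hHall.coprime_dvd_right (Subgroup.relIndex_dvd_index_of_normal _ _)
  obtain ⟨C, hCirr, -, hCind, hCdeg⟩ :=
    Cfsg.Agent.S1491.result (fittingHall L) T θ hθ hT hab hcop
  refine ⟨C, hCirr, hCind, ?_, ?_⟩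
  · intro χ hχ χ' hχ'
    rw [hCdeg χ hχ, hCdeg χ' hχ']
  · -- no constituent has `H` in its kernel
    have hsumθ : ∑ h : ↥(fittingHall L), θ h = 0 := by
      obtain ⟨n, ρ, hirr, hρ⟩ := hθ
      have := sum_character_eq_zero_of_irr ρ hirr (by rw [hρ]; exact hθ1)
      rw [hρ] at this
      exact this
    -- the induced function sums to zero over `H`
    have hind0 : ∑ h : ↥(fittingHall L), indFun (fittingHall L) θ (h : L) = 0 := by
      have h1 : ∀ h : ↥(fittingHall L), indFun (fittingHall L) θ (h : L)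
          = (Nat.card (fittingHall L) : ℂ)⁻¹ * ∑ x : L, θ (cj x⁻¹ h) := by
        intro h
        unfold indFun
        congr 1
        apply Finset.sum_congr rfl
        intro x _
        have h2 : x⁻¹ * (h : L) * x = ((cj x⁻¹ h : ↥(fittingHall L)) : L) := by
          change x⁻¹ * (h : L) * x = x⁻¹ * h * x⁻¹⁻¹
          rw [inv_inv]
        rw [h2]
        exact Subtype.val_injective.extend_apply θ 0 _
      simp only [h1]
      rw [← Finset.mul_sum, Finset.sum_comm]
      have h3 : ∀ x : L, ∑ h : ↥(fittingHall L), θ (cj x⁻¹ h) = 0 := by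
        intro x
        have hbij : Function.Bijective (cj x⁻¹) := by
          refine ⟨fun a b hab => ?_, fun b => ⟨cj x b, ?_⟩⟩
          · have := congrArg (cj x) hab
            rwa [← hcj_mul, ← hcj_mul, mul_inv_cancel, hcj_one, hcj_one] at this
          · rw [← hcj_mul, inv_mul_cancel, hcj_one]
        rw [← hsumθ]
        exact Fintype.sum_bijective (cj x⁻¹) hbij _ _ (fun h => rfl)
      simp only [h3, Finset.sum_const_zero, mul_zero]
    -- each constituent sums to a natural multiple of `|H|`
    have hm : ∀ χ ∈ C, ∃ m : ℕ, ∑ h : ↥(fittingHall L), χ (h : L)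
        = (Nat.card (fittingHall L) : ℂ) * m := by
      intro χ hχ
      obtain ⟨n, ρ, -, rfl⟩ := hCirr χ hχ
      exact exists_sum_character_eq (fittingHall L) ρ
    choose! m hm using hm
    have hcardH : (Nat.card (fittingHall L) : ℂ) ≠ 0 := by
      exact_mod_cast (Nat.card_pos (α := ↥(fittingHall L))).ne'
    have hsum : ∑ χ ∈ C, m χ = 0 := by
      have h1 : ∑ h : ↥(fittingHall L), (∑ χ ∈ C, χ) (h : L) = 0 := by
        rw [← hCind]
        exact hind0
      simp only [Finset.sum_apply] at h1
      rw [Finset.sum_comm, Finset.sum_congr rfl hm, ← Finset.mul_sum] at h1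
      have h2 := (mul_eq_zero.mp h1).resolve_left hcardH
      exact_mod_cast h2
    intro χ hχ
    by_contra hcon
    push Not at hcon
    have hmχ : m χ = 0 := (Finset.sum_eq_zero_iff.mp hsum) χ hχ
    have h1 := hm χ hχ
    rw [hmχ, Nat.cast_zero, mul_zero] at h1
    have h2 : ∑ h : ↥(fittingHall L), χ (h : L) = (Fintype.card ↥(fittingHall L) : ℂ) * χ 1 := by
      rw [Finset.sum_congr rfl (fun (h : ↥(fittingHall L)) _ => hcon (h : L) h.2), Finset.sum_const,
        Finset.card_univ,
        nsmul_eq_mul]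
    rw [h2] at h1
    have hcardH' : (Fintype.card ↥(fittingHall L) : ℂ) ≠ 0 := by
      exact_mod_cast Fintype.card_ne_zero
    have hχ1 : χ 1 = 0 := (mul_eq_zero.mp h1).resolve_left hcardH'
    -- but `χ 1` is the dimension of a nonzero space
    obtain ⟨n, ρ, hirr, rfl⟩ := hCirr χ hχ
    rw [Representation.char_one] at hχ1
    have hn : Module.finrank ℂ (Fin n → ℂ) = 0 := by exact_mod_cast hχ1
    have hnt : (⊥ : Subrepresentation ρ) ≠ ⊤ := bot_ne_top
    apply hnt
    apply Subrepresentation.toSubmodule_injective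
    have hsub : Subsingleton (Fin n → ℂ) := Module.finrank_zero_iff.mp hn
    ext w
    simp [Subsingleton.elim w 0]

end Cfsg.Agent.Lib.Helper30.PFTwelve
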