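import Mathlib
import Cfsg.Agent.Lib.Helper41.S1022SylSub
import Cfsg.Agent.Lib.Helper17.SimpleIndex

set_option autoImplicit false

/-!
Module [IDX21] for S1022 (no simple group of order 459648): a subgroup of order 21888
containing a Sylow 19-subgroup `P` with `|N_G(P)| = 456` and `|N_G(P) ⊓ H| = 228` cannot exist.
-/

namespace Cfsg.Agent.Lib.Helper30.S1022

open Subgroup

theorem card_map_conj_eq {G : Type*} [Group G] (H : Subgroup G) (g : G) :
    Nat.card (H.map (MulAut.conj g).toMonoidHom) = Nat.card H :=
  (Nat.card_congr (H.equivMapOfInjective (MulAut.conj g).toMonoidHom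
    (MulAut.conj g).injective).toEquiv).symm

theorem mem_map_conj_iff {G : Type*} [Group G] (H : Subgroup G) (g x : G) :
    x ∈ H.map (MulAut.conj g).toMonoidHom ↔ g⁻¹ * x * g ∈ H := by
  constructor
  · rintro ⟨y, hy, rfl⟩
    have : g⁻¹ * ((MulAut.conj g).toMonoidHom y) * g = y := by
      simp [MulAut.conj_apply, mul_assoc]
    rw [this]; exact hy
  · intro h
    refine ⟨g⁻¹ * x * g, h, ?_⟩
    simp [MulAut.conj_apply, mul_assoc]

theorem s1022_index21 {G : Type*} [Group G] [Finite G] [IsSimpleGroup G]
    (hG : Nat.card G = 459648) [Fact (Nat.Prime 19)] (P : Sylow 19 G)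
    (hN : Nat.card (Subgroup.normalizer ((P : Subgroup G) : Set G)) = 456) (H : Subgroup G)
    (hPH : (P : Subgroup G) ≤ H) (hH : Nat.card H = 21888)
    (hNH : Nat.card ((Subgroup.normalizer ((P : Subgroup G) : Set G) ⊓ H : Subgroup G)) = 228) :
    False := by
  classical
  set N : Subgroup G := Subgroup.normalizer ((P : Subgroup G) : Set G) with hNdef
  -- H is not normal
  have hHnn : ¬ H.Normal := by
    intro hn
    rcases hn.eq_bot_or_eq_top with h | h
    · rw [h, Subgroup.card_bot] at hH; omega
    · rw [h, Subgroup.card_top, hG] at hH; omega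
  -- G is not commutative
  have hnc : ¬ IsMulCommutative G := by
    intro hc
    apply hHnn
    refine ⟨fun n hn g => ?_⟩
    have : g * n * g⁻¹ = n := by
      rw [hc.is_comm.comm g n, mul_assoc, mul_inv_cancel, mul_one]
    rw [this]; exact hn
  -- A = N ⊓ H has index 2 in N, hence normal in N
  have hcardsub : Nat.card (H.subgroupOf N) = 228 := by
    rw [← hNH, ← inf_subgroupOf_right, inf_comm]
    exact Nat.card_congr (subgroupOfEquivOfLe inf_le_left).toEquiv
  have hidx2 : (H.subgroupOf N).index = 2 := by
    have := (H.subgroupOf N).card_mul_index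
    rw [hcardsub, hN] at this
    omega
  have hnorm : (H.subgroupOf N).Normal := Subgroup.normal_of_index_eq_two hidx2
  have hconj : ∀ n ∈ N, ∀ a ∈ N, a ∈ H → n * a * n⁻¹ ∈ H := by
    intro n hn a ha haH
    have := hnorm.conj_mem ⟨a, ha⟩ (by rw [mem_subgroupOf]; exact haH) ⟨n, hn⟩
    rw [mem_subgroupOf] at this
    simpa using this
  -- pick g ∈ N \ H
  obtain ⟨g, hgN, hgH⟩ : ∃ g ∈ N, g ∉ H := by
    by_contra hcon
    push Not at hcon
    have : N ⊓ H = N := inf_eq_left.2 hcon
    rw [this, hN] at hNH
    omega
  set Hg : Subgroup G := H.map (MulAut.conj g).toMonoidHom with hHgdef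
  have hHgcard : Nat.card Hg = 21888 := by rw [hHgdef, card_map_conj_eq, hH]
  have hginvN : g⁻¹ ∈ N := N.inv_mem hgN
  have hPHg : (P : Subgroup G) ≤ Hg := by
    intro x hx
    rw [hHgdef, mem_map_conj_iff]
    apply hPH
    have := (Subgroup.mem_normalizer_iff.1 hginvN x).1 hx
    simpa using this
  set D : Subgroup G := H ⊓ Hg with hDdef
  have hPD : (P : Subgroup G) ≤ D := le_inf hPH hPHg
  have hND : N ⊓ D = N ⊓ H := by
    apply le_antisymm
    · exact inf_le_inf_left N inf_le_left
    · intro x hx
      rw [Subgroup.mem_inf] at hx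
      refine Subgroup.mem_inf.2 ⟨hx.1, Subgroup.mem_inf.2 ⟨hx.2, ?_⟩⟩
      rw [hHgdef, mem_map_conj_iff]
      have := hconj g⁻¹ hginvN x hx.1 hx.2
      simpa using this
  obtain ⟨n, hn19, hnD⟩ := Cfsg.Agent.Lib.Helper41.s1022_sylow_count_subgroup P D hPD
  rw [← hNdef, hND, hNH] at hnD
  have hDH : Nat.card D ∣ Nat.card H := Subgroup.card_dvd_of_le inf_le_left
  rw [← hnD, hH] at hDH
  have hn96 : n ∣ 96 := by
    have h : n * 228 ∣ 96 * 228 := by norm_num; exact hDH
    exact Nat.dvd_of_mul_dvd_mul_right (by norm_num) h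
  have hnle : n ≤ 96 := Nat.le_of_dvd (by norm_num) hn96
  have hHidx : H.index = 21 := by
    have := H.card_mul_index
    rw [hH, hG] at this
    omega
  have hHgidx : Hg.index = 21 := by
    have := Hg.card_mul_index
    rw [hHgcard, hG] at this
    omega
  have hcases : n = 1 ∨ n = 96 := by
    obtain ⟨k, hk⟩ := hn96
    interval_cases n <;> omega
  rcases hcases with rfl | rfl
  · -- card D = 228, index 2016 > 441
    have hDidx : D.index = 2016 := by
      have := D.card_mul_index
      rw [← hnD, hG] at this
      omega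
    have hle : D.index ≤ H.index * Hg.index := Subgroup.index_inf_le
    rw [hDidx, hHidx, hHgidx] at hle
    omega
  · -- D = H, so H = Hg and g normalizes H
    have hDcard : Nat.card D = 21888 := by rw [← hnD]
    have hDeqH : D = H := Subgroup.eq_of_le_of_card_ge inf_le_left (by rw [hDcard, hH])
    have hHleHg : H ≤ Hg := by rw [← hDeqH]; exact inf_le_right
    have hHeqHg : H = Hg := Subgroup.eq_of_le_of_card_ge hHleHg (by rw [hHgcard, hH])
    set K : Subgroup G := Subgroup.normalizer (H : Set G) with hKdef
    have hgK : g ∈ K := by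
      rw [hKdef, Subgroup.mem_normalizer_iff]
      intro h
      constructor
      · intro hh
        have : g * h * g⁻¹ ∈ Hg := by
          rw [hHgdef, mem_map_conj_iff]
          simpa [mul_assoc] using hh
        rw [← hHeqHg] at this
        exact this
      · intro hh
        rw [hHeqHg, hHgdef, mem_map_conj_iff] at hh
        simpa [mul_assoc] using hh
    have hHK : H ≤ K := Subgroup.le_normalizer
    have hKcard : Nat.card H ∣ Nat.card K := Subgroup.card_dvd_of_le hHK
    have hHneK : H ≠ K := fun h => hgH (h ▸ hgK)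
    have hKgt : Nat.card H < Nat.card K := by
      rcases lt_or_ge (Nat.card H) (Nat.card K) with h | h
      · exact h
      · exact absurd (Subgroup.eq_of_le_of_card_ge hHK h) hHneK
    obtain ⟨m, hm⟩ := hKcard
    rw [hH] at hm hKgt
    have hKidx := K.card_mul_index
    rw [hG, hm] at hKidx
    have hm2 : 2 ≤ m := by
      by_contra hcon
      push Not at hcon
      interval_cases m <;> omega
    have hidxle : K.index ≤ 10 := by
      by_contra hcon
      push Not at hcon
      have : 21888 * m * K.index ≥ 21888 * 2 * 11 := by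
        apply Nat.mul_le_mul (Nat.mul_le_mul_left _ hm2) hcon
      omega
    by_cases hKtop : K = ⊤
    · apply hHnn
      exact Subgroup.normalizer_eq_top_iff.1 hKtop
    · have h1 := Cfsg.Agent.Lib.Helper17.two_mul_card_dvd_factorial_index_of_simple hnc K hKtop
      have h2 : K.index.factorial ∣ Nat.factorial 10 := Nat.factorial_dvd_factorial hidxle
      have h3 := dvd_trans h1 h2
      rw [hG] at h3
      norm_num [Nat.factorial] at h3

end Cfsg.Agent.Lib.Helper30.S1022
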