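import Mathlib
import Cfsg.Agent.Lib.Helper53.SL2Pres.Defs

/-!
helper30: module S2286-[FIELD-K] of helper53's S2286 sheet: the exponent `k`.
-/

set_option autoImplicit false

namespace Cfsg.Agent.Lib.Helper30.SL2Pres

variable {K : Type*} [Field K]

theorem one_add_ne_zero30 (p e : ℕ) (hp : p.Prime) (β : K) (he : 2 ≤ e)
    (hind : ∀ d : Fin e → ℤ, ∑ i, (d i : K) * β ^ (i : ℕ) = 0 → ∀ i, (p : ℤ) ∣ d i) :
    1 + β ≠ 0 := by
  intro h0
  obtain ⟨e', rfl⟩ := Nat.exists_eq_add_of_le he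
  have key := hind (fun i => if (i : ℕ) ≤ 1 then 1 else 0) (by
    have e2 : 2 + e' = e' + 1 + 1 := by omega
    -- rewrite the sum
    have : ∀ n : ℕ, ∀ h : n = e' + 1 + 1,
        ∑ i : Fin n, (((if (i : ℕ) ≤ 1 then 1 else 0 : ℤ) : ℤ) : K) * β ^ (i : ℕ) = 1 + β := by
      intro n h
      subst h
      rw [Fin.sum_univ_succ, Fin.sum_univ_succ]
      have hz : ∑ i : Fin e', (((if ((i.succ.succ : Fin (e' + 1 + 1)) : ℕ) ≤ 1 then 1 else 0 : ℤ) : ℤ) : K)
          * β ^ ((i.succ.succ : Fin (e' + 1 + 1)) : ℕ) = 0 := by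
        apply Finset.sum_eq_zero
        intro i _
        have : ¬ ((i.succ.succ : Fin (e' + 1 + 1)) : ℕ) ≤ 1 := by
          simp
        rw [if_neg this]
        simp
      rw [hz]
      simp
    rw [this _ e2]
    exact h0) ⟨0, by omega⟩
  simp only [Fin.val_mk, zero_le, if_true] at key
  have h1 : (p : ℤ) = 1 ∨ (p : ℤ) = -1 := Int.isUnit_iff.mp (isUnit_of_dvd_one key)
  have hp1 := hp.one_lt
  omega

theorem exists_k [Finite K] (p e : ℕ) (hp : p.Prime) (hchar : CharP K p) (lam : K) (hlam : lam ≠ 0)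
    (hgen : ∀ a : K, a ≠ 0 → ∃ j : ℕ, a = lam ^ j)
    (hind : ∀ d : Fin e → ℤ, ∑ i, (d i : K) * (lam ^ 2) ^ (i : ℕ) = 0 → ∀ i, (p : ℤ) ∣ d i) :
    ∃ k : ℕ, (p ≠ 2 → 2 ≤ e → (lam ^ 2) ^ k = (1 + lam ^ 2) ^ 2) ∧
      (p = 2 → 2 ≤ e → (lam ^ 2) ^ k = 1 + lam ^ 2) := by
  classical
  by_cases he : 2 ≤ e
  · have hne : 1 + lam ^ 2 ≠ 0 := one_add_ne_zero30 p e hp (lam ^ 2) he hind
    obtain ⟨j, hj⟩ := hgen _ hne
    by_cases hp2 : p = 2
    · have _ : Fintype K := Fintype.ofFinite K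
      obtain ⟨n, _, hq⟩ := FiniteField.card K p
      have hq2 : 2 ∣ Fintype.card K := by
        rw [hq, hp2]
        exact dvd_pow_self 2 n.ne_zero
      obtain ⟨c, hc⟩ := hq2
      refine ⟨j * c, fun h => absurd hp2 h, fun _ _ => ?_⟩
      have hpc : lam ^ Fintype.card K = lam := FiniteField.pow_card lam
      calc (lam ^ 2) ^ (j * c) = (lam ^ (2 * c)) ^ j := by
            rw [← pow_mul, ← pow_mul]
            congr 1
            ring
        _ = (lam ^ Fintype.card K) ^ j := by rw [hc]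
        _ = lam ^ j := by rw [hpc]
        _ = 1 + lam ^ 2 := hj.symm
    · refine ⟨j, fun _ _ => ?_, fun h => absurd h hp2⟩
      rw [hj]
      rw [← pow_mul, ← pow_mul]
      congr 1
      ring
  · exact ⟨0, fun _ h => absurd h he, fun _ h => absurd h he⟩

end Cfsg.Agent.Lib.Helper30.SL2Pres
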