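import Mathlib
import Cfsg.Agent.Lib.Helper53.SL2Pres.Defs

/-!
helper30: module S2286-[FIELD-PB] of helper53's S2286 sheet: power basis gives a representation
with natural-number coefficients.
-/

set_option autoImplicit false

namespace Cfsg.Agent.Lib.Helper30.SL2Pres

variable {K : Type*} [Field K]

theorem algebraMap_zmod_eq_natCast30 {p : ℕ} [Fact p.Prime] [Algebra (ZMod p) K] (z : ZMod p) :
    algebraMap (ZMod p) K z = ((z.val : ℕ) : K) := by
  conv_lhs => rw [← ZMod.natCast_zmod_val z]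
  rw [map_natCast]

theorem rep_of_adjoin_eq_top {p : ℕ} [Fact p.Prime] [Algebra (ZMod p) K] [Finite K] (β : K)
    (htop : Algebra.adjoin (ZMod p) {β} = ⊤) :
    ∃ e : ℕ, 0 < e ∧ (∀ a : K, ∃ d : Fin e → ℕ, a = ∑ i, (d i : K) * β ^ (i : ℕ)) ∧
      (∀ d : Fin e → ℤ, ∑ i, (d i : K) * β ^ (i : ℕ) = 0 → ∀ i, (p : ℤ) ∣ d i) := by
  classical
  have _ : Module.Finite (ZMod p) K := Module.Finite.of_finite
  have hint : IsIntegral (ZMod p) β := Algebra.IsIntegral.isIntegral β
  set pb : PowerBasis (ZMod p) K := PowerBasis.ofAdjoinEqTop hint htop with hpb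
  have hgen : pb.gen = β := PowerBasis.ofAdjoinEqTop_gen hint htop
  have hbasis : ∀ i : Fin pb.dim, pb.basis i = β ^ (i : ℕ) := by
    intro i
    rw [pb.basis_eq_pow, hgen]
  refine ⟨pb.dim, pb.dim_pos, ?_, ?_⟩
  · intro a
    refine ⟨fun i => (pb.basis.repr a i).val, ?_⟩
    conv_lhs => rw [← pb.basis.sum_repr a]
    apply Finset.sum_congr rfl
    intro i _
    rw [hbasis, Algebra.smul_def, algebraMap_zmod_eq_natCast30]
  · intro d hd i
    have h1 : ∑ j, ((d j : ℤ) : ZMod p) • pb.basis j = 0 := by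
      rw [← hd]
      apply Finset.sum_congr rfl
      intro j _
      rw [hbasis, Algebra.smul_def, map_intCast]
    have h2 := Fintype.linearIndependent_iff.mp pb.basis.linearIndependent
      (fun j => ((d j : ℤ) : ZMod p)) h1 i
    exact (ZMod.intCast_zmod_eq_zero_iff_dvd (d i) p).mp h2

end Cfsg.Agent.Lib.Helper30.SL2Pres
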