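import Mathlib
import Cfsg.Agent.Lib.Helper53.SL2Pres.Defs

/-!
helper30: module S2286-[FIELD-TOP] of helper53's S2286 sheet: `F_p(lam^2) = K` for a generator `lam`
of the multiplicative group of a finite field `K`.
-/

set_option autoImplicit false

namespace Cfsg.Agent.Lib.Helper30.SL2Pres

variable {K : Type*} [Field K]

/-- In a finite field, the inverse of an element of a subalgebra lies in the subalgebra. -/
theorem inv_mem_subalgebra30 {R : Type*} [CommSemiring R] [Algebra R K] [Finite K]
    (S : Subalgebra R K) {a : K} (ha : a ∈ S) : a⁻¹ ∈ S := by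
  classical
  by_cases h0 : a = 0
  · subst h0
    simpa using S.zero_mem
  · have _ : Fintype K := Fintype.ofFinite K
    have h1 : a ^ (Fintype.card K - 1) = 1 := FiniteField.pow_card_sub_one_eq_one a h0
    have h2 : 2 ≤ Fintype.card K := Fintype.one_lt_card
    have h3 : a⁻¹ = a ^ (Fintype.card K - 2) := by
      have h4 : a * a ^ (Fintype.card K - 2) = 1 := by
        rw [← pow_succ']
        have : Fintype.card K - 2 + 1 = Fintype.card K - 1 := by omega
        rw [this, h1]
      exact inv_eq_of_mul_eq_one_right h4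
    rw [h3]
    exact S.pow_mem ha _

theorem adjoin_sq_eq_top {p : ℕ} [Fact p.Prime] [Algebra (ZMod p) K] [Finite K] (lam : K)
    (hgen : ∀ a : K, a ≠ 0 → ∃ j : ℕ, a = lam ^ j) :
    Algebra.adjoin (ZMod p) {lam ^ 2} = ⊤ := by
  classical
  set S := Algebra.adjoin (ZMod p) {lam ^ 2} with hS
  have hb : lam ^ 2 ∈ S := Algebra.subset_adjoin (Set.mem_singleton _)
  have hlam : lam ∈ S := by
    by_cases h1 : 1 + lam = 0
    · have : lam = -1 := by
        have := eq_neg_of_add_eq_zero_right h1
        exact this
      rw [this]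
      exact S.neg_mem S.one_mem
    · obtain ⟨j, hj⟩ := hgen _ h1
      rcases Nat.even_or_odd' j with ⟨m, hm | hm⟩
      · have h2 : 1 + lam ∈ S := by
          rw [hj, hm, pow_mul]
          exact S.pow_mem hb m
        have : lam = (1 + lam) - 1 := by ring
        rw [this]
        exact S.sub_mem h2 S.one_mem
      · have hσ : (lam ^ 2) ^ m ∈ S := S.pow_mem hb m
        have h2 : 1 + lam = lam * (lam ^ 2) ^ m := by
          rw [hj, hm, pow_succ, pow_mul]
          ring
        have h3 : lam * ((lam ^ 2) ^ m - 1) = 1 := by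
          rw [mul_sub, ← h2]
          ring
        have h4 : lam = ((lam ^ 2) ^ m - 1)⁻¹ := by
          exact eq_inv_of_mul_eq_one_left h3
        rw [h4]
        exact inv_mem_subalgebra30 S (S.sub_mem hσ S.one_mem)
  rw [eq_top_iff]
  intro a _
  by_cases ha : a = 0
  · rw [ha]
    exact S.zero_mem
  · obtain ⟨j, hj⟩ := hgen a ha
    rw [hj]
    exact S.pow_mem hlam j

end Cfsg.Agent.Lib.Helper30.SL2Pres
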