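import Mathlib
import Cfsg.Agent.Lib.Helper53.SL2Pres.Defs

/-!
helper30: hedge of modules S2286-[MATPP], [T2-ODD], [T2-SL] of helper53's S2286 sheet
(the relators hold in `SL₂(K)`).
-/

set_option autoImplicit false

namespace Cfsg.Agent.Lib.Helper30.SL2Pres

open Cfsg.Agent.Lib.Helper53 Cfsg.Agent.Lib.Helper53.Steinberg Cfsg.Agent.Lib.Helper53.SL2Pres

variable {K : Type*} [Field K]

theorem xM_mul30 (a b : K) : xM a * xM b = xM (a + b) := dataM.addX a b

theorem xM_zero30 : xM (0 : K) = 1 := dataM.X_zero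

theorem xM_inv30 (a : K) : (xM a)⁻¹ = xM (-a) := dataM.X_inv a

theorem xM_pow30 (a : K) (n : ℕ) : xM a ^ n = xM ((n : K) * a) := by
  induction n with
  | zero => simp [xM_zero30]
  | succ n ih =>
    rw [pow_succ, ih, xM_mul30]
    congr 1
    push_cast
    ring

theorem xM_eq_one30 {a : K} (ha : a = 0) : xM a = 1 := by
  rw [ha, xM_zero30]

theorem wM_inv30 (a : K) : (W (xM : K → _) yM a)⁻¹ = W xM yM (-a) := dataM.W_inv a

theorem hM_val30 {lam : K} (hlam : lam ≠ 0) :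
    (W xM yM lam * (W (xM : K → _) yM 1)⁻¹).1 = !![lam, 0; 0, lam⁻¹] := by
  rw [wM_inv30, Matrix.SpecialLinearGroup.coe_mul, wM_val hlam,
    wM_val (by norm_num : (-1 : K) ≠ 0), Matrix.mul_fin_two]
  ext i j
  fin_cases i <;> fin_cases j <;> simp

theorem hM_conj30 {lam : K} (hlam : lam ≠ 0) (a : K) :
    (W xM yM lam * (W (xM : K → _) yM 1)⁻¹) * xM a * (W xM yM lam * (W (xM : K → _) yM 1)⁻¹)⁻¹
      = xM (lam ^ 2 * a) := by
  rw [mul_inv_eq_iff_eq_mul]
  apply sl2ext <;>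
    simp only [Matrix.SpecialLinearGroup.coe_mul, hM_val30 hlam, xM_val, Matrix.mul_fin_two] <;>
    simp <;> field_simp

theorem uc_val30 {lam : K} (hlam : lam ≠ 0) (i : ℕ) :
    uc (W xM yM lam * (W (xM : K → _) yM 1)⁻¹) (xM 1) i = xM ((lam ^ 2) ^ i) := by
  induction i with
  | zero => rw [uc_zero, pow_zero]
  | succ i ih =>
    rw [uc_succ, ih, hM_conj30 hlam]
    congr 1
    ring

theorem prod_ofFn_xM30 : ∀ (e : ℕ) (f : Fin e → K),
    (List.ofFn fun i => xM (f i)).prod = xM (∑ i, f i) := by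
  intro e
  induction e with
  | zero => intro f; simp [xM_zero30]
  | succ e ih =>
    intro f
    rw [List.ofFn_succ, List.prod_cons, Fin.sum_univ_succ, ih (fun i => f i.succ), xM_mul30]

theorem mat_pp30 (lam : K) (hlam : lam ≠ 0) {e : ℕ} (d : Fin e → ℕ) :
    pp (W xM yM lam * (W (xM : K → _) yM 1)⁻¹) (xM 1) d =
      xM (∑ i, (d i : K) * (lam ^ 2) ^ (i : ℕ)) := by
  unfold pp
  have : (fun i : Fin e => uc (W xM yM lam * (W (xM : K → _) yM 1)⁻¹) (xM 1) i ^ d i)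
      = fun i : Fin e => xM ((d i : K) * (lam ^ 2) ^ (i : ℕ)) := by
    funext i
    rw [uc_val30 hlam, xM_pow30]
  rw [this, prod_ofFn_xM30]

/-- MODULE S2286-[MATPP] (hedge copy, name suffixed) -/
theorem mat_pp_h30 (D : FieldData K) (d : Fin D.e → ℕ) :
    pp (W xM yM D.lam * (W (xM : K → _) yM 1)⁻¹) (xM 1) d =
      xM (∑ i, (d i : K) * (D.lam ^ 2) ^ (i : ℕ)) :=
  mat_pp30 D.lam D.hlam d

end Cfsg.Agent.Lib.Helper30.SL2Pres
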