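import Mathlib
import Cfsg.Agent.Lib.Helper53.SL2Pres.Defs
import Cfsg.Agent.Lib.Helper30.SL2PresMat30

/-!
helper30: hedge of module S2286-[T2-ODD] of helper53's S2286 sheet.
-/

set_option autoImplicit false

namespace Cfsg.Agent.Lib.Helper30.SL2Pres

open Cfsg.Agent.Lib.Helper53 Cfsg.Agent.Lib.Helper53.Steinberg Cfsg.Agent.Lib.Helper53.SL2Pres

variable {K : Type*} [Field K]

/-- `x(a) (w(a) x(a) w(a)⁻¹) x(a) w(a)⁻¹ = 1`. -/
theorem braid_rel30 {a : K} (ha : a ≠ 0) :
    xM a * (W xM yM a * xM a * (W (xM : K → _) yM a)⁻¹) * xM a * (W (xM : K → _) yM a)⁻¹ = 1 := by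
  rw [wM_inv30]
  have hna : -a ≠ 0 := neg_ne_zero.mpr ha
  apply sl2ext <;>
    simp only [Matrix.SpecialLinearGroup.coe_mul, wM_val ha, wM_val hna, xM_val,
      Matrix.mul_fin_two, Matrix.SpecialLinearGroup.coe_one] <;>
    simp <;> field_simp <;> ring_nf <;> simp

theorem mat_relsOddCommon (D : FieldData K) (hp : D.p ≠ 2) :
    AllOne (relsOddCommon D (xM (1 : K)) (W xM yM 1) (W xM yM D.lam)) := by
  have hlam := D.hlam
  unfold relsOddCommon
  intro g hg
  rw [List.mem_append] at hg
  rcases hg with hg | hg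
  · simp only [List.mem_cons, List.not_mem_nil, or_false] at hg
    rcases hg with rfl | rfl | rfl | rfl
    · rw [xM_pow30]
      apply xM_eq_one30
      have := D.hchar
      rw [CharP.cast_eq_zero, zero_mul]
    · rw [uc_val30 hlam, mat_pp30 _ hlam, xM_inv30, xM_mul30]
      apply xM_eq_one30
      rw [D.hb, add_neg_cancel]
    · exact braid_rel30 one_ne_zero
    · rw [mat_pp30 _ hlam, ← D.hc]
      exact braid_rel30 hlam
  · split_ifs at hg with he2
    · simp only [List.mem_cons, List.not_mem_nil, or_false] at hg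
      rcases hg with rfl | rfl | rfl
      · rw [uc_val30 hlam, xM_inv30, xM_inv30, xM_mul30, xM_mul30, xM_mul30]
        apply xM_eq_one30
        ring
      · rw [uc_val30 hlam, xM_inv30, xM_inv30, xM_mul30, xM_mul30, xM_mul30]
        apply xM_eq_one30
        ring
      · rw [uc_val30 hlam, uc_val30 hlam, uc_val30 hlam, xM_pow30, xM_inv30, xM_mul30, xM_mul30,
          xM_mul30]
        apply xM_eq_one30
        rw [D.hk_odd hp he2]
        push_cast
        ring
    · simp at hg

end Cfsg.Agent.Lib.Helper30.SL2Pres
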