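import Mathlib
import Cfsg.Agent.Lib.Helper53.SL2Pres.Defs
import Cfsg.Agent.Lib.Helper30.SL2PresMat30
import Cfsg.Agent.Lib.Helper30.SL2PresT2Odd30

/-!
helper30: hedge of module S2286-[T2-SL] of helper53's S2286 sheet.
-/

set_option autoImplicit false

namespace Cfsg.Agent.Lib.Helper30.SL2Pres

open Cfsg.Agent.Lib.Helper53 Cfsg.Agent.Lib.Helper53.Steinberg Cfsg.Agent.Lib.Helper53.SL2Pres

variable {K : Type*} [Field K]

/-- `(w x w⁻¹) x (w x w⁻¹) w⁻¹ = 1` for `w = w(1)`, `x = x(1)`. -/
theorem braid_rel2_30 :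
    (W xM yM 1 * xM 1 * (W (xM : K → _) yM 1)⁻¹) * xM 1 *
      (W xM yM 1 * xM 1 * (W (xM : K → _) yM 1)⁻¹) * (W (xM : K → _) yM 1)⁻¹ = 1 := by
  rw [wM_inv30]
  have h1 : (1 : K) ≠ 0 := one_ne_zero
  have hn1 : (-1 : K) ≠ 0 := neg_ne_zero.mpr one_ne_zero
  apply sl2ext <;>
    simp only [Matrix.SpecialLinearGroup.coe_mul, wM_val h1, wM_val hn1, xM_val,
      Matrix.mul_fin_two, Matrix.SpecialLinearGroup.coe_one] <;>
    simp <;> ring_nf

theorem wsq_eq30 {a b : K} (ha : a ≠ 0) (hb : b ≠ 0) :
    W (xM : K → _) yM a * W xM yM a = W xM yM b * W xM yM b := by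
  apply sl2ext <;>
    simp only [Matrix.SpecialLinearGroup.coe_mul, wM_val ha, wM_val hb, Matrix.mul_fin_two] <;>
    simp <;> field_simp

/-- char 2: `x(a) w(a) x(a) = w(a) x(a) w(a)`. -/
theorem braid_even30 [CharP K 2] {a : K} (ha : a ≠ 0) :
    xM a * W (xM : K → _) yM a * xM a = W xM yM a * xM a * W xM yM a := by
  apply sl2ext <;>
    simp only [Matrix.SpecialLinearGroup.coe_mul, wM_val ha, xM_val, Matrix.mul_fin_two] <;>
    simp [CharTwo.neg_eq] <;> field_simp <;>
    (try rw [one_add_one_eq_two, CharTwo.two_eq_zero, mul_zero])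

theorem mat_relsSL (D : FieldData K) :
    AllOne (relsSL D (xM (1 : K)) (W xM yM 1) (W xM yM D.lam)) := by
  have hlam := D.hlam
  unfold relsSL
  split_ifs with hp2
  · -- even
    have hch : CharP K 2 := hp2 ▸ D.hchar
    have h2 : (2 : K) = 0 := by
      have := CharP.cast_eq_zero K 2
      exact_mod_cast this
    unfold relsEven
    intro g hg
    rw [List.mem_append] at hg
    rcases hg with hg | hg
    · simp only [List.mem_cons, List.not_mem_nil, or_false] at hg
      rcases hg with rfl | rfl | rfl | rfl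
      · rw [xM_mul30]
        apply xM_eq_one30
        rw [one_add_one_eq_two, h2]
      · rw [mul_inv_eq_one]
        exact braid_even30 one_ne_zero
      · rw [mul_inv_eq_one, mat_pp30 _ hlam, ← D.hc]
        exact braid_even30 hlam
      · rw [uc_val30 hlam, mat_pp30 _ hlam, xM_inv30, xM_mul30]
        apply xM_eq_one30
        rw [D.hb, add_neg_cancel]
    · split_ifs at hg with he2
      · simp only [List.mem_cons, List.not_mem_nil, or_false] at hg
        subst hg
        rw [uc_val30 hlam, uc_val30 hlam, xM_inv30, xM_mul30, xM_mul30]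
        apply xM_eq_one30
        rw [D.hk_even hp2 he2]
        ring
      · simp at hg
  · -- odd
    unfold relsOddSL
    rw [allOne_append]
    refine ⟨mat_relsOddCommon D hp2, ?_⟩
    intro g hg
    simp only [List.mem_cons, List.not_mem_nil, or_false] at hg
    rcases hg with rfl | rfl
    · exact braid_rel2_30
    · rw [mul_inv_eq_one]
      exact wsq_eq30 hlam one_ne_zero

end Cfsg.Agent.Lib.Helper30.SL2Pres
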