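import Cfsg.Agent.Lib.Helper53.SUReg.Calc1
import Cfsg.Agent.Lib.Helper53.SUReg.Gram
import Cfsg.Agent.Lib.Helper53.SUReg.Weyl
import Cfsg.Agent.Lib.Helper53.SUReg.Defs2
import Cfsg.Agent.Lib.Helper73.SURegRecSpanZ
import Cfsg.Agent.Lib.Helper36.SURegQX

set_option autoImplicit false

/-!
helper30, S2282 (helper53's sheet), module [QXC]: the unipotent radical `Q_a` of the stabiliser of `a = a_0` lies in `H`.
-/

namespace Cfsg.Agent.Lib.Helper30.SUReg

open Matrix Cfsg.Agent.S0837 Cfsg.Agent.S0781 Cfsg.Agent.S2644 Cfsg.Agent.Lib.Helper53.SUReg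
  Cfsg.Agent.Lib.Helper73.SUReg Cfsg.Agent.Lib.Helper36.SUReg

variable {n : ℕ} {F : Type*} [Field F] {σ : F →+* F} {q : ℕ}
variable {m : ℕ} {u : ↥(Cfsg.SU n F q)} {a : Fin n → F} {φ : F}

local notation "SLn" => Matrix.SpecialLinearGroup (Fin n) F
local notation "Mn" => Matrix (Fin n) (Fin n) F

/-- **S2282-[QXC]** -/
theorem siegel_mem (hσq : ∀ x, σ x = x ^ q) (hσ : σ ≠ RingHom.id F) (hσ2 : ∀ x, σ (σ x) = x)
    (hn : n = 2 * m + 1) (hm : 2 ≤ m) (hφ : φ ≠ 0) (hg : UGood σ q m u a φ)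
    (H : Subgroup ↥(Cfsg.SU n F q)) (hu : u ∈ H)
    (hT : ∀ (k : ℤ) (x : F), tauU σ q (uvec q u a k) x ∈ H)
    (hS : ∀ (j k : ℤ), j ≠ k → |j - k| < (m : ℤ) → ∀ s : F,
      sigU σ q (uvec q u a j) (uvec q u a k) s ∈ H)
    (w : Fin n → F) (hw : hf σ w a = 0) : InQ σ q H a w := by
  classical
  have ha0 : uvec q u a 0 = a := uvec_zero
  have hm2 : (2 : ℤ) ≤ (m : ℤ) := by exact_mod_cast hm
  have hm0 : (0 : ℤ) < (m : ℤ) := by omega
  have habs0 : |(0 : ℤ) - 0| < (m : ℤ) := by simpa using hm0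
  have ha : hf σ a a = 0 := by
    have := gram_zero hσq hσ2 hg 0 0 habs0
    rwa [ha0] at this
  have hTa : ∀ x : F, tauU σ q a x ∈ H := fun x => by
    have := hT 0 x
    rwa [ha0] at this
  have hzero : InQ σ q H a 0 := by
    have := inQ_smul_self hσq hσ hσ2 H a ha hTa 0
    rwa [zero_smul] at this
  have hk0abs : ∀ k : ℤ, |k| < (m : ℤ) → |k - 0| < (m : ℤ) := fun k hk => by simpa using hk
  have hgen : ∀ k : ℤ, |k| < (m : ℤ) → ∀ s : F, InQ σ q H a (s • uvec q u a k) := by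
    intro k hk s
    by_cases hk0 : k = 0
    · subst hk0
      rw [ha0]
      exact inQ_smul_self hσq hσ hσ2 H a ha hTa s
    · have hkk : hf σ (uvec q u a k) (uvec q u a k) = 0 :=
        gram_zero hσq hσ2 hg k k (by simpa using hm0)
      have hka : hf σ (uvec q u a k) a = 0 := by
        have := gram_zero hσq hσ2 hg k 0 (hk0abs k hk)
        rwa [ha0] at this
      refine inQ_of_sig hσq hσ hσ2 H a ha hTa (uvec q u a k) hkk hka (fun s' => ?_) s
      have := hS k 0 hk0 (hk0abs k hk) s'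
      rwa [ha0] at this
  set U : Submodule F (Fin n → F) :=
    Submodule.span F {v | ∃ k : ℤ, |k| < (m : ℤ) ∧ v = uvec q u a k} with hU
  have hUQ : ∀ v ∈ U, ∀ s : F, InQ σ q H a (s • v) := by
    intro v hv
    induction hv using Submodule.span_induction with
    | mem v hv =>
      obtain ⟨k, hk, rfl⟩ := hv
      exact hgen k hk
    | zero =>
      intro s
      rw [smul_zero]
      exact hzero
    | add v v' _ _ hv hv' =>
      intro s
      rw [smul_add]
      exact inQ_add hσq hσ hσ2 H a ha hTa (hv s) (hv' s)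
    | smul c v _ hv =>
      intro s
      rw [smul_smul]
      exact hv (s * c)
  have hUa : ∀ v ∈ U, hf σ v a = 0 := by
    intro v hv
    induction hv using Submodule.span_induction with
    | mem v hv =>
      obtain ⟨k, hk, rfl⟩ := hv
      have := gram_zero hσq hσ2 hg k 0 (hk0abs k hk)
      rwa [ha0] at this
    | zero => exact hf_zero_left σ a
    | add v v' _ _ hv hv' => rw [hf_add_left, hv, hv', add_zero]
    | smul c v _ hv => rw [hf_smul_left, hv, mul_zero]
  obtain ⟨g, μ, c₁, c₂, hgH, hμ, hga, hgy⟩ := exists_g hσq hσ hσ2 hm hφ hg H hu hT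
  set y : Fin n → F := ((g : SLn) : Mn) *ᵥ uvec q u a (-1) with hy
  have hσμ : σ μ ≠ 0 := Cfsg.Agent.Lib.Helper37.map_ne_zero_of_invol σ hσ2 hμ
  have habs1 : |(-1 : ℤ)| < (m : ℤ) := by
    rw [abs_neg, abs_one]
    omega
  have hyQ : ∀ s : F, InQ σ q H a (s • y) := by
    intro s
    have h1 : InQ σ q H a ((s / σ μ) • uvec q u a (-1)) := hgen (-1) habs1 _
    have h2 := inQ_conj hσq hσ2 H a ha g hgH μ hμ hga h1
    rw [Matrix.mulVec_smul, smul_smul, mul_div_cancel₀ _ hσμ] at h2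
    exact h2
  have hya : hf σ y a = 0 := by
    have h1 := su_hf hσq g (uvec q u a (-1)) a
    rw [hga, hf_smul_right] at h1
    have h2 : hf σ (uvec q u a (-1)) a = 0 := by
      have := gram_zero hσq hσ2 hg (-1) 0 (hk0abs (-1) habs1)
      rwa [ha0] at this
    rw [h2] at h1
    exact (mul_eq_zero.mp h1).resolve_left hσμ
  set am : Fin n → F := uvec q u a (-(m : ℤ)) with ham
  set T : Submodule F (Fin n → F) := U ⊔ Submodule.span F {am} ⊔ Submodule.span F {y} with hTdef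
  have hUT : U ≤ T := le_sup_of_le_left le_sup_left
  have hamT : am ∈ T :=
    (le_sup_of_le_left le_sup_right : Submodule.span F {am} ≤ T) (Submodule.mem_span_singleton_self _)
  have hyT : y ∈ T := (le_sup_right : Submodule.span F {y} ≤ T) (Submodule.mem_span_singleton_self _)
  have haT : a ∈ T := hUT (Submodule.subset_span ⟨0, by simpa using hm0, ha0.symm⟩)
  have hIco : ∀ k ∈ Finset.Ico (-(m : ℤ)) m, uvec q u a k ∈ T := by
    intro k hk
    rw [Finset.mem_Ico] at hk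
    by_cases hkm : k = -(m : ℤ)
    · rw [hkm]
      exact hamT
    · refine hUT (Submodule.subset_span ⟨k, ?_, rfl⟩)
      rw [abs_lt]
      constructor <;> omega
  obtain ⟨ν, hν⟩ := uvec_rec hn hg
  have hmT : uvec q u a m ∈ T := by
    have h1 : uvec q u a m =
        y - (∑ k ∈ Finset.Ico (-(m : ℤ)) m, ν k • uvec q u a k) - c₁ • a - c₂ • am := by
      rw [hgy, hν]
      abel
    rw [h1]
    exact T.sub_mem (T.sub_mem (T.sub_mem hyT (T.sum_mem fun k hk => T.smul_mem _ (hIco k hk)))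
      (T.smul_mem _ haT)) (T.smul_mem _ hamT)
  obtain ⟨c, hc⟩ := uvec_spanZ hn hg w
  have hwT : w ∈ T := by
    rw [hc]
    refine T.sum_mem fun k hk => T.smul_mem _ ?_
    rw [Finset.mem_Icc] at hk
    by_cases hkm : k = (m : ℤ)
    · rw [hkm]
      exact hmT
    · exact hIco k (Finset.mem_Ico.mpr ⟨hk.1, lt_of_le_of_ne hk.2 hkm⟩)
  obtain ⟨t₁, ht₁, ey, hey, hsum⟩ := Submodule.mem_sup.mp hwT
  obtain ⟨u₀, hu₀, dm, hdm, hsum'⟩ := Submodule.mem_sup.mp ht₁
  obtain ⟨d, rfl⟩ := Submodule.mem_span_singleton.mp hdm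
  obtain ⟨e, rfl⟩ := Submodule.mem_span_singleton.mp hey
  have hamφ : hf σ am a = φ := by
    have := gram_phi hσq hg (-(m : ℤ))
    rw [neg_add_cancel, ha0] at this
    exact this
  have hd : d = 0 := by
    have h1 : hf σ w a = hf σ u₀ a + d * hf σ am a + e * hf σ y a := by
      rw [← hsum, ← hsum', hf_add_left, hf_add_left, hf_smul_left, hf_smul_left]
    rw [hw, hUa u₀ hu₀, hamφ, hya] at h1
    have h2 : d * φ = 0 := by linear_combination -h1
    exact (mul_eq_zero.mp h2).resolve_right hφ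
  rw [← hsum, ← hsum', hd, zero_smul, add_zero]
  have h3 := hUQ u₀ hu₀ 1
  rw [one_smul] at h3
  exact inQ_add hσq hσ hσ2 H a ha hTa h3 (hyQ e)

end Cfsg.Agent.Lib.Helper30.SUReg
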