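import Cfsg.Agent.Lib.Helper53.SUReg.Calc1
import Cfsg.Agent.Lib.Helper23.SU3GHilb

set_option autoImplicit false

/-!
helper30, S2282 (helper53's sheet), module [TRANS]: if a subgroup `H` of `SU_n(q)` contains the full Siegel groups `Q_x`, `Q_y`
of a hyperbolic pair `x, y`, then it contains every unitary transvection.
-/

namespace Cfsg.Agent.Lib.Helper30.SUReg

open Matrix Cfsg.Agent.S0837 Cfsg.Agent.S0781 Cfsg.Agent.S2644 Cfsg.Agent.Lib.Helper53.SUReg

variable {n : ℕ} {F : Type*} [Field F] {σ : F →+* F} {q : ℕ}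

local notation "SLn" => Matrix.SpecialLinearGroup (Fin n) F
local notation "Mn" => Matrix (Fin n) (Fin n) F

theorem hf_sub_right' (u v w : Fin n → F) : hf σ u (v - w) = hf σ u v - hf σ u w := by
  simp [hf, mul_sub, Finset.sum_sub_distrib]

theorem hf_zero_right' (u : Fin n → F) : hf σ u 0 = 0 := by simp [hf]

theorem tauU_zero (hσq : ∀ x, σ x = x ^ q) (hσ2 : ∀ x, σ (σ x) = x) (t : F) :
    (tauU σ q (0 : Fin n → F) t : ↥(Cfsg.SU n F q)) = 1 := by
  apply su_ext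
  intro v
  rw [tauU_mulVec hσq hσ2 (hf_zero_left σ 0), one_mulVec', smul_zero, add_zero]

/-- the transvection of a scaled isotropic vector -/
theorem tauU_smul (hσq : ∀ x, σ x = x ^ q) (hσ2 : ∀ x, σ (σ x) = x) {p : Fin n → F}
    (hp : hf σ p p = 0) (lam : F) (hlam : lam ≠ 0) (t : F) :
    (tauU σ q p t : ↥(Cfsg.SU n F q)) = tauU σ q (lam • p) (t / (lam * σ lam)) := by
  have hp' : hf σ (lam • p) (lam • p) = 0 := by rw [hf_smul_left, hf_smul_right, hp]; ring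
  have hσlam : σ lam ≠ 0 := Cfsg.Agent.Lib.Helper37.map_ne_zero_of_invol σ hσ2 hlam
  apply su_ext
  intro v
  rw [tauU_mulVec hσq hσ2 hp, tauU_mulVec hσq hσ2 hp', hf_smul_right, smul_smul]
  congr 2
  rw [map_div₀, map_mul, hσ2]
  field_simp

/-- the case `hf p x ≠ 0` -/
theorem tv_mem_caseA (hσq : ∀ x, σ x = x ^ q) (hσ2 : ∀ x, σ (σ x) = x)
    (H : Subgroup ↥(Cfsg.SU n F q)) (x y : Fin n → F)
    (hx : hf σ x x = 0) (hy : hf σ y y = 0) (hxy : hf σ x y ≠ 0)
    (hQx : ∀ (w : Fin n → F) (β : F), hf σ w x = 0 → β + σ β + hf σ w w = 0 → siegU σ q x w β ∈ H)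
    (hQy : ∀ (w : Fin n → F) (β : F), hf σ w y = 0 → β + σ β + hf σ w w = 0 → siegU σ q y w β ∈ H)
    (p : Fin n → F) (t : F) (hp : hf σ p p = 0) (hpx : hf σ p x ≠ 0) : tauU σ q p t ∈ H := by
  have hyx : hf σ y x ≠ 0 := by
    rw [hf_symm σ hσ2]
    exact Cfsg.Agent.Lib.Helper37.map_ne_zero_of_invol σ hσ2 hxy
  set η : F := hf σ y x with hη
  have hση : σ η ≠ 0 := Cfsg.Agent.Lib.Helper37.map_ne_zero_of_invol σ hσ2 hyx
  set lam : F := η / hf σ p x with hlam
  have hlam0 : lam ≠ 0 := div_ne_zero hyx hpx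
  set p' : Fin n → F := lam • p with hp'
  have hp'x : hf σ p' x = η := by rw [hp', hf_smul_left, hlam, div_mul_cancel₀ _ hpx]
  have hp'p' : hf σ p' p' = 0 := by rw [hp', hf_smul_left, hf_smul_right, hp]; ring
  set w₀ : Fin n → F := η⁻¹ • (p' - y) with hw₀
  have hw₀x : hf σ w₀ x = 0 := by
    rw [hw₀, hf_smul_left, hf_sub_left, hp'x, ← hη, sub_self, mul_zero]
  set β : F := hf σ y p' / (η * σ η) with hβ
  have hyw₀ : hf σ y w₀ = η * β := by
    rw [hw₀, hf_smul_right, hf_sub_right', hy, sub_zero, map_inv₀, hβ]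
    field_simp
  have hw₀w₀ : hf σ w₀ w₀ = -(hf σ p' y + hf σ y p') / (η * σ η) := by
    rw [hw₀, hf_smul_left, hf_smul_right, hf_sub_left, hf_sub_right', hf_sub_right', hp'p', hy, map_inv₀]
    field_simp
    ring
  have hsymm : σ (hf σ y p') = hf σ p' y := (hf_symm σ hσ2 p' y).symm
  have hadm : β + σ β + hf σ w₀ w₀ = 0 := by
    rw [hw₀w₀, hβ, map_div₀, map_mul, hσ2, hsymm]
    field_simp
    ring
  have hg : siegU σ q x w₀ β ∈ H := hQx w₀ β hw₀x hadm
  have hgy : (((siegU σ q x w₀ β : ↥(Cfsg.SU n F q)) : SLn) : Mn) *ᵥ y = p' := by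
    rw [siegU_mulVec hσq hσ2 hx hw₀x hadm, ← hη, hyw₀, hw₀, smul_add, smul_smul, mul_inv_cancel₀ hyx, one_smul,
      smul_smul]
    abel
  have hty : ∀ t' : F, tauU σ q y t' ∈ H := by
    intro t'
    rw [tauU_eq_siegU]
    exact hQy 0 _ (hf_zero_left σ y) (by rw [hf_zero_left, map_sub, hσ2]; ring)
  have htp' : ∀ t' : F, tauU σ q p' t' ∈ H := by
    intro t'
    have h1 := conj_tauU hσq hσ2 (siegU σ q x w₀ β) hy t'
    rw [hgy] at h1
    rw [← h1]
    exact H.mul_mem (H.mul_mem hg (hty t')) (H.inv_mem hg)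
  rw [tauU_smul hσq hσ2 hp lam hlam0 t]
  exact htp' _

/-- **S2282-[TRANS]** -/
theorem tv_mem_of_siegel (hσq : ∀ x, σ x = x ^ q) (hσ : σ ≠ RingHom.id F)
    (hσ2 : ∀ x, σ (σ x) = x) (H : Subgroup ↥(Cfsg.SU n F q)) (x y : Fin n → F)
    (hx : hf σ x x = 0) (hy : hf σ y y = 0) (hxy : hf σ x y ≠ 0)
    (hQx : ∀ (w : Fin n → F) (β : F), hf σ w x = 0 → β + σ β + hf σ w w = 0 → siegU σ q x w β ∈ H)
    (hQy : ∀ (w : Fin n → F) (β : F), hf σ w y = 0 → β + σ β + hf σ w w = 0 → siegU σ q y w β ∈ H)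
    (p : Fin n → F) (t : F) (hp : hf σ p p = 0) : tauU σ q p t ∈ H := by
  have hyx : hf σ y x ≠ 0 := by
    rw [hf_symm σ hσ2]
    exact Cfsg.Agent.Lib.Helper37.map_ne_zero_of_invol σ hσ2 hxy
  by_cases hpx : hf σ p x = 0
  · by_cases hpy : hf σ p y = 0
    · by_cases hp0 : p = 0
      · rw [hp0, tauU_zero hσq hσ2]
        exact H.one_mem
      · obtain ⟨w₁, hw₁⟩ := Cfsg.Agent.Lib.Helper37.exists_hf_ne_zero σ hσ2 p hp0
        have hpw₁ : hf σ p w₁ ≠ 0 := by
          rw [hf_symm σ hσ2]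
          exact Cfsg.Agent.Lib.Helper37.map_ne_zero_of_invol σ hσ2 hw₁
        set w : Fin n → F := w₁ - (hf σ w₁ x / hf σ y x) • y with hw
        have hwx : hf σ w x = 0 := by
          rw [hw, hf_sub_left, hf_smul_left, div_mul_cancel₀ _ hyx, sub_self]
        have hpw : hf σ p w = hf σ p w₁ := by
          rw [hw, hf_sub_right', hf_smul_right, hpy, mul_zero, sub_zero]
        have hfix : σ (-hf σ w w) = -hf σ w w := by
          rw [map_neg, ← hf_symm σ hσ2]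
        obtain ⟨β, hβ⟩ := Cfsg.Agent.Lib.Helper23.SU3G.exists_trace_eq σ hσ hσ2 _ hfix
        have hadm : β + σ β + hf σ w w = 0 := by rw [hβ]; ring
        have hh : siegU σ q x w β ∈ H := hQx w β hwx hadm
        set h : ↥(Cfsg.SU n F q) := siegU σ q x w β with hhdef
        set p' : Fin n → F := ((h : SLn) : Mn) *ᵥ p with hp'
        have hp'eq : p' = p - hf σ p w • x := by
          rw [hp', hhdef, siegU_mulVec hσq hσ2 hx hwx hadm, hpx, zero_smul, add_zero]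
        have hp'p' : hf σ p' p' = 0 := by rw [hp', su_hf hσq, hp]
        have hp'y : hf σ p' y ≠ 0 := by
          rw [hp'eq, hf_sub_left, hf_smul_left, hpy, zero_sub, hpw]
          exact neg_ne_zero.mpr (mul_ne_zero hpw₁ hxy)
        have h1 : tauU σ q p' t ∈ H :=
          tv_mem_caseA hσq hσ2 H y x hy hx hyx hQy hQx p' t hp'p' hp'y
        have h2 := conj_tauU hσq hσ2 h⁻¹ hp'p' t
        rw [hp', inv_mulVec_mulVec, inv_inv] at h2
        rw [← h2]
        exact H.mul_mem (H.mul_mem (H.inv_mem hh) h1) hh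
    · exact tv_mem_caseA hσq hσ2 H y x hy hx hyx hQy hQx p t hp hpy
  · exact tv_mem_caseA hσq hσ2 H x y hx hy hxy hQx hQy p t hp hpx

end Cfsg.Agent.Lib.Helper30.SUReg
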