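import Mathlib
import Cfsg.Agent.Lib.Helper85.SqfDefs
import Cfsg.Agent.Lib.Helper85.SqfAux
import Cfsg.Agent.Lib.Helper52.SqfInh
import Cfsg.Agent.Lib.Helper1.PCore
import Cfsg.Agent.Lib.Helper1.Fitting
import Cfsg.Agent.Lib.Helper21.OddTransLinearMul

/-!
# Project SQF (helper85, S4130), module SQF-[DER] (hedge by helper30)

`squarefree_card_commutator_of`: the derived subgroup of a finite solvable group with squarefree class sizes has
squarefree order, from the statements of [SS], [IDX] and [DER-BASE] (exact skeleton statements, universe `u`),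
taken as hypotheses.  Strong induction on `|G|`; [INH-S] for the quotient by `O_r(G)`.
-/

set_option autoImplicit false

universe u

namespace Cfsg.Agent.Lib.Helper30.Sqf

open Cfsg Cfsg.Agent.Lib.Helper85.Sqf

/-- the statement of [SS] in universe `u` -/
def SSStmt : Prop :=
  ∀ (G : Type u) [Group G] [Finite G] [Group.IsSolvable G], SqF G → Cfsg.IsSupersolvable G

/-- the statement of [IDX] in universe `u` -/
def IdxStmt : Prop :=
  ∀ (G : Type u) [Group G] [Finite G], SqF G → commutator G ≤ fittingSubgroup G →
    Squarefree (fittingSubgroup G).index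

/-- the statement of [DER-BASE] in universe `u` -/
def DerBaseStmt : Prop :=
  ∀ (G : Type u) [Group G] [Finite G], SqF G → ∀ (p : ℕ) [Fact p.Prime],
    IsPGroup p (fittingSubgroup G) →
    Subgroup.centralizer (fittingSubgroup G : Set G) ≤ fittingSubgroup G →
    commutator G ≤ fittingSubgroup G → IsCyclic (G ⧸ fittingSubgroup G) →
    Nat.card (commutator G) ∣ p

/-- the order of the image of a subgroup `K` in `G ⧸ R`, `R` an `r`-group: `|K| = |image| * r ^ a`. -/
theorem card_eq_card_map_mul_pow {G : Type*} [Group G] [Finite G] (R : Subgroup G) [R.Normal]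
    {r : ℕ} [Fact r.Prime] (hR : IsPGroup r R) (K : Subgroup G) :
    ∃ a : ℕ, Nat.card K = Nat.card (K.map (QuotientGroup.mk' R)) * r ^ a := by
  set φ : ↥K →* G ⧸ R := (QuotientGroup.mk' R).domRestrict K with hφ
  have hker : φ.ker = R.subgroupOf K := by
    rw [hφ, MonoidHom.ker_domRestrict, QuotientGroup.ker_mk']
  have hrange : φ.range = K.map (QuotientGroup.mk' R) := by
    rw [hφ, MonoidHom.domRestrict_range]
  have hp : IsPGroup r φ.ker := by
    rw [hker]
    exact hR.comap_subtype
  obtain ⟨a, ha⟩ := hp.exists_card_eq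
  refine ⟨a, ?_⟩
  rw [Subgroup.card_eq_card_quotient_mul_card_subgroup φ.ker, ha,
    Nat.card_congr (QuotientGroup.quotientKerEquivRange φ).toEquiv, hrange]

theorem squarefree_card_commutator_aux (hSS : SSStmt.{u}) (hIDX : IdxStmt.{u})
    (hDB : DerBaseStmt.{u}) : ∀ n : ℕ,
    ∀ (G : Type u) [Group G] [Finite G] [Group.IsSolvable G],
    Nat.card G = n → SqF G → Squarefree (Nat.card (commutator G)) := by
  intro n
  induction n using Nat.strong_induction_on with
  | _ n ih =>
  intro G _ _ _ hn h
  rw [Nat.squarefree_iff_prime_squarefree]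
  intro p hp hpp
  have : Fact p.Prime := ⟨hp⟩
  by_cases hex : ∃ r : ℕ, r.Prime ∧ r ≠ p ∧ pCore r G ≠ ⊥
  · obtain ⟨r, hr, hrp, hR1⟩ := hex
    have : Fact r.Prime := ⟨hr⟩
    have hRn : (pCore r G).Normal := Cfsg.Agent.Lib.Helper1.pCore_normal r
    have hRp : IsPGroup r (pCore r G) := Cfsg.Agent.Lib.Helper1.pCore_isPGroup r
    have hsurj : Function.Surjective (QuotientGroup.mk' (pCore r G)) :=
      QuotientGroup.mk'_surjective _
    have hQ : SqF (G ⧸ pCore r G) :=
      Cfsg.Agent.Lib.Helper52.Sqf.SqF.of_surjective h (QuotientGroup.mk' (pCore r G)) hsurj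
    have hlt : Nat.card (G ⧸ pCore r G) < n := by
      rw [← hn, ← Subgroup.index_eq_card, ← (pCore r G).index_mul_card]
      have h0 : 0 < (pCore r G).index := Nat.pos_of_ne_zero Subgroup.index_ne_zero_of_finite
      have h2 : 1 < Nat.card (pCore r G) := by
        rw [Subgroup.one_lt_card_iff_ne_bot]
        exact hR1
      nlinarith
    have hsq : Squarefree (Nat.card (commutator (G ⧸ pCore r G))) :=
      ih _ hlt (G ⧸ pCore r G) rfl hQ
    have hmap : commutator (G ⧸ pCore r G) =
        (commutator G).map (QuotientGroup.mk' (pCore r G)) := by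
      rw [commutator_def, commutator_def, Subgroup.map_commutator,
        Subgroup.map_top_of_surjective _ hsurj]
    obtain ⟨a, ha⟩ := card_eq_card_map_mul_pow (pCore r G) hRp (commutator G)
    rw [ha] at hpp
    have hcop : Nat.Coprime (p * p) (r ^ a) := by
      apply Nat.Coprime.pow_right
      apply Nat.Coprime.mul_left <;> exact (Nat.coprime_primes hp hr).mpr (Ne.symm hrp)
    have hdvd : p * p ∣ Nat.card ((commutator G).map (QuotientGroup.mk' (pCore r G))) :=
      hcop.dvd_of_dvd_mul_right hpp
    rw [← hmap] at hdvd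
    exact (Nat.squarefree_iff_prime_squarefree.mp hsq) p hp hdvd
  · push Not at hex
    -- F(G) = O_p(G)
    have hF : fittingSubgroup G = pCore p G := by
      rw [Cfsg.Agent.Lib.Helper1.fittingSubgroup_eq_iSup_pCore]
      apply le_antisymm
      · apply iSup_le
        intro q
        by_cases hq : (q : ℕ) = p
        · rw [hq]
        · rw [hex q q.2 hq]
          exact bot_le
      · exact le_iSup (fun q : Nat.Primes => pCore (q : ℕ) G) ⟨p, hp⟩
    have hFp : IsPGroup p (fittingSubgroup G) := by
      rw [hF]
      exact Cfsg.Agent.Lib.Helper1.pCore_isPGroup p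
    have hss : Cfsg.IsSupersolvable G := hSS G h
    have hab : commutator G ≤ fittingSubgroup G := commutator_le_fitting_of_isSupersolvable hss
    have hidx : Squarefree (fittingSubgroup G).index := hIDX G h hab
    have hcyc : IsCyclic (G ⧸ fittingSubgroup G) :=
      isCyclic_quotient_fitting_of hab hidx Cfsg.Agent.Lib.Helper1.fittingSubgroup_normal
    have hCF : Subgroup.centralizer (fittingSubgroup G : Set G) ≤ fittingSubgroup G :=
      Cfsg.Agent.Lib.Helper21.OddTransLinear.centralizer_fitting_le_of_isSolvable inferInstance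
    have hdvd : Nat.card (commutator G) ∣ p := hDB G h p hFp hCF hab hcyc
    have h1 : p * p ∣ p := hpp.trans hdvd
    have h2 : p * p ≤ p := Nat.le_of_dvd hp.pos h1
    have h3 : 2 ≤ p := hp.two_le
    nlinarith

/-- [DER], from the statements of [SS], [IDX], [DER-BASE] -/
theorem squarefree_card_commutator_of (hSS : SSStmt.{u}) (hIDX : IdxStmt.{u})
    (hDB : DerBaseStmt.{u}) {G : Type u} [Group G] [Finite G] [Group.IsSolvable G]
    (h : SqF G) : Squarefree (Nat.card (commutator G)) :=
  squarefree_card_commutator_aux hSS hIDX hDB (Nat.card G) G rfl h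

end Cfsg.Agent.Lib.Helper30.Sqf
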