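import Cfsg.Agent.Lib.Helper85.Suz2Defs

/-!
# SUZ2-[C2A] (helper30): `Nsub P` central and `P' ≤ Z0 P` imply `P` abelian

Core in hypothesis form: the four dependencies ([HUP-A], [HUP-B], [ABSQ], [L]) enter as hypotheses
`zc`, `L`, `habsq`, `hL`, stated exactly as the conclusions of the skeleton statements.
-/

set_option autoImplicit false

namespace Cfsg.Agent.Lib.Helper30.Suz2

open Cfsg.Agent.Lib.Helper19.Suz Cfsg.Agent.Lib.Helper85.Suz2

universe u

variable {P : Type u} [Group P] {Y : Subgroup (MulAut P)}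

/-- the commutator in the convention of the sheet -/
def cmm (x y : P) : P := x⁻¹ * y⁻¹ * x * y

theorem cmm_self (x : P) : cmm x x = 1 := by unfold cmm; group

theorem cmm_eq_one_iff {x y : P} : cmm x y = 1 ↔ x * y = y * x := by
  unfold cmm
  constructor
  · intro h
    calc x * y = y * x * (x⁻¹ * y⁻¹ * x * y) := by group
      _ = y * x := by rw [h, mul_one]
  · intro h
    calc x⁻¹ * y⁻¹ * x * y = x⁻¹ * y⁻¹ * (x * y) := by group
      _ = 1 := by rw [h]; group

theorem cmm_mul_left (hc : ∀ x y : P, cmm x y ∈ Subgroup.center P) (x x' y : P) :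
    cmm (x * x') y = cmm x y * cmm x' y := by
  have h1 := Subgroup.mem_center_iff.mp (hc x y) x'⁻¹
  unfold cmm at h1 ⊢
  calc (x * x')⁻¹ * y⁻¹ * (x * x') * y
      = x'⁻¹ * (x⁻¹ * y⁻¹ * x * y) * (y⁻¹ * x' * y) := by group
    _ = (x⁻¹ * y⁻¹ * x * y) * x'⁻¹ * (y⁻¹ * x' * y) := by rw [h1]
    _ = x⁻¹ * y⁻¹ * x * y * (x'⁻¹ * y⁻¹ * x' * y) := by group

theorem cmm_mul_right (hc : ∀ x y : P, cmm x y ∈ Subgroup.center P) (x y y' : P) :
    cmm x (y * y') = cmm x y * cmm x y' := by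
  have h1 := Subgroup.mem_center_iff.mp (hc x y) (x⁻¹ * y'⁻¹ * x)
  unfold cmm at h1 ⊢
  calc x⁻¹ * (y * y')⁻¹ * x * (y * y')
      = (x⁻¹ * y'⁻¹ * x) * (x⁻¹ * y⁻¹ * x * y) * y' := by group
    _ = (x⁻¹ * y⁻¹ * x * y) * (x⁻¹ * y'⁻¹ * x) * y' := by rw [h1]
    _ = x⁻¹ * y⁻¹ * x * y * (x⁻¹ * y'⁻¹ * x * y') := by group

theorem cmm_of_mem_center_left {z : P} (hz : z ∈ Subgroup.center P) (y : P) : cmm z y = 1 := by
  rw [cmm_eq_one_iff]; exact (Subgroup.mem_center_iff.mp hz y).symm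

theorem cmm_of_mem_center_right {z : P} (hz : z ∈ Subgroup.center P) (x : P) : cmm x z = 1 := by
  rw [cmm_eq_one_iff]; exact Subgroup.mem_center_iff.mp hz x

theorem cmm_congr_left (hc : ∀ x y : P, cmm x y ∈ Subgroup.center P) {x x' : P}
    (hz : x⁻¹ * x' ∈ Subgroup.center P) (y : P) : cmm x' y = cmm x y := by
  have e : x' = x * (x⁻¹ * x') := by group
  calc cmm x' y = cmm (x * (x⁻¹ * x')) y := by rw [← e]
    _ = cmm x y := by rw [cmm_mul_left hc, cmm_of_mem_center_left hz, mul_one]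

theorem cmm_congr_right (hc : ∀ x y : P, cmm x y ∈ Subgroup.center P) {y y' : P}
    (hz : y⁻¹ * y' ∈ Subgroup.center P) (x : P) : cmm x y' = cmm x y := by
  have e : y' = y * (y⁻¹ * y') := by group
  calc cmm x y' = cmm x (y * (y⁻¹ * y')) := by rw [← e]
    _ = cmm x y := by rw [cmm_mul_right hc, cmm_of_mem_center_right hz, mul_one]

theorem cmm_aut (k : MulAut P) (x y : P) : k (cmm x y) = cmm (k x) (k y) := by
  unfold cmm; simp only [map_mul, map_inv]

theorem sq_mem_center (hab : ∀ x y : P, cmm x y ∈ Z0 P) (x : P) :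
    x * x ∈ Subgroup.center P := by
  have hc : ∀ x y : P, cmm x y ∈ Subgroup.center P := fun x y => (hab x y).1
  rw [Subgroup.mem_center_iff]
  intro g
  have h1 : cmm (x * x) g = 1 := by
    rw [cmm_mul_left hc]; exact (hab x g).2
  exact (cmm_eq_one_iff.mp h1).symm

theorem exists_center_exponent (h : SHyp P Y) :
    ∃ k : ℕ, (∀ z ∈ Subgroup.center P, z ^ (2 ^ (k + 1)) = 1) ∧
      ∃ z ∈ Subgroup.center P, z ^ (2 ^ k) ≠ 1 := by
  classical
  have := h.fin
  have : Fact (Nat.Prime 2) := ⟨Nat.prime_two⟩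
  obtain ⟨N, hN⟩ := (IsPGroup.iff_card (p := 2) (G := P)).mp h.pgrp
  have hS : ∃ K : ℕ, ∀ z ∈ Subgroup.center P, z ^ (2 ^ K) = 1 :=
    ⟨N, fun z _ => by rw [← hN]; exact pow_card_eq_one'⟩
  have hmin := @Nat.find_min _ _ hS
  have hspec := Nat.find_spec hS
  obtain ⟨x, y, hxy, hx1, hx2, -⟩ := h.two
  have hxc := h.inv_central hx1 hx2
  cases hK : Nat.find hS with
  | zero =>
    exfalso
    rw [hK] at hspec
    have := hspec x hxc
    rw [pow_zero, pow_one] at this
    exact hx1 this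
  | succ k =>
    refine ⟨k, ?_, ?_⟩
    · rw [hK] at hspec; exact hspec
    · have := hmin (m := k) (by rw [hK]; exact Nat.lt_succ_self k)
      push Not at this
      exact this

/-- `φ(x) = x ^ (2 ^ (j + 2))`, written through the central square -/
def phi (j : ℕ) (x : P) : P := (x * x) ^ (2 ^ (j + 1))

theorem phi_mem_Z0 (h : SHyp P Y) (hsq : ∀ x : P, x * x ∈ Subgroup.center P) (j : ℕ)
    (hk : ∀ z ∈ Subgroup.center P, z ^ (2 ^ (j + 1 + 1)) = 1) (x : P) : phi j x ∈ Z0 P := by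
  rw [h.mem_Z0_iff]
  unfold phi
  rw [← pow_add, ← two_mul, ← pow_succ']
  exact hk _ (hsq x)

theorem phi_mul (hab : ∀ x y : P, cmm x y ∈ Z0 P) (hsq : ∀ x : P, x * x ∈ Subgroup.center P)
    (j : ℕ) (x y : P) : phi j (x * y) = phi j x * phi j y := by
  have hc : cmm y x ∈ Subgroup.center P := (hab y x).1
  have hc2 : cmm y x * cmm y x = 1 := (hab y x).2
  have e : (x * y) * (x * y) = (x * x) * (y * y) * cmm y x := by
    have h1 : y * cmm y x = cmm y x * y := Subgroup.mem_center_iff.mp hc y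
    unfold cmm at h1 ⊢
    calc (x * y) * (x * y) = (x * x) * y * ((y⁻¹ * x⁻¹ * y * x) * y) := by group
      _ = (x * x) * y * (y * (y⁻¹ * x⁻¹ * y * x)) := by rw [h1]
      _ = (x * x) * (y * y) * (y⁻¹ * x⁻¹ * y * x) := by group
  unfold phi
  rw [e]
  have hcomm1 : Commute ((x * x) * (y * y)) (cmm y x) := Subgroup.mem_center_iff.mp hc _
  have hcomm2 : Commute (x * x) (y * y) := Subgroup.mem_center_iff.mp (hsq y) _
  rw [hcomm1.mul_pow, hcomm2.mul_pow]
  have h3 : cmm y x ^ (2 ^ (j + 1)) = 1 := by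
    rw [pow_succ', pow_mul, pow_two, hc2, one_pow]
  rw [h3, mul_one]

theorem phi_ker (h : SHyp P Y) (hsq : ∀ x : P, x * x ∈ Subgroup.center P) (j : ℕ)
    (habsq : ∀ y : P, y ∈ Subgroup.center P → y ^ (2 ^ (j + 1)) = 1 →
      ∃ c ∈ Subgroup.center P, c * c = y)
    (x : P) (hx : phi j x = 1) : x ∈ Subgroup.center P := by
  obtain ⟨c, hc, hcc⟩ := habsq (x * x) (hsq x) hx
  have h1 : (x * c⁻¹) * (x * c⁻¹) = 1 := by
    have hci : c⁻¹ ∈ Subgroup.center P := inv_mem hc
    have h2 := Subgroup.mem_center_iff.mp hci x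
    calc (x * c⁻¹) * (x * c⁻¹) = x * (c⁻¹ * x) * c⁻¹ := by group
      _ = x * (x * c⁻¹) * c⁻¹ := by rw [← h2]
      _ = (x * x) * (c * c)⁻¹ := by group
      _ = 1 := by rw [hcc]; group
  have h2 : x * c⁻¹ ∈ Subgroup.center P := h.sq_one_central h1
  have e : x = (x * c⁻¹) * c := by group
  rw [e]; exact mul_mem h2 hc

theorem phi_center (j : ℕ) (hk : ∀ z ∈ Subgroup.center P, z ^ (2 ^ (j + 1 + 1)) = 1)
    (z : P) (hz : z ∈ Subgroup.center P) : phi j z = 1 := by
  unfold phi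
  rw [← pow_two, ← pow_mul, ← pow_succ']
  exact hk z hz

theorem phi_aut (j : ℕ) (k : MulAut P) (x : P) : phi j (k x) = k (phi j x) := by
  unfold phi; rw [map_pow, map_mul]

/-- [C2A] in hypothesis form -/
theorem comm_of_N_central_core {F : Type} [Field F] [Fintype F] {aZ : P → F}
    {κ : MulAut P → F} {σ : MulAut P → (F ≃+* F)} {ξ : MulAut P} {n e : ℕ}
    (h : SHyp P Y) (hcen : Nsub P ≤ Subgroup.center P)
    (hab : ∀ x y : P, x⁻¹ * y⁻¹ * x * y ∈ Z0 P)
    (zc : ZCoord P Y F aZ κ σ) (L : LamHyp P Y F κ σ ξ n e)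
    (habsq : ∀ (k : ℕ), (∀ z ∈ Subgroup.center P, z ^ (2 ^ (k + 1)) = 1) →
      ∀ y : P, y ∈ Subgroup.center P → y ^ (2 ^ k) = 1 →
      (∃ z ∈ Subgroup.center P, z ^ (2 ^ k) ≠ 1) → ∃ c ∈ Subgroup.center P, c * c = y)
    (hL : ∀ B : F → F → F, (∀ x x' y, B (x + x') y = B x y + B x' y) →
      (∀ x y y', B x (y + y') = B x y + B x y') → (∀ x, B x x = 0) →
      (∀ x y, B (κ ξ * x) (κ ξ * y) = κ ξ * B x y) → ∀ x y, B x y = 0) :
    ∀ x y : P, x * y = y * x := by
  classical
  have habc : ∀ x y : P, cmm x y ∈ Z0 P := hab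
  have hc : ∀ x y : P, cmm x y ∈ Subgroup.center P := fun x y => (hab x y).1
  have hsq := sq_mem_center habc
  obtain ⟨k, hk, hex⟩ := exists_center_exponent h
  suffices hall : ∀ x : P, x ∈ Subgroup.center P by
    intro x y; exact Subgroup.mem_center_iff.mp (hall y) x
  cases k with
  | zero =>
    intro x
    apply hcen
    rw [mem_Nsub]
    refine ⟨?_, fun g => hab x g⟩
    rw [h.mem_Z0_iff]
    have h1 := hk (x * x) (hsq x)
    have e2 : (2 : ℕ) ^ (0 + 1) = 2 := by norm_num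
    rw [e2, pow_two] at h1
    exact h1
  | succ j =>
    have hφZ : ∀ x, phi j x ∈ Z0 P := phi_mem_Z0 h hsq j hk
    have hφmul := phi_mul habc hsq j
    have hφker : ∀ x, phi j x = 1 → x ∈ Subgroup.center P :=
      phi_ker h hsq j (fun y hy hyk => habsq (j + 1) hk y hy hyk hex)
    have hφcen := phi_center j hk
    have hφaut := phi_aut (P := P) j
    by_cases htriv : ∀ x : P, phi j x = 1
    · exact fun x => hφker x (htriv x)
    · push Not at htriv
      obtain ⟨x0, hx0⟩ := htriv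
      have hsurj : ∀ w ∈ Z0 P, ∃ x, phi j x = w := by
        intro w hw
        by_cases hw1 : w = 1
        · exact ⟨1, by rw [hw1]; exact hφcen 1 (one_mem _)⟩
        · obtain ⟨k, -, hkw⟩ := h.trans (phi j x0) w hx0 (hφZ x0).2 hw1 hw.2
          exact ⟨k x0, by rw [hφaut, hkw]⟩
      have haZ1 : aZ 1 = 0 := by
        have h1 := zc.aZ_mul 1 (one_mem _) 1 (one_mem _)
        rw [mul_one] at h1
        linear_combination (-1 : F) * h1
      have ht_add : ∀ x y, aZ (phi j (x * y)) = aZ (phi j x) + aZ (phi j y) := fun x y => by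
        rw [hφmul]; exact zc.aZ_mul _ (hφZ x) _ (hφZ y)
      have ht_ker : ∀ x, aZ (phi j x) = 0 → x ∈ Subgroup.center P := fun x hx =>
        hφker x (zc.aZ_inj _ (hφZ x) hx)
      have ht_surj : ∀ u : F, ∃ x, aZ (phi j x) = u := by
        intro u
        obtain ⟨z, hz, hzu⟩ := zc.aZ_surj u
        obtain ⟨x, hx⟩ := hsurj z hz
        exact ⟨x, by rw [hx, hzu]⟩
      have ht_lam : ∀ x, aZ (phi j (ξ x)) = κ ξ * aZ (phi j x) := by
        intro x
        rw [hφaut, zc.act ξ L.ξ_mem _ (hφZ x), L.σξ]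
        rfl
      have ht_cong : ∀ x x', aZ (phi j x) = aZ (phi j x') →
          x⁻¹ * x' ∈ Subgroup.center P := by
        intro x x' hxx'
        apply ht_ker
        rw [ht_add]
        have h0 : aZ (phi j (x⁻¹ * x)) = 0 := by
          rw [inv_mul_cancel, hφcen 1 (one_mem _), haZ1]
        rw [ht_add] at h0
        rw [← hxx']; exact h0
      choose s hs using ht_surj
      have hB := hL (fun u v => aZ (cmm (s u) (s v))) ?_ ?_ ?_ ?_
      · intro x
        rw [Subgroup.mem_center_iff]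
        intro g
        have e1 : cmm x g = cmm (s (aZ (phi j x))) g :=
          cmm_congr_left hc (ht_cong _ _ (hs _)) g
        have e2 : cmm (s (aZ (phi j x))) g = cmm (s (aZ (phi j x))) (s (aZ (phi j g))) :=
          cmm_congr_right hc (ht_cong _ _ (hs _)) _
        have e3 : cmm x g = 1 := by
          rw [e1, e2]
          exact zc.aZ_inj _ (habc _ _) (hB _ _)
        exact (cmm_eq_one_iff.mp e3).symm
      · intro u u' v
        have e : aZ (phi j (s (u + u'))) = aZ (phi j (s u * s u')) := by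
          rw [hs, ht_add, hs, hs]
        have hz := ht_cong _ _ e
        show aZ (cmm (s (u + u')) (s v)) = aZ (cmm (s u) (s v)) + aZ (cmm (s u') (s v))
        rw [← cmm_congr_left hc hz, cmm_mul_left hc]
        exact zc.aZ_mul _ (habc _ _) _ (habc _ _)
      · intro u v v'
        have e : aZ (phi j (s (v + v'))) = aZ (phi j (s v * s v')) := by
          rw [hs, ht_add, hs, hs]
        have hz := ht_cong _ _ e
        show aZ (cmm (s u) (s (v + v'))) = aZ (cmm (s u) (s v)) + aZ (cmm (s u) (s v'))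
        rw [← cmm_congr_right hc hz, cmm_mul_right hc]
        exact zc.aZ_mul _ (habc _ _) _ (habc _ _)
      · intro u
        show aZ (cmm (s u) (s u)) = 0
        rw [cmm_self, haZ1]
      · intro u v
        have e1 : aZ (phi j (s (κ ξ * u))) = aZ (phi j (ξ (s u))) := by rw [hs, ht_lam, hs]
        have e2 : aZ (phi j (s (κ ξ * v))) = aZ (phi j (ξ (s v))) := by rw [hs, ht_lam, hs]
        have hz1 := ht_cong _ _ e1
        have hz2 := ht_cong _ _ e2
        show aZ (cmm (s (κ ξ * u)) (s (κ ξ * v))) = κ ξ * aZ (cmm (s u) (s v))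
        rw [← cmm_congr_left hc hz1, ← cmm_congr_right hc hz2, ← cmm_aut,
          zc.act ξ L.ξ_mem _ (habc _ _), L.σξ]
        rfl

end Cfsg.Agent.Lib.Helper30.Suz2
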