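import Cfsg.Agent.Lib.Helper30.Suz2C2A
import Cfsg.Agent.Lib.Helper98.Suz2HupA
import Cfsg.Agent.Lib.Helper76.Suz2HupB
import Cfsg.Agent.Lib.Helper45.Suz2Absq
import Cfsg.Agent.Lib.Helper45.Suz2L

/-!
# SUZ2-[C2A] (helper30): exact skeleton statement `SHyp.comm_of_N_central`
-/

set_option autoImplicit false

namespace Cfsg.Agent.Lib.Helper30.Suz2

open Cfsg.Agent.Lib.Helper19.Suz Cfsg.Agent.Lib.Helper85.Suz2

universe u

variable {P : Type u} [Group P] {Y : Subgroup (MulAut P)}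

/-- [C2A] -/
theorem SHyp.comm_of_N_central (h : SHyp P Y) (hcen : Nsub P ≤ Subgroup.center P)
    (hab : ∀ x y : P, x⁻¹ * y⁻¹ * x * y ∈ Z0 P) : ∀ x y : P, x * y = y * x := by
  obtain ⟨F, _, _, aZ, κ, σ, zc⟩ := Cfsg.Agent.Lib.Helper98.Suz2.SHyp.exists_zcoord h
  obtain ⟨ξ, n, e, L⟩ := Cfsg.Agent.Lib.Helper76.Suz2.ZCoord.exists_lam h zc
  exact comm_of_N_central_core h hcen hab zc L
    (fun k hk y hy hyk hex =>
      Cfsg.Agent.Lib.Helper45.Suz2.SHyp.center_sq_surj h k hk y hy hyk hex)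
    (fun B h1 h2 h3 h4 =>
      Cfsg.Agent.Lib.Helper45.Suz2.alt_form_zero
        ⟨zc.char2, L.card, L.two_le, L.e_dvd, L.order⟩ B h1 h2 h3 h4)

end Cfsg.Agent.Lib.Helper30.Suz2
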