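/-
helper30: a finite 2-group of symplectic type (all characteristic abelian subgroups cyclic) and of
exponent dividing 4 has all squares and all commutators in `{1, z}`, `z` the central involution
(a small case of P. Hall's theorem, proved through a critical subgroup).
-/
import Mathlib
import Cfsg.Prelude.Def_ClassificationK
import Cfsg.Agent.S0065
import Cfsg.Agent.S1755

set_option autoImplicit false
open scoped commutatorElement

namespace Cfsg.Agent.Lib.Helper30.SympExp4

variable {Q : Type*} [Group Q]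

theorem comm_inv_left_eq (c x : Q) : ⁅c⁻¹, x⁆ = c⁻¹ * ⁅c, x⁆⁻¹ * c⁻¹⁻¹ := by
  simp only [commutatorElement_def]; group

theorem comm_mul_left_eq (c d x : Q) : ⁅c * d, x⁆ = c * ⁅d, x⁆ * c⁻¹ * ⁅c, x⁆ := by
  simp only [commutatorElement_def]; group

/-- the "critical" subgroup attached to a normal subgroup `A`: elements of `C_Q(A)` that are
central of order at most 2 modulo `A`. -/
def critC (A : Subgroup Q) [hA : A.Normal] : Subgroup Q where
  carrier := {c | c ∈ Subgroup.centralizer (A : Set Q) ∧ c * c ∈ A ∧ ∀ x : Q, ⁅c, x⁆ ∈ A}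
  one_mem' := ⟨Subgroup.one_mem _, by simp, fun x => by simp⟩
  mul_mem' := by
    rintro c d ⟨hc1, hc2, hc3⟩ ⟨hd1, hd2, hd3⟩
    refine ⟨Subgroup.mul_mem _ hc1 hd1, ?_, ?_⟩
    · have h1 : ⁅c⁻¹, d⁆ ∈ A := by
        rw [comm_inv_left_eq]
        exact hA.conj_mem _ (A.inv_mem (hc3 d)) _
      have h2 : c * d * (c * d) = c * c * ⁅c⁻¹, d⁆ * (d * d) := by
        simp only [commutatorElement_def]; group
      rw [h2]
      exact A.mul_mem (A.mul_mem hc2 h1) hd2
    · intro x
      rw [comm_mul_left_eq]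
      exact A.mul_mem (hA.conj_mem _ (hd3 x) _) (hc3 x)
  inv_mem' := by
    rintro c ⟨hc1, hc2, hc3⟩
    refine ⟨Subgroup.inv_mem _ hc1, ?_, ?_⟩
    · have : c⁻¹ * c⁻¹ = (c * c)⁻¹ := by group
      rw [this]; exact A.inv_mem hc2
    · intro x
      rw [comm_inv_left_eq]
      exact hA.conj_mem _ (A.inv_mem (hc3 x)) _

theorem mem_critC {A : Subgroup Q} [A.Normal] {c : Q} :
    c ∈ critC A ↔ c ∈ Subgroup.centralizer (A : Set Q) ∧ c * c ∈ A ∧ ∀ x : Q, ⁅c, x⁆ ∈ A :=
  Iff.rfl

theorem critC_characteristic (A : Subgroup Q) [hA : A.Characteristic] :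
    (critC A).Characteristic := by
  rw [Subgroup.characteristic_iff_le_comap]
  intro ϕ c hc
  rw [Subgroup.mem_comap]
  obtain ⟨hc1, hc2, hc3⟩ := hc
  have hcen : (Subgroup.centralizer (A : Set Q)).Characteristic := inferInstance
  refine ⟨?_, ?_, ?_⟩
  · exact (Subgroup.characteristic_iff_le_comap.mp hcen ϕ) hc1
  · have := (Subgroup.characteristic_iff_le_comap.mp hA ϕ) hc2
    rw [Subgroup.mem_comap] at this
    simpa using this
  · intro x
    have h1 := (Subgroup.characteristic_iff_le_comap.mp hA ϕ) (hc3 (ϕ.symm x))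
    rw [Subgroup.mem_comap] at h1
    have h2 : ϕ.toMonoidHom ⁅c, ϕ.symm x⁆ = ⁅ϕ.toMonoidHom c, x⁆ := by
      rw [map_commutatorElement]
      simp
    rw [← h2]; exact h1


theorem sq_eq_of_comm_central {t : Q} (htc : ∀ g : Q, g * t = t * g) (htt : t * t = 1)
    {c g : Q} (h : ⁅c, g⁆ = t) : c * (g * g) = (g * g) * c := by
  have h1 : c * g = t * g * c := by
    rw [← h]; simp only [commutatorElement_def]; group
  calc c * (g * g) = (c * g) * g := by group
    _ = t * g * c * g := by rw [h1]
    _ = t * g * (c * g) := by group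
    _ = t * g * (t * g * c) := by rw [h1]
    _ = t * (g * t) * g * c := by group
    _ = t * (t * g) * g * c := by rw [htc g]
    _ = (t * t) * g * g * c := by group
    _ = (g * g) * c := by rw [htt]; group

variable [Finite Q]

/-- **Main lemma.** In a finite 2-group of symplectic type and exponent dividing 4, every square
is `1` or the central involution. -/
theorem sq_eq_one_or (hQ : Cfsg.IsOfSymplecticType Q)
    (h4 : ∀ x : Q, x ^ 4 = 1) (zQ : Q) (hz : orderOf zQ = 2) (hzc : zQ ∈ Subgroup.center Q) :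
    ∀ x : Q, x * x = 1 ∨ x * x = zQ := by
  classical
  have hp2 : Fact (Nat.Prime 2) := ⟨Nat.prime_two⟩
  -- a characteristic abelian subgroup of largest order
  have hne : Nonempty {A : Subgroup Q // A.Characteristic ∧ IsMulCommutative ↥A} :=
    ⟨⟨⊥, inferInstance, inferInstance⟩⟩
  obtain ⟨⟨A, hAc, hAa⟩, hmax⟩ := Finite.exists_max
    (fun A : {A : Subgroup Q // A.Characteristic ∧ IsMulCommutative ↥A} => Nat.card ↥A.1)
  have hAn : A.Normal := inferInstance
  have hmaxle : ∀ B : Subgroup Q, B.Characteristic → IsMulCommutative ↥B → A ≤ B → B ≤ A := by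
    intro B hBc hBa hAB
    have h1 : Nat.card ↥B ≤ Nat.card ↥A := hmax ⟨B, hBc, hBa⟩
    exact (Subgroup.eq_of_le_of_card_ge hAB h1).ge
  have hAcomm : ∀ x ∈ A, ∀ y ∈ A, x * y = y * x := by
    intro x hx y hy
    have := hAa.is_comm.comm (⟨x, hx⟩ : ↥A) ⟨y, hy⟩
    exact congrArg Subtype.val this
  have hAcyc : IsCyclic ↥A := hQ.2 A hAc hAa
  -- the centre lies in A
  have hcenA : Subgroup.center Q ≤ A := by
    have hBa : IsMulCommutative ↥(Subgroup.center Q ⊔ A) := by
      apply IsMulCommutative.of_setLike_mul_comm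
      intro x hx y hy
      obtain ⟨c, hc, a, ha, rfl⟩ := Subgroup.mem_sup_of_normal_right.mp hx
      obtain ⟨c', hc', a', ha', rfl⟩ := Subgroup.mem_sup_of_normal_right.mp hy
      rw [Subgroup.mem_center_iff] at hc hc'
      calc c * a * (c' * a') = c * (a * c') * a' := by group
        _ = c * (c' * a) * a' := by rw [hc' a]
        _ = (c * c') * (a * a') := by group
        _ = (c' * c) * (a' * a) := by rw [hc' c, hAcomm a ha a' ha']
        _ = c' * (c * a') * a := by group
        _ = c' * (a' * c) * a := by rw [hc a']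
        _ = c' * a' * (c * a) := by group
    exact le_sup_left.trans (hmaxle _ inferInstance hBa le_sup_right)
  have hzA : zQ ∈ A := hcenA hzc
  have hzz : zQ * zQ = 1 := by
    rw [← pow_two, ← hz]; exact pow_orderOf_eq_one zQ
  have hzcomm : ∀ g : Q, g * zQ = zQ * g := Subgroup.mem_center_iff.mp hzc
  have hE : ∀ b ∈ A, b * b = 1 → b = 1 ∨ b = zQ := by
    intro b hb hbb
    by_cases hb1 : b = 1
    · exact Or.inl hb1
    · right
      have hord : orderOf b = 2 := orderOf_eq_prime (by rw [pow_two]; exact hbb) hb1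
      exact Cfsg.Agent.S1755.char_abelian_involution hQ A hAc hAa zQ hz hzc b hb hord
  -- it suffices that all squares lie in A
  suffices hsq : ∀ x : Q, x * x ∈ A by
    intro x
    apply hE _ (hsq x)
    have := h4 x
    calc x * x * (x * x) = x ^ 4 := by simp only [pow_succ, pow_zero, one_mul, mul_assoc]
      _ = 1 := this
  -- a generator of A
  obtain ⟨a, ha⟩ := IsCyclic.exists_generator (α := ↥A)
  have ha4 : (a : Q) ^ (4 : ℤ) = 1 := by
    have := h4 (a : Q)
    exact_mod_cast this
  have hAel : ∀ b ∈ A, ∃ k : ℤ, b = (a : Q) ^ k := by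
    intro b hb
    obtain ⟨k, hk⟩ := Subgroup.mem_zpowers_iff.mp (ha ⟨b, hb⟩)
    refine ⟨k, ?_⟩
    have := congrArg Subtype.val hk
    simpa using this.symm
  have hA4 : ∀ b ∈ A, b = 1 ∨ b = (a : Q) ∨ b = (a : Q) * a ∨ b = (a : Q)⁻¹ := by
    intro b hb
    obtain ⟨k, rfl⟩ := hAel b hb
    rw [zpow_eq_zpow_emod k ha4]
    have h0 : 0 ≤ k % 4 := Int.emod_nonneg k (by norm_num)
    have h1 : k % 4 < 4 := Int.emod_lt_of_pos k (by norm_num)
    have h3 : (a : Q) ^ (3 : ℤ) = (a : Q)⁻¹ := by
      have : (a : Q) ^ (3 : ℤ) * a = 1 := by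
        rw [← ha4]; group
      exact eq_inv_of_mul_eq_one_left this
    interval_cases (k % 4)
    · left; simp
    · right; left; simp
    · right; right; left; rw [show (2 : ℤ) = 1 + 1 by norm_num, zpow_add]; simp
    · right; right; right; exact h3
  have hconj : ∀ g : Q, g * a * g⁻¹ = a ∨ g * a * g⁻¹ = (a : Q)⁻¹ := by
    intro g
    have hmem : g * a * g⁻¹ ∈ A := hAn.conj_mem _ a.2 g
    rcases hA4 _ hmem with h | h | h | h
    · left
      have : (a : Q) = 1 := by
        have := congrArg (fun t => g⁻¹ * t * g) h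
        simpa [mul_assoc] using this
      rw [this]; simp
    · exact Or.inl h
    · left
      -- then a^2 = 1 so a = 1
      have hsq1 : (g * a * g⁻¹) * (g * a * g⁻¹) = 1 := by
        rw [h]
        calc (a : Q) * a * (a * a) = (a : Q) ^ 4 := by
              simp only [pow_succ, pow_zero, one_mul, mul_assoc]
          _ = 1 := h4 _
      have haa : (a : Q) * a = 1 := by
        have : g * ((a : Q) * a) * g⁻¹ = 1 := by rw [← hsq1]; group
        have := congrArg (fun t => g⁻¹ * t * g) this
        simpa [mul_assoc] using this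
      rw [haa] at h
      have : (a : Q) = 1 := by
        have := congrArg (fun t => g⁻¹ * t * g) h
        simpa [mul_assoc] using this
      rw [this]; simp
    · exact Or.inr h
  -- squares centralize A
  have hsqH : ∀ g : Q, g * g ∈ Subgroup.centralizer (A : Set Q) := by
    intro g
    have hcomm : Commute (g * g) (a : Q) := by
      have : (g * g) * a * (g * g)⁻¹ = a := by
        rcases hconj g with h | h
        · calc (g * g) * a * (g * g)⁻¹ = g * (g * a * g⁻¹) * g⁻¹ := by group
            _ = a := by rw [h, h]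
        · calc (g * g) * a * (g * g)⁻¹ = g * (g * a * g⁻¹) * g⁻¹ := by group
            _ = g * (a : Q)⁻¹ * g⁻¹ := by rw [h]
            _ = (g * a * g⁻¹)⁻¹ := by group
            _ = a := by rw [h]; simp
      have h2 : (g * g) * a = a * (g * g) := by
        calc (g * g) * a = ((g * g) * a * (g * g)⁻¹) * (g * g) := by group
          _ = a * (g * g) := by rw [this]
      exact h2
    rw [Subgroup.mem_centralizer_iff]
    intro b hb
    obtain ⟨k, rfl⟩ := hAel b hb
    exact ((hcomm.zpow_right k).eq).symm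
  -- the critical subgroup
  set C := critC A with hC
  have hCc : C.Characteristic := critC_characteristic A
  have hAC : A ≤ C := by
    intro b hb
    refine ⟨?_, A.mul_mem hb hb, fun x => ?_⟩
    · rw [Subgroup.mem_centralizer_iff]
      intro y hy
      exact hAcomm y hy b hb
    · have : ⁅b, x⁆ = b * (x * b⁻¹ * x⁻¹) := by
        simp only [commutatorElement_def]; group
      rw [this]
      exact A.mul_mem hb (hAn.conj_mem _ (A.inv_mem hb) x)
  -- Z(C) = A
  have hZC : C ⊓ Subgroup.centralizer (C : Set Q) ≤ A := by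
    apply hmaxle _ inferInstance
    · apply IsMulCommutative.of_setLike_mul_comm
      intro x hx y hy
      rw [Subgroup.mem_inf] at hx hy
      exact (Subgroup.mem_centralizer_iff.mp hy.2 x hx.1)
    · intro b hb
      rw [Subgroup.mem_inf]
      refine ⟨hAC hb, ?_⟩
      rw [Subgroup.mem_centralizer_iff]
      intro c hc
      exact (Subgroup.mem_centralizer_iff.mp hc.1 b hb).symm
  -- C_Q(C) ≤ A
  have hLA : Subgroup.centralizer (C : Set Q) ≤ A := by
    by_contra hLA
    set L := Subgroup.centralizer (C : Set Q) with hL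
    have hLn : L.Normal := inferInstance
    have hnil : Group.IsNilpotent Q := hQ.1.isNilpotent
    set π := QuotientGroup.mk' A with hπ
    have hLbn : (L.map π).Normal := hLn.map π (QuotientGroup.mk'_surjective A)
    have hLb : L.map π ≠ ⊥ := by
      intro h
      rw [Subgroup.map_eq_bot_iff, QuotientGroup.ker_mk'] at h
      exact hLA h
    have hmeet := Cfsg.Agent.S0065.result (L.map π) hLb
    obtain ⟨⟨w, hw⟩, hw1⟩ := (Subgroup.ne_bot_iff_exists_ne_one).mp hmeet
    have hw1' : w ≠ 1 := fun h => hw1 (Subtype.ext h)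
    have hPq : IsPGroup 2 (Q ⧸ A) := hQ.1.to_quotient A
    obtain ⟨k, hk⟩ := (IsPGroup.iff_orderOf.mp hPq) w
    have hk0 : k ≠ 0 := by
      rintro rfl
      rw [pow_zero, orderOf_eq_one_iff] at hk
      exact hw1' hk
    have hdvd : 2 ∣ orderOf w := by rw [hk]; exact dvd_pow_self 2 hk0
    have hone : orderOf w ≠ 0 := by rw [hk]; positivity
    set w' := w ^ (orderOf w / 2) with hw'
    have hw'2 : orderOf w' = 2 := orderOf_pow_orderOf_div hone hdvd
    have hw'mem : w' ∈ L.map π ⊓ Subgroup.center (Q ⧸ A) := Subgroup.pow_mem _ hw _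
    rw [Subgroup.mem_inf] at hw'mem
    obtain ⟨l, hlL, hlw⟩ := hw'mem.1
    have hw'c : ∀ y : Q ⧸ A, y * w' = w' * y := Subgroup.mem_center_iff.mp hw'mem.2
    have hlA : l ∉ A := by
      intro hl
      have : π l = 1 := (QuotientGroup.eq_one_iff l).mpr hl
      rw [hlw] at this
      rw [this, orderOf_one] at hw'2
      omega
    have hllA : l * l ∈ A := by
      rw [← QuotientGroup.eq_one_iff]
      have : ((l * l : Q) : Q ⧸ A) = π l * π l := rfl
      rw [this, hlw, ← pow_two, ← hw'2]
      exact pow_orderOf_eq_one w'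
    have hlcomm : ∀ x : Q, ⁅l, x⁆ ∈ A := by
      intro x
      rw [← QuotientGroup.eq_one_iff]
      have : ((⁅l, x⁆ : Q) : Q ⧸ A) = ⁅π l, π x⁆ := map_commutatorElement π l x
      rw [this, hlw, commutatorElement_def, ← hw'c (π x)]
      group
    have hlH : l ∈ Subgroup.centralizer (A : Set Q) :=
      Subgroup.centralizer_le hAC hlL
    have hlC : l ∈ C := ⟨hlH, hllA, hlcomm⟩
    exact hlA (hZC (Subgroup.mem_inf.mpr ⟨hlC, hlL⟩))
  -- commutators of C with anything have order at most 2
  have hcomm : ∀ c ∈ C, ∀ g : Q, ⁅c, g⁆ * ⁅c, g⁆ = 1 := by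
    intro c hc g
    obtain ⟨hc1, hc2, hc3⟩ := hc
    set t := ⁅c, g⁆ with ht
    have htA : t ∈ A := hc3 g
    set u := g * (c * c) * g⁻¹ with hu
    have huA : u ∈ A := hAn.conj_mem _ hc2 g
    have h1 : (c * g) * (c * g) = (t * u) * (g * g) := by
      rw [ht, hu]; simp only [commutatorElement_def]; group
    have hv : t * u ∈ A := A.mul_mem htA huA
    have hvg : (t * u) * (g * g) = (g * g) * (t * u) :=
      Subgroup.mem_centralizer_iff.mp (hsqH g) _ hv
    have huu : u * u = 1 := by
      have : u * u = g * (c ^ 4) * g⁻¹ := by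
        rw [hu]; simp only [pow_succ, pow_zero, one_mul]; group
      rw [this, h4 c]; group
    have h2 : (c * g) ^ 4 = t * t := by
      calc (c * g) ^ 4 = ((c * g) * (c * g)) * ((c * g) * (c * g)) := by
            simp only [pow_succ, pow_zero, one_mul, mul_assoc]
        _ = (t * u) * (g * g) * ((t * u) * (g * g)) := by rw [h1]
        _ = (t * u) * ((g * g) * (t * u)) * (g * g) := by group
        _ = (t * u) * ((t * u) * (g * g)) * (g * g) := by rw [hvg]
        _ = (t * u) * (t * u) * (g ^ 4) := by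
            simp only [pow_succ, pow_zero, one_mul, mul_assoc]
        _ = t * (u * t) * u := by rw [h4 g]; group
        _ = t * (t * u) * u := by rw [hAcomm u huA t htA]
        _ = t * t * (u * u) := by group
        _ = t * t := by rw [huu, mul_one]
    rw [← h2, h4]
  -- squares centralize C, hence lie in A
  intro g
  apply hLA
  rw [Subgroup.mem_centralizer_iff]
  intro c hc
  have htt := hcomm c hc g
  have htA : ⁅c, g⁆ ∈ A := hc.2.2 g
  have htc : ∀ y : Q, y * ⁅c, g⁆ = ⁅c, g⁆ * y := by
    rcases hE _ htA htt with h | h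
    · intro y; rw [h]; simp
    · intro y; rw [h]; exact hzcomm y
  exact sq_eq_of_comm_central htc htt rfl


/-- In a finite 2-group of symplectic type and exponent dividing 4, every commutator is `1` or
the central involution. -/
theorem comm_eq_one_or (hQ : Cfsg.IsOfSymplecticType Q)
    (h4 : ∀ x : Q, x ^ 4 = 1) (zQ : Q) (hz : orderOf zQ = 2) (hzc : zQ ∈ Subgroup.center Q) :
    ∀ x y : Q, ⁅x, y⁆ = 1 ∨ ⁅x, y⁆ = zQ := by
  intro x y
  have hsq := sq_eq_one_or hQ h4 zQ hz hzc
  have hzz : zQ * zQ = 1 := by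
    rw [← pow_two, ← hz]; exact pow_orderOf_eq_one zQ
  have hzcomm : ∀ g : Q, g * zQ = zQ * g := Subgroup.mem_center_iff.mp hzc
  have hxc : ∀ g : Q, g * (x⁻¹ * x⁻¹) = (x⁻¹ * x⁻¹) * g := by
    intro g
    rcases hsq x⁻¹ with h | h <;> rw [h]
    · simp
    · exact hzcomm g
  have key : ⁅x, y⁆ = (x * y) * (x * y) * (x⁻¹ * x⁻¹) * (y⁻¹ * y⁻¹) := by
    have : (x * y) * (x * y) * (x⁻¹ * x⁻¹) * (y⁻¹ * y⁻¹)
        = x * y * x * (y * (x⁻¹ * x⁻¹)) * (y⁻¹ * y⁻¹) := by group
    rw [this, hxc y, commutatorElement_def]; group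
  rw [key]
  rcases hsq (x * y) with h1 | h1 <;> rcases hsq x⁻¹ with h2 | h2 <;>
    rcases hsq y⁻¹ with h3 | h3 <;> rw [h1, h2, h3]
  · left; simp
  · right; simp
  · right; simp
  · left; simp [hzz]
  · right; simp
  · left; simp [hzz]
  · left; simp [hzz]
  · right; simp [hzz]

end Cfsg.Agent.Lib.Helper30.SympExp4
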